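/-
Recognition of the natural SL₂(F)-module from a PSL₂(F) quotient: a group G with a map onto PSL₂(F) acting on
M of order q² such that a p-subgroup S over the upper unitriangular group fixes q points and moves M into them.
-/
import Mathlib
import Cfsg.Agent.Lib.LocalEven.NaturalRecognition

set_option autoImplicit false
set_option linter.unusedSectionVars false

namespace CfsgLib.PushingUp.Elation

open Matrix CfsgLib.LocalEven.NaturalRecognition
open scoped MatrixGroups

variable {F : Type*} [Field F]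

/-- The projection onto `PSL₂(F)`. -/
def pr (F : Type*) [Field F] : SL(2, F) →* ProjectiveSpecialLinearGroup (Fin 2) F :=
  QuotientGroup.mk' (Subgroup.center SL(2, F))

theorem entry_eq_zero {A B : SL(2, F)} (h : pr F A = pr F B) (hB : B.1 1 0 = 0) : A.1 1 0 = 0 := by
  have hc : A⁻¹ * B ∈ Subgroup.center SL(2, F) := QuotientGroup.eq.1 h
  obtain ⟨r, -, hrz⟩ := Matrix.SpecialLinearGroup.mem_center_iff.1 hc
  have e : B.1 = A.1 * (A⁻¹ * B).1 := by
    rw [← val_mul, mul_inv_cancel_left]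
  rw [← hrz] at e
  have h10 := congrFun (congrFun e 1) 0
  simp [Matrix.mul_apply, Fin.sum_univ_two, hB] at h10
  rcases h10 with h10 | h10
  · exact h10
  · subst h10
    have hd := congrArg Matrix.det e
    rw [B.2, Matrix.det_mul, A.2] at hd
    simp at hd

theorem pr_up_injective {s t : F} (h : pr F (up s) = pr F (up t)) : s = t := by
  have hc : (up s)⁻¹ * up t ∈ Subgroup.center SL(2, F) := QuotientGroup.eq.1 h
  rw [up_neg, ← up_add] at hc
  obtain ⟨r, -, hrz⟩ := Matrix.SpecialLinearGroup.mem_center_iff.1 hc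
  have h01 := congrFun (congrFun hrz 0) 1
  simp [up_coe] at h01
  linear_combination h01

theorem conj_wel_up {s t : F} (ht : t ≠ 0) : wel t * up s * (wel t)⁻¹ = lo (-(s / t ^ 2)) := by
  rw [mul_inv_eq_iff_eq_mul, lo_mul_wel ht]
  congr 2
  field_simp

theorem conj_wel_inv_up {s t : F} (ht : t ≠ 0) : (wel t)⁻¹ * up s * wel t = lo (-(s / t ^ 2)) := by
  rw [mul_assoc, up_mul_wel ht, inv_mul_cancel_left]

theorem conj_wel_inv_lo {s t : F} (ht : t ≠ 0) : (wel t)⁻¹ * lo s * wel t = up (-(t ^ 2 * s)) := by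
  rw [mul_assoc, lo_mul_wel ht, inv_mul_cancel_left]

theorem entry_conj (a r : F) : (lo a * up r * lo (-a) : SL(2, F)).1 1 0 = -(a ^ 2 * r) := by
  simp [lo_coe, up_coe, Matrix.mul_apply, Fin.sum_univ_two]
  ring

theorem entry_lo (a : F) : (lo a : SL(2, F)).1 1 0 = a := by simp [lo_coe]

theorem entry_up (a : F) : (up a : SL(2, F)).1 1 0 = 0 := by simp [up_coe]

theorem up_mulVec (t : F) (w : Fin 2 → F) : (up t).1.mulVec w = ![w 0 + t * w 1, w 1] := by
  ext i; fin_cases i <;> simp [up_coe, Matrix.mulVec, dotProduct, Fin.sum_univ_two]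

theorem lo_mulVec (t : F) (w : Fin 2 → F) : (lo t).1.mulVec w = ![w 0, t * w 0 + w 1] := by
  ext i; fin_cases i <;> simp [lo_coe, Matrix.mulVec, dotProduct, Fin.sum_univ_two]

theorem mulVec_injective {A B : SL(2, F)} (h : ∀ v, A.1.mulVec v = B.1.mulVec v) : A = B :=
  Subtype.ext (Matrix.ext_iff_mulVec.2 h)

variable {G : Type*} [Group G] {M : Type*} [AddCommGroup M] [DistribMulAction G M]

/-- The points fixed by `S`. -/
def fixPts (M : Type*) [AddCommGroup M] [DistribMulAction G M] (S : Subgroup G) : AddSubgroup M where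
  carrier := {m | ∀ s ∈ S, s • m = m}
  zero_mem' _ _ := smul_zero _
  add_mem' {a b} ha hb s hs := by rw [smul_add, ha s hs, hb s hs]
  neg_mem' {a} ha s hs := by rw [smul_neg, ha s hs]

variable (φ : G →* ProjectiveSpecialLinearGroup (Fin 2) F) (S : Subgroup G) (h₀ : G)

variable (M) in
/-- The hypotheses of the recognition lemma. -/
structure Data (p : ℕ) : Prop where
  up_mem : ∀ s ∈ S, ∃ t, φ s = pr F (up t)
  up_surj : ∀ t, ∃ s ∈ S, φ s = pr F (up t)
  map_wel : φ h₀ = pr F (wel 1)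
  gen : ∀ k : G, (∃ s ∈ S, ∀ t, φ (k * s * k⁻¹) ≠ pr F (up t)) → S ⊔ S.map (MulAut.conj k).toMonoidHom = ⊤
  ker_S : ∀ s ∈ S, φ s = 1 → ∀ m : M, s • m = m
  ker_p : ∀ k : G, φ k = 1 → ∀ i : ℕ, k ^ p ^ i = 1 → ∀ m : M, k • m = m
  fix_top : ∀ m : M, (∀ g : G, g • m = m) → m = 0
  quad : ∀ s ∈ S, ∀ m : M, s • m - m ∈ fixPts M S
  card_fix : Nat.card (fixPts M S) = Nat.card F
  card_top : Nat.card M = Nat.card F * Nat.card F

variable {φ S h₀} {p : ℕ}

namespace Data

variable (D : Data M φ S h₀ p)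
include D

theorem disj {k : G} (hk : ∃ s ∈ S, ∀ t, φ (k * s * k⁻¹) ≠ pr F (up t)) {x : M}
    (hx : x ∈ fixPts M S) (hkx : k⁻¹ • x ∈ fixPts M S) : x = 0 := by
  refine D.fix_top x fun g => ?_
  have hle : S ⊔ S.map (MulAut.conj k).toMonoidHom ≤ MulAction.stabilizer G x := by
    refine sup_le (fun s hs => hx s hs) ?_
    rintro _ ⟨s, hs, rfl⟩
    show (k * s * k⁻¹) • x = x
    rw [mul_smul, mul_smul, hkx s hs, smul_inv_smul]
  rw [D.gen k hk] at hle
  exact hle (Subgroup.mem_top g)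

theorem eq_of_map_eq {a b : G} (ha : a ∈ S) (hb : b ∈ S) (e : φ a = φ b) (m : M) : a • m = b • m := by
  have := D.ker_S (b⁻¹ * a) (S.mul_mem (S.inv_mem hb) ha) (by rw [map_mul, map_inv, e, inv_mul_cancel]) m
  rw [mul_smul, inv_smul_eq_iff] at this
  exact this

theorem exists_equiv [Finite G] [Finite M] [Finite F] [hp : Fact p.Prime] [CharP F p] :
    ∃ (ρ : G →* SL(2, F)) (ψ : M ≃+ (Fin 2 → F)),
      Function.Surjective ρ ∧ (∀ g (m : M), ψ (g • m) = (ρ g).1.mulVec (ψ m)) ∧
      (∀ g, pr F (ρ g) = φ g) ∧ (∀ g, ρ g = 1 ↔ ∀ m : M, g • m = m) ∧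
      (∀ s ∈ S, ∀ t, φ s = pr F (up t) → ρ s = up t) ∧
      (∀ r ∈ S.map (MulAut.conj h₀).toMonoidHom, ∀ t, φ r = pr F (lo t) → ρ r = lo t) ∧
      (∀ m : M, m ∈ fixPts M S ↔ ψ m 1 = 0) ∧ (∀ m : M, h₀⁻¹ • m ∈ fixPts M S ↔ ψ m 0 = 0) := by
  classical
  have := Fintype.ofFinite F
  choose u hu hφu using D.up_surj
  set X := fixPts M S with hX
  have h1 : (1 : F) ≠ 0 := one_ne_zero
  -- the conjugates of X
  let c : Option F → G := fun i => i.elim 1 (fun t => u t * h₀)
  have hnu : ∀ {A : SL(2, F)}, A.1 1 0 ≠ 0 → ∀ t, pr F A ≠ pr F (up t) := fun hA t e =>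
    hA (entry_eq_zero e (entry_up t))
  have hnone : ∀ t, ∃ s ∈ S, ∀ r, φ ((u t * h₀) * s * (u t * h₀)⁻¹) ≠ pr F (up r) := fun t => by
    refine ⟨u 1, hu 1, fun r e => ?_⟩
    have e' : φ (h₀ * u 1 * h₀⁻¹) = pr F (up r) := by
      have : h₀ * u 1 * h₀⁻¹ = (u t)⁻¹ * ((u t * h₀) * u 1 * (u t * h₀)⁻¹) * u t := by group
      rw [this, map_mul, map_mul, map_inv, e, hφu, ← map_inv, ← map_mul, ← map_mul, up_neg, ← up_add, ← up_add]
      congr 2
      ring
    rw [map_mul, map_mul, map_inv, D.map_wel, hφu, ← map_inv, ← map_mul, ← map_mul, conj_wel_up h1] at e'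
    refine hnu ?_ _ e'
    rw [entry_lo]
    simp
  have hsome : ∀ t t', t ≠ t' →
      ∃ s ∈ S, ∀ r, φ (((u t * h₀)⁻¹ * (u t' * h₀)) * s * ((u t * h₀)⁻¹ * (u t' * h₀))⁻¹) ≠ pr F (up r) := by
    intro t t' htt
    refine ⟨u 1, hu 1, fun r e => ?_⟩
    rw [map_mul, map_mul, map_inv, map_mul, map_inv, map_mul, map_mul, D.map_wel, hφu, hφu, hφu] at e
    rw [← map_mul, ← map_mul, ← map_inv, ← map_mul, ← map_mul, ← map_inv, ← map_mul] at e
    have hk : ((up t * wel 1)⁻¹ * (up t' * wel 1) : SL(2, F)) = lo (-(t' - t)) := by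
      rw [show ((up t * wel 1)⁻¹ * (up t' * wel 1) : SL(2, F)) = (wel 1)⁻¹ * ((up t)⁻¹ * up t') * wel 1 by group,
        up_neg, ← up_add, conj_wel_inv_up h1]
      congr 1
      ring
    rw [hk, lo_neg] at e
    refine hnu ?_ _ e
    rw [entry_conj, neg_ne_zero, mul_one]
    exact pow_ne_zero _ (neg_ne_zero.2 (sub_ne_zero.2 (Ne.symm htt)))
  have hdisj : ∀ i j : Option F, i ≠ j → ∀ x ∈ X, ∀ y ∈ X, c i • x = c j • y → x = 0 := by
    intro i j hij x hx y hy e
    match i, j with
    | none, none => exact absurd rfl hij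
    | none, some t =>
      refine D.disj (k := u t * h₀) (hnone t) hx ?_
      rw [show c none • x = x from one_smul _ _] at e
      rw [e]
      show (u t * h₀)⁻¹ • (u t * h₀) • y ∈ _
      rw [inv_smul_smul]; exact hy
    | some t, none =>
      have hy0 : y = 0 := by
        refine D.disj (k := u t * h₀) (hnone t) hy ?_
        rw [show c none • y = y from one_smul _ _] at e
        rw [← e]
        show (u t * h₀)⁻¹ • (u t * h₀) • x ∈ _
        rw [inv_smul_smul]; exact hx
      rw [hy0, smul_zero, smul_eq_zero_iff_eq] at e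
      exact e
    | some t, some t' =>
      refine D.disj (hsome t t' (fun e => hij (congrArg some e))) hx ?_
      have : ((u t * h₀)⁻¹ * (u t' * h₀))⁻¹ • x = y := by
        rw [_root_.mul_inv_rev, inv_inv, mul_smul, show (u t * h₀) • x = (u t' * h₀) • y from e, inv_smul_smul]
      rw [this]; exact hy
  have hcover : ∀ m : M, m ≠ 0 → ∃ i, ∃ x ∈ X, c i • x = m := by
    let f : Option F × {x : M // x ∈ X ∧ x ≠ 0} → {m : M // m ≠ 0} := fun a =>
      ⟨c a.1 • (a.2 : M), fun e => a.2.2.2 ((smul_eq_zero_iff_eq _).1 e)⟩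
    have hf : Function.Injective f := by
      rintro ⟨i, x, hx, hx0⟩ ⟨j, y, hy, hy0⟩ e
      have e' : c i • x = c j • y := congrArg Subtype.val e
      by_cases hij : i = j
      · subst hij
        exact Prod.ext rfl (Subtype.ext (MulAction.injective _ e'))
      · exact absurd (hdisj i j hij x hx y hy e') hx0
    have hbij : Function.Bijective f := by
      refine hf.bijective_of_nat_card_le (le_of_eq ?_)
      have e1 : Nat.card {x : M // x ∈ X ∧ x ≠ 0} + 1 = Nat.card X := by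
        rw [show Nat.card X = Nat.card {x : M // x ∈ X} from rfl, ← Finite.card_option]
        refine Nat.card_congr
          { toFun := fun a => a.elim ⟨0, X.zero_mem⟩ (fun x => ⟨x.1, x.2.1⟩)
            invFun := fun x => if h : (x : M) = 0 then none else some ⟨x.1, x.2, h⟩
            left_inv := ?_
            right_inv := ?_ }
        · rintro (_ | ⟨x, hx, hx0⟩)
          · simp
          · simp [hx0]
        · rintro ⟨x, hx⟩
          by_cases h : x = 0
          · subst h; simp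
          · simp [h]
      have e2 : Nat.card {m : M // m ≠ 0} + 1 = Nat.card M := by
        rw [← Finite.card_option]
        exact Nat.card_congr (Equiv.optionSubtypeNe 0)
      rw [Nat.card_prod, Finite.card_option]
      rw [D.card_fix] at e1
      rw [D.card_top] at e2
      have hq : 1 ≤ Nat.card F := Nat.card_pos
      nlinarith
    intro m hm
    obtain ⟨⟨i, x, hx, _⟩, e⟩ := hbij.2 ⟨m, hm⟩
    exact ⟨i, x, hx, congrArg Subtype.val e⟩
  set Y := fixPts M (S.map (MulAut.conj h₀).toMonoidHom) with hY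
  have hYiff : ∀ m : M, m ∈ Y ↔ h₀⁻¹ • m ∈ X := by
    intro m
    constructor
    · intro hm s hs
      have e : (h₀ * s * h₀⁻¹) • m = m := hm _ ⟨s, hs, rfl⟩
      rw [mul_smul, mul_smul] at e
      exact eq_inv_smul_iff.2 e
    · rintro hm _ ⟨s, hs, rfl⟩
      show (h₀ * s * h₀⁻¹) • m = m
      rw [mul_smul, mul_smul, hm s hs, smul_inv_smul]
  have hu0 : ∀ m : M, u 0 • m = m := D.ker_S _ (hu 0) (by rw [hφu, up_zero, map_one])
  -- elements over wel t swap X and Y
  have hswap : ∀ t, t ≠ 0 → ∀ g, φ g = pr F (wel t) → ∀ x ∈ X, g • x ∈ Y := by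
    intro t ht g hg x hx
    by_cases hx0 : x = 0
    · rw [hx0, smul_zero]; exact Y.zero_mem
    obtain ⟨i, y, hy, e⟩ := hcover (g • x) (fun e => hx0 ((smul_eq_zero_iff_eq _).1 e))
    match i with
    | none =>
      rw [show c none • y = y from one_smul _ _] at e
      refine absurd (D.disj (k := g⁻¹) ⟨u 1, hu 1, fun r e' => ?_⟩ hx (by rw [inv_inv, ← e]; exact hy)) hx0
      rw [inv_inv, map_mul, map_mul, map_inv, hg, hφu, ← map_inv, ← map_mul, ← map_mul,
        conj_wel_inv_up ht] at e'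
      refine hnu ?_ _ e'
      rw [entry_lo, neg_ne_zero]
      exact div_ne_zero h1 (pow_ne_zero _ ht)
    | some s =>
      by_cases hs : s = 0
      · subst hs
        rw [show c (some 0) • y = u 0 • h₀ • y from mul_smul _ _ _, hu0] at e
        rw [hYiff, ← e, inv_smul_smul]
        exact hy
      refine absurd (D.disj (k := (u s * h₀)⁻¹ * g) ⟨u 1, hu 1, fun r e' => ?_⟩ hy ?_) ?_
      · rw [map_mul, map_mul, map_inv, map_mul, map_inv, map_mul, D.map_wel, hg, hφu, hφu] at e'
        rw [← map_mul, ← map_inv, ← map_mul, ← map_mul, ← map_inv, ← map_mul] at e'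
        have hk : ((up s * wel 1)⁻¹ * wel t * up 1 * ((up s * wel 1)⁻¹ * wel t)⁻¹ : SL(2, F)) =
            lo s * up (1 / t ^ 2) * lo (-s) := by
          rw [show ((up s * wel 1)⁻¹ * wel t * up 1 * ((up s * wel 1)⁻¹ * wel t)⁻¹ : SL(2, F)) =
              ((wel 1)⁻¹ * (up s)⁻¹ * wel 1) * ((wel 1)⁻¹ * (wel t * up 1 * (wel t)⁻¹) * wel 1) *
                ((wel 1)⁻¹ * up s * wel 1) by group,
            conj_wel_up ht, up_neg, conj_wel_inv_up h1, conj_wel_inv_up h1, conj_wel_inv_lo h1]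
          congr <;> simp
        rw [hk] at e'
        refine hnu ?_ _ e'
        rw [entry_conj, neg_ne_zero]
        exact mul_ne_zero (pow_ne_zero _ hs) (div_ne_zero h1 (pow_ne_zero _ ht))
      · rw [_root_.mul_inv_rev, inv_inv, mul_smul, show (u s * h₀) • y = g • x from e, inv_smul_smul]
        exact hx
      · intro hy0
        rw [hy0, smul_zero] at e
        exact hx0 ((smul_eq_zero_iff_eq _).1 e.symm)
  -- M = X ⊕ Y
  have hcardY : Nat.card Y = Nat.card X := Nat.card_congr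
    { toFun := fun y => ⟨h₀⁻¹ • (y : M), (hYiff _).1 y.2⟩
      invFun := fun x => ⟨h₀ • (x : M), (hYiff _).2 (by rw [inv_smul_smul]; exact x.2)⟩
      left_inv := fun y => Subtype.ext (smul_inv_smul _ _)
      right_inv := fun x => Subtype.ext (inv_smul_smul _ _) }
  have hXY : ∀ m ∈ X, m ∈ Y → m = 0 := fun m hmX hmY => by
    refine D.disj (k := h₀) ⟨u 1, hu 1, fun r e => ?_⟩ hmX ((hYiff m).1 hmY)
    rw [map_mul, map_mul, map_inv, D.map_wel, hφu, ← map_inv, ← map_mul, ← map_mul, conj_wel_up h1] at e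
    refine hnu ?_ _ e
    rw [entry_lo]; simp
  have hsum : Function.Bijective (fun a : X × Y => (a.1 : M) + a.2) := by
    refine Function.Injective.bijective_of_nat_card_le ?_ ?_
    · rintro ⟨x, y⟩ ⟨x', y'⟩ (e : (x : M) + y = x' + y')
      have h2 : (x : M) - x' = y' - y := by rw [sub_eq_sub_iff_add_eq_add, e]; abel
      have h0 := hXY _ (X.sub_mem x.2 x'.2) (h2 ▸ Y.sub_mem y'.2 y.2)
      rw [h0] at h2
      exact Prod.ext (Subtype.ext (sub_eq_zero.1 h0)) (Subtype.ext (sub_eq_zero.1 h2.symm).symm)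
    · rw [Nat.card_prod, hcardY, D.card_fix, D.card_top]
  -- the maps σ
  let σ : F → (Y →+ X) := fun t =>
    { toFun := fun y => ⟨u t • (y : M) - y, D.quad _ (hu t) _⟩
      map_zero' := Subtype.ext (by simp)
      map_add' := fun a b => Subtype.ext (by
        show u t • ((a : M) + b) - (a + b) = (u t • (a : M) - a) + (u t • (b : M) - b)
        rw [smul_add]; abel) }
  have hσ : ∀ t (y : Y), u t • (y : M) = y + (σ t y : M) := fun t y => by
    show u t • (y : M) = y + (u t • (y : M) - y); abel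
  have hσadd : ∀ s t y, σ (s + t) y = σ s y + σ t y := fun s t y => by
    refine Subtype.ext ?_
    show u (s + t) • (y : M) - y = (u s • (y : M) - y) + (u t • (y : M) - y)
    rw [D.eq_of_map_eq (hu (s + t)) (S.mul_mem (hu s) (hu t))
      (by rw [map_mul, hφu, hφu, hφu, up_add, map_mul]), mul_smul, hσ t y, smul_add,
      (σ t y).2 _ (hu s)]
    abel
  -- lifts of lo t fixing Y
  let r : F → G := fun t => h₀ * u (-t) * h₀⁻¹
  have hr : ∀ t, r t ∈ S.map (MulAut.conj h₀).toMonoidHom := fun t => ⟨_, hu _, rfl⟩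
  have hφr : ∀ t, φ (r t) = pr F (lo t) := fun t => by
    rw [map_mul, map_mul, map_inv, D.map_wel, hφu, ← map_inv, ← map_mul, ← map_mul, conj_wel_up h1]
    congr 2
    simp
  let τ : F → (X →+ Y) := fun t =>
    { toFun := fun x => ⟨r t • (x : M) - x, (hYiff _).2 (by
        have hh := D.quad _ (hu (-t)) (h₀⁻¹ • (x : M))
        have e : h₀⁻¹ • (r t • (x : M) - x) = u (-t) • (h₀⁻¹ • (x : M)) - h₀⁻¹ • (x : M) := by
          rw [smul_sub, ← mul_smul, ← mul_smul]
          congr 2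
          show h₀⁻¹ * (h₀ * u (-t) * h₀⁻¹) = u (-t) * h₀⁻¹
          group
        rw [e]; exact hh)⟩
      map_zero' := Subtype.ext (by simp)
      map_add' := fun a b => Subtype.ext (by
        show r t • ((a : M) + b) - (a + b) = (r t • (a : M) - a) + (r t • (b : M) - b)
        rw [smul_add]; abel) }
  have hτ : ∀ t (x : X), r t • (x : M) = x + (τ t x : M) := fun t x => by
    show r t • (x : M) = x + (r t • (x : M) - x); abel
  have hτneg : ∀ t x, τ (-t) x = -τ t x := fun t x => by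
    refine Subtype.ext ?_
    show r (-t) • (x : M) - x = -(r t • (x : M) - x)
    have e : ∀ m : M, r (-t) • m = (r t)⁻¹ • m := fun m => by
      have h3 := D.eq_of_map_eq (hu (- -t)) (S.inv_mem (hu (-t)))
        (by rw [map_inv, hφu, hφu, ← map_inv, up_neg]) (h₀⁻¹ • m)
      rw [show (r t)⁻¹ = h₀ * (u (-t))⁻¹ * h₀⁻¹ by simp only [r]; group, show r (-t) = h₀ * u (- -t) * h₀⁻¹ from rfl,
        mul_smul, mul_smul, mul_smul, mul_smul, h3]
    rw [e]
    have h4 : (τ t x : M) ∈ Y := (τ t x).2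
    have h5 : (r t)⁻¹ • (τ t x : M) = τ t x := h4 _ (Subgroup.inv_mem _ (hr t))
    have h6 : (r t)⁻¹ • (x : M) = x - (τ t x : M) := by
      rw [inv_smul_eq_iff, smul_sub, hτ t x, (h4 _ (hr t) : r t • (τ t x : M) = _)]
      abel
    rw [h6, hτ t x]; abel
  have hinv : ∀ t, t ≠ 0 → ∀ x, σ t (τ t⁻¹ x) = x := by
    intro t ht x
    have hw : φ (u t * r (-t⁻¹) * u t) = pr F (wel t) := by
      rw [map_mul, map_mul, hφu, hφr, ← map_mul, ← map_mul]; rfl
    have h2 := hswap t ht _ hw x x.2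
    rw [mul_smul, mul_smul, (x.2 _ (hu t) : u t • (x : M) = x), hτ, smul_add, hσ,
      (x.2 _ (hu t) : u t • (x : M) = x), hτneg, map_neg] at h2
    have h3 : (x : M) + -(σ t (τ t⁻¹ x) : M) ∈ Y := by
      have e : (x : M) + -(σ t (τ t⁻¹ x) : M) =
          ((x : M) + ((-τ t⁻¹ x : Y) + ((-σ t (τ t⁻¹ x) : X) : M))) - ((-τ t⁻¹ x : Y) : M) := by
        push_cast; abel
      rw [e]
      exact Y.sub_mem h2 (-τ t⁻¹ x).2
    exact (Subtype.ext (neg_add_eq_zero.1
      ((neg_add_eq_sub _ _).trans ((sub_eq_add_neg _ _).trans (hXY _ (X.add_mem x.2 (X.neg_mem (σ t _).2)) h3)))) :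
      σ t (τ t⁻¹ x) = x)
  have hk : Function.Bijective (σ 1) := by
    refine Function.Surjective.bijective_of_nat_card_le (fun x => ⟨_, hinv 1 h1 x⟩) hcardY.le
  let k : Y ≃+ X := AddEquiv.ofBijective (σ 1) hk
  have hk1 : ∀ y, k y = σ 1 y := fun y => rfl
  have hτ1 : ∀ x, τ 1 x = k.symm x := fun x => by
    rw [AddEquiv.eq_symm_apply, hk1]
    have := hinv 1 h1 x
    rwa [inv_one] at this
  let f : F →+ AddMonoid.End X := AddMonoidHom.mk' (fun t => (σ t).comp k.symm.toAddMonoidHom)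
    (fun s t => AddMonoidHom.ext fun x => hσadd s t (k.symm x))
  have hf : ∀ t x, f t x = σ t (k.symm x) := fun _ _ => rfl
  have hf1 : f 1 = 1 := AddMonoidHom.ext fun x => by
    show f 1 x = x
    rw [hf, ← hk1, AddEquiv.apply_symm_apply]
  have hpX : ∀ x : X, p • x = 0 := fun x => by
    have e : p • f 1 = 0 := by rw [← map_nsmul, nsmul_eq_mul, CharP.cast_eq_zero, zero_mul, map_zero]
    rw [hf1] at e
    exact DFunLike.congr_fun e x
  -- a kernel element unipotent on M is trivial on M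
  have hunip : ∀ e : G, φ e = 1 → (∀ y ∈ Y, e • y = y) → ∀ x : X, e • (x : M) - x ∈ Y → e • (x : M) = x := by
    intro e he hey x hd
    have hn : ∀ n : ℕ, e ^ n • (x : M) = x + n • (e • (x : M) - x) := by
      intro n
      induction n with
      | zero => simp
      | succ n ih =>
        rw [pow_succ', mul_smul, ih, smul_add, hey _ (Y.nsmul_mem hd n), succ_nsmul]
        abel
    have h3 : e ^ p • (x : M) = x := by
      rw [hn p]
      have hd' : p • (e • (x : M) - x) = 0 := by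
        have h7 := congrArg (fun z : X => (z : M)) (hpX ⟨h₀⁻¹ • (e • (x : M) - x), (hYiff _).1 hd⟩)
        simp only [AddSubgroup.coe_nsmul, AddSubgroup.coe_zero] at h7
        rw [← smul_comm, smul_eq_zero_iff_eq] at h7
        exact h7
      rw [hd', add_zero]
    obtain ⟨i, m, hm, hord⟩ := Nat.exists_eq_pow_mul_and_not_dvd (orderOf_pos e).ne' p hp.out.ne_one
    have h4 : e ^ m • (x : M) = x := D.ker_p _ (by rw [map_pow, he, one_pow]) i
      (by rw [← pow_mul, mul_comm, ← hord, pow_orderOf_eq_one]) _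
    have hco : Nat.gcd p m = 1 := (hp.out.coprime_iff_not_dvd).2 hm
    have h5 : Subgroup.zpowers e ⊓ MulAction.stabilizer G (x : M) = Subgroup.zpowers e := by
      refine le_antisymm inf_le_left (le_inf le_rfl (Subgroup.zpowers_le.2 ?_))
      have hg := Nat.gcd_eq_gcd_ab p m
      rw [hco] at hg
      have e2 : e = (e ^ p) ^ (Nat.gcdA p m) * (e ^ m) ^ (Nat.gcdB p m) := by
        rw [← zpow_natCast, ← zpow_natCast, ← _root_.zpow_mul, ← _root_.zpow_mul, ← _root_.zpow_add, ← hg, Nat.cast_one, zpow_one]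
      rw [e2]
      exact Subgroup.mul_mem _ (Subgroup.zpow_mem _ h3 _) (Subgroup.zpow_mem _ h4 _)
    exact (inf_eq_left.1 h5 : Subgroup.zpowers e ≤ _) (Subgroup.mem_zpowers e)
  have hτf : ∀ t x, τ t x = k.symm (f t x) := by
    intro t x
    let w := u 1 * r (-1) * u 1
    have hw : φ w = pr F (wel 1) := by
      rw [map_mul, map_mul, hφu, hφr, ← map_mul, ← map_mul]
      simp [wel]
    have hwx : ∀ x : X, w • (x : M) = ((-k.symm x : Y) : M) := fun x => by
      rw [mul_smul, mul_smul, (x.2 _ (hu 1) : u 1 • (x : M) = x), hτ, smul_add, hσ,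
        (x.2 _ (hu 1) : u 1 • (x : M) = x), hτneg, hτ1, ← hk1, map_neg, AddEquiv.apply_symm_apply]
      push_cast; abel
    have hwy : ∀ y : Y, w • (y : M) = (k y : M) := fun y => by
      rw [mul_smul, mul_smul, hσ, smul_add, (y.2 _ (hr (-1)) : r (-1) • (y : M) = y), hτ, hτneg, hτ1, ← hk1,
        AddEquiv.symm_apply_apply]
      push_cast
      rw [show (y : M) + ((k y : M) + -(y : M)) = (k y : M) by abel]
      exact (k y).2 _ (hu 1)
    let e := (r (-t))⁻¹ * (w * u t * w⁻¹)
    have he : φ e = 1 := by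
      show φ ((r (-t))⁻¹ * (w * u t * w⁻¹)) = 1
      rw [map_mul φ (r (-t))⁻¹, map_inv φ (r (-t)), map_mul φ (w * u t) w⁻¹, map_mul φ w, map_inv φ w, hw,
        hφu, hφr, ← map_inv, ← map_inv, ← map_mul, ← map_mul,
        ← map_mul, conj_wel_up h1, lo_neg, ← lo_add]
      simp [lo_zero]
    have hwinv : ∀ y : Y, w⁻¹ • (y : M) = ((-k y : X) : M) := fun y => by
      rw [inv_smul_eq_iff, hwx, map_neg, AddEquiv.symm_apply_apply, neg_neg]
    have hwinv' : ∀ x : X, w⁻¹ • (x : M) = (k.symm x : M) := fun x => by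
      rw [inv_smul_eq_iff, hwy, AddEquiv.apply_symm_apply]
    have hey : ∀ y ∈ Y, e • y = y := fun y hy => by
      rw [mul_smul, mul_smul, mul_smul, hwinv ⟨y, hy⟩, ((-k ⟨y, hy⟩).2 _ (hu t) :
        u t • ((-k ⟨y, hy⟩ : X) : M) = _), hwx, map_neg, AddEquiv.symm_apply_apply, neg_neg]
      exact hy _ (Subgroup.inv_mem _ (hr (-t)))
    have hconj : (w * u t * w⁻¹) • (x : M) = x + ((-k.symm (f t x) : Y) : M) := by
      rw [mul_smul, mul_smul, hwinv', hσ, smul_add, hwy, AddEquiv.apply_symm_apply, ← hf, hwx]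
    have hrinv : (r (-t))⁻¹ • (x : M) = x + (τ t x : M) := by
      rw [inv_smul_eq_iff, smul_add, hτ, hτneg, ((τ t x).2 _ (hr (-t)) : r (-t) • (τ t x : M) = _)]
      push_cast; abel
    have hex : e • (x : M) = x + ((τ t x - k.symm (f t x) : Y) : M) := by
      rw [mul_smul, hconj, smul_add, hrinv,
        ((-k.symm (f t x)).2 _ (Subgroup.inv_mem _ (hr (-t))) : (r (-t))⁻¹ • ((-k.symm (f t x) : Y) : M) = _)]
      push_cast; abel
    have h7 := hunip e he hey x (by rw [hex, add_sub_cancel_left]; exact SetLike.coe_mem _)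
    rw [hex, add_eq_left] at h7
    exact sub_eq_zero.1 (Subtype.ext h7)
  have hfinv : ∀ t, t ≠ 0 → f t * f t⁻¹ = 1 := fun t ht => AddMonoidHom.ext fun x => by
    show f t (f t⁻¹ x) = x
    rw [hf t, ← hτf, hinv t ht]
  have hfinv' : ∀ t, t ≠ 0 → f t⁻¹ * f t = 1 := fun t ht => by
    have := hfinv t⁻¹ (inv_ne_zero ht)
    rwa [inv_inv] at this
  have hua : ∀ a b, f (a * b * a) = f a * f b * f a := by
    intro a b
    rcases eq_or_ne a 0 with rfl | ha
    · simp
    rcases eq_or_ne b 0 with rfl | hb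
    · simp
    rcases eq_or_ne (a * b) 1 with hab | hab
    · rw [hab, one_mul]
      obtain rfl : b = a⁻¹ := (inv_eq_of_mul_eq_one_right hab).symm
      rw [hfinv a ha, one_mul]
    have hd : b⁻¹ - a ≠ 0 := sub_ne_zero.2 fun e => hab (by rw [← e, inv_mul_cancel₀ hb])
    have hv : a - a * b * a ≠ 0 := by
      rw [show a - a * b * a = a * (1 - a * b) by ring]
      exact mul_ne_zero ha (sub_ne_zero.2 (Ne.symm hab))
    have hv' : (a - a * b * a)⁻¹ = a⁻¹ + (b⁻¹ - a)⁻¹ := by
      refine inv_eq_of_mul_eq_one_right ?_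
      rw [show a - a * b * a = a * (b⁻¹ - a) * b by
        rw [mul_sub, sub_mul, mul_assoc a b⁻¹ b, inv_mul_cancel₀ hb, mul_one]; ring, mul_add,
        show a * (b⁻¹ - a) * b * a⁻¹ = (b⁻¹ - a) * b * (a * a⁻¹) by ring,
        show a * (b⁻¹ - a) * b * (b⁻¹ - a)⁻¹ = a * b * ((b⁻¹ - a) * (b⁻¹ - a)⁻¹) by ring,
        mul_inv_cancel₀ ha, mul_inv_cancel₀ hd, mul_one, mul_one, sub_mul, inv_mul_cancel₀ hb]
      ring
    set A := f a
    set A' := f a⁻¹
    set B := f b
    set B' := f b⁻¹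
    set C := f (b⁻¹ - a) with hC
    set C' := f (b⁻¹ - a)⁻¹
    have e1 : f (a - a * b * a) * (A' + C') = 1 := by
      rw [← map_add f, ← hv']
      exact hfinv _ hv
    have hCB : C = B' - A := by rw [hC, map_sub]
    have e2 : (A' + C') = A' * B' * C' := by
      calc A' + C' = A' * (C * C') + (A' * A) * C' := by
            rw [show C * C' = 1 from hfinv _ hd, show A' * A = 1 from hfinv' _ ha, mul_one, one_mul]
        _ = A' * (C + A) * C' := by rw [mul_add, add_mul, mul_assoc, mul_assoc]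
        _ = _ := by rw [hCB, sub_add_cancel]
    have e3 : (A' * B' * C') * (C * B * A) = 1 := by
      rw [show (A' * B' * C') * (C * B * A) = A' * (B' * (C' * C) * B) * A by simp only [mul_assoc],
        show C' * C = 1 from hfinv' _ hd, mul_one, show B' * B = 1 from hfinv' _ hb, mul_one,
        show A' * A = 1 from hfinv' _ ha]
    have e4 : f (a - a * b * a) = C * B * A := by
      calc f (a - a * b * a) = f (a - a * b * a) * ((A' * B' * C') * (C * B * A)) := by rw [e3, mul_one]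
        _ = _ := by rw [← mul_assoc, ← e2, e1, one_mul]
    rw [map_sub, hCB, sub_mul, sub_mul, show B' * B = 1 from hfinv' _ hb, one_mul] at e4
    exact sub_right_injective e4
  have hpow : ∀ a (n : ℕ), f (a ^ n) = f a ^ n := by
    intro a n
    induction n using Nat.strong_induction_on with
    | _ n ih =>
      match n with
      | 0 => simpa using hf1
      | 1 => simp
      | n + 2 =>
        rw [show a ^ (n + 2) = a * a ^ n * a by ring, hua, ih n (by omega), pow_succ, pow_succ,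
          ← pow_succ', pow_succ]
  have hmul : ∀ a b, f (a * b) = f a * f b := by
    intro a b
    rcases eq_or_ne a 0 with rfl | ha
    · simp
    rcases eq_or_ne b 0 with rfl | hb
    · simp
    obtain ⟨g, hg⟩ := IsCyclic.exists_monoid_generator (α := Fˣ)
    obtain ⟨i, hi⟩ := hg (Units.mk0 a ha)
    obtain ⟨j, hj⟩ := hg (Units.mk0 b hb)
    have hi' : (g : F) ^ i = a := by rw [← Units.val_pow_eq_pow_val, show g ^ i = Units.mk0 a ha from hi, Units.val_mk0]
    have hj' : (g : F) ^ j = b := by rw [← Units.val_pow_eq_pow_val, show g ^ j = Units.mk0 b hb from hj, Units.val_mk0]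
    rw [← hi', ← hj', ← pow_add, hpow, hpow, hpow, pow_add]
  -- coordinates
  have : Nontrivial X := by
    rw [← Finite.one_lt_card_iff_nontrivial, D.card_fix]
    exact Finite.one_lt_card
  obtain ⟨x₀, hx₀⟩ := exists_ne (0 : X)
  let ε : F →+ X := AddMonoidHom.mk' (fun t => f t x₀) (fun s t => by rw [map_add]; rfl)
  have hε : Function.Bijective ε := by
    refine Function.Injective.bijective_of_nat_card_le ((injective_iff_map_eq_zero ε).2 fun t ht => ?_)
      D.card_fix.le
    by_contra hne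
    refine hx₀ ?_
    have h7 : f t⁻¹ (f t x₀) = x₀ := DFunLike.congr_fun (hfinv' t hne) x₀
    rw [show f t x₀ = 0 from ht, map_zero] at h7
    exact h7.symm
  let χ : (Fin 2 → F) →+ M := AddMonoidHom.mk' (fun v => (ε (v 0) : M) + (k.symm (ε (v 1)) : M))
    (fun v w => by simp only [Pi.add_apply, map_add, AddSubgroup.coe_add]; abel)
  have hχ : Function.Bijective χ := by
    exact (hsum.comp (Function.Bijective.prodMap hε (k.symm.bijective.comp hε))).comp
      (finTwoArrowEquiv F).bijective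
  have hsχ : ∀ s ∈ S, ∀ t, φ s = pr F (up t) → ∀ v, s • χ v = χ ((up t).1.mulVec v) := by
    intro s hs t hst v
    rw [D.eq_of_map_eq hs (hu t) (by rw [hst, hφu]), up_mulVec]
    show u t • ((ε (v 0) : M) + (k.symm (ε (v 1)) : M)) =
      (ε (v 0 + t * v 1) : M) + (k.symm (ε (v 1)) : M)
    rw [smul_add, ((ε (v 0)).2 _ (hu t) : u t • (ε (v 0) : M) = _), hσ, ← hf, map_add,
      show f t (ε (v 1)) = ε (t * v 1) from (DFunLike.congr_fun (hmul t (v 1)) x₀).symm]
    push_cast; abel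
  have hrχ : ∀ x ∈ S.map (MulAut.conj h₀).toMonoidHom, ∀ t, φ x = pr F (lo t) →
      ∀ v, x • χ v = χ ((lo t).1.mulVec v) := by
    intro x hx t hxt v
    obtain ⟨s, hs, rfl⟩ := hx
    have hsame : ∀ m : M, (h₀ * s * h₀⁻¹) • m = r t • m := fun m => by
      have e : φ s = φ (u (-t)) := by
        have h8 : φ (h₀ * s * h₀⁻¹) = φ (r t) := by rw [hφr]; exact hxt
        rw [map_mul, map_mul, map_mul, map_mul] at h8
        exact mul_left_cancel (mul_right_cancel h8)
      show (h₀ * s * h₀⁻¹) • m = (h₀ * u (-t) * h₀⁻¹) • m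
      rw [mul_smul, mul_smul, mul_smul, mul_smul, D.eq_of_map_eq hs (hu _) e]
    refine (hsame _).trans ?_
    rw [lo_mulVec]
    show r t • ((ε (v 0) : M) + (k.symm (ε (v 1)) : M)) =
      (ε (v 0) : M) + (k.symm (ε (t * v 0 + v 1)) : M)
    rw [smul_add, hτ, ((k.symm (ε (v 1))).2 _ (hr t) : r t • (k.symm (ε (v 1)) : M) = _), hτf,
      show f t (ε (v 0)) = ε (t * v 0) from (DFunLike.congr_fun (hmul t (v 0)) x₀).symm, map_add, map_add]
    push_cast; abel
  let ψ : M ≃+ (Fin 2 → F) := (AddEquiv.ofBijective χ hχ).symm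
  have hψ : ∀ v, ψ (χ v) = v := fun v => (AddEquiv.ofBijective χ hχ).symm_apply_apply v
  have hψ' : ∀ m, χ (ψ m) = m := fun m => (AddEquiv.ofBijective χ hχ).apply_symm_apply m
  let H : Subgroup G :=
    { carrier := {g | ∃ A : SL(2, F), ∀ m, ψ (g • m) = A.1.mulVec (ψ m)}
      one_mem' := ⟨1, fun m => by simp⟩
      mul_mem' := fun {a b} ⟨A, hA⟩ ⟨B, hB⟩ => ⟨A * B, fun m => by
        rw [mul_smul, hA, hB, mulVec_mulVec]; rfl⟩
      inv_mem' := fun {a} ⟨A, hA⟩ => ⟨A⁻¹, fun m => by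
        have h9 := hA (a⁻¹ • m)
        rw [smul_inv_smul] at h9
        rw [h9, mulVec_mulVec, ← val_mul, inv_mul_cancel]
        simp⟩ }
  have hHS : ∀ s ∈ S, ∀ t, φ s = pr F (up t) → ∀ m, ψ (s • m) = (up t).1.mulVec (ψ m) := by
    intro s hs t hst m
    conv_lhs => rw [← hψ' m, hsχ s hs t hst, hψ]
  have hHR : ∀ x ∈ S.map (MulAut.conj h₀).toMonoidHom, ∀ t, φ x = pr F (lo t) →
      ∀ m, ψ (x • m) = (lo t).1.mulVec (ψ m) := by
    intro x hx t hxt m
    conv_lhs => rw [← hψ' m, hrχ x hx t hxt, hψ]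
  have hlomem : ∀ x ∈ S.map (MulAut.conj h₀).toMonoidHom, ∃ t, φ x = pr F (lo t) := by
    rintro _ ⟨s, hs, rfl⟩
    obtain ⟨t, ht⟩ := D.up_mem s hs
    refine ⟨-(t / 1 ^ 2), ?_⟩
    show φ (h₀ * s * h₀⁻¹) = _
    rw [map_mul, map_mul, map_inv, D.map_wel, ht, ← map_inv, ← map_mul, ← map_mul, conj_wel_up h1]
  have hgen : S ⊔ S.map (MulAut.conj h₀).toMonoidHom = ⊤ := D.gen h₀ ⟨u 1, hu 1, fun r' e => by
    rw [map_mul, map_mul, map_inv, D.map_wel, hφu, ← map_inv, ← map_mul, ← map_mul, conj_wel_up h1] at e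
    refine hnu ?_ _ e
    rw [entry_lo]; simp⟩
  have hH : H = ⊤ := by
    rw [eq_top_iff, ← hgen]
    refine sup_le (fun s hs => ?_) (fun x hx => ?_)
    · obtain ⟨t, ht⟩ := D.up_mem s hs; exact ⟨up t, hHS s hs t ht⟩
    · obtain ⟨t, ht⟩ := hlomem x hx; exact ⟨lo t, hHR x hx t ht⟩
  choose A hA using fun g => (hH ▸ Subgroup.mem_top g : g ∈ H)
  have huniq : ∀ g B, (∀ m, ψ (g • m) = (B : SL(2, F)).1.mulVec (ψ m)) → A g = B := fun g B hB =>
    mulVec_injective fun v => by
      obtain ⟨m, rfl⟩ := ψ.surjective v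
      rw [← hA, hB]
  let ρ : G →* SL(2, F) := MonoidHom.mk' A fun a b => huniq _ _ fun m => by
    rw [mul_smul, hA, hA, mulVec_mulVec]; rfl
  have hρS : ∀ s ∈ S, ∀ t, φ s = pr F (up t) → ρ s = up t := fun s hs t ht => huniq _ _ (hHS s hs t ht)
  have hρR : ∀ x ∈ S.map (MulAut.conj h₀).toMonoidHom, ∀ t, φ x = pr F (lo t) → ρ x = lo t :=
    fun x hx t ht => huniq _ _ (hHR x hx t ht)
  refine ⟨ρ, ψ, ?_, hA, ?_, ?_, hρS, hρR, ?_, ?_⟩
  · intro B
    refine gen_induction (fun B => ∃ g, ρ g = B) ⟨1, map_one ρ⟩ ?_ ?_ ?_ B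
    · rintro a b ⟨g, rfl⟩ ⟨g', rfl⟩; exact ⟨g * g', map_mul ρ g g'⟩
    · exact fun t => ⟨u t, hρS _ (hu t) t (hφu t)⟩
    · exact fun t => ⟨r t, hρR _ (hr t) t (hφr t)⟩
  · intro g
    have hle : S ⊔ S.map (MulAut.conj h₀).toMonoidHom ≤ ((pr F).comp ρ).eqLocus φ := by
      refine sup_le (fun s hs => ?_) (fun x hx => ?_)
      · obtain ⟨t, ht⟩ := D.up_mem s hs
        show pr F (ρ s) = φ s
        rw [hρS s hs t ht, ht]
      · obtain ⟨t, ht⟩ := hlomem x hx
        show pr F (ρ x) = φ x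
        rw [hρR x hx t ht, ht]
    rw [hgen] at hle
    exact hle (Subgroup.mem_top g)
  · intro g
    refine ⟨fun hg m => ψ.injective ?_, fun hg => huniq _ _ fun m => by simp [hg m]⟩
    rw [hA, show A g = 1 from hg]
    simp
  · intro m
    constructor
    · intro hm
      by_contra hne
      have e := hHS _ (hu 1) 1 (hφu 1) m
      rw [hm _ (hu 1), up_mulVec] at e
      have := congrFun e 0
      simp at this
      exact hne this
    · intro h0 s hs
      obtain ⟨t, ht⟩ := D.up_mem s hs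
      refine ψ.injective ?_
      rw [hHS s hs t ht, up_mulVec]
      ext i; fin_cases i <;> simp [h0]
  · intro m
    rw [← hYiff]
    constructor
    · intro hm
      by_contra hne
      have e := hHR _ (hr 1) 1 (hφr 1) m
      rw [hm _ (hr 1), lo_mulVec] at e
      have := congrFun e 1
      simp at this
      exact hne this
    · intro h0 x hx
      obtain ⟨t, ht⟩ := hlomem x hx
      refine ψ.injective ?_
      rw [hHR x hx t ht, lo_mulVec]
      ext i; fin_cases i <;> simp [h0]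

end Data

end CfsgLib.PushingUp.Elation
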