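/-
Sylow p-subgroups of PSL₂ over a field of order pⁿ: there are q + 1 of them, of order q, any two distinct
ones meet trivially and generate the group.
-/
import Mathlib
import Cfsg.Agent.Lib.ClassicalGroups.SLTwoSylow

set_option autoImplicit false

namespace CfsgLib.PushingUp

open Matrix CfsgLib.ClassicalGroups
open scoped Pointwise

section SL

variable {F : Type*} [Field F] [Fintype F] (p : ℕ) [Fact p.Prime] [CharP F p]

/-- The Sylow subgroup of `GL₂` with the same elements as a Sylow subgroup of `SL₂`. -/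
theorem exists_gl_sylow (P : Sylow p (SpecialLinearGroup (Fin 2) F)) :
    ∃ R : Sylow p (GL (Fin 2) F), (R : Subgroup (GL (Fin 2) F)) =
      (P : Subgroup (SpecialLinearGroup (Fin 2) F)).map SpecialLinearGroup.toGL := by
  refine ⟨Sylow.ofCard _ ?_, Sylow.coe_ofCard _ _⟩
  rw [Subgroup.card_map_of_injective SpecialLinearGroup.toGL_injective, P.card_eq_multiplicity,
    factorization_card_sl_two p, factorization_card_gl p 2, show 2 * (2 - 1) / 2 = 1 from rfl, pow_one]

theorem card_sylow_sl_two_ge :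
    Fintype.card F + 1 ≤ Nat.card (Sylow p (SpecialLinearGroup (Fin 2) F)) := by
  classical
  choose f hf using exists_gl_sylow (F := F) p
  rw [← card_sylow_gl_two (F := F) p]
  refine Nat.card_le_card_of_surjective f fun R => ?_
  have hrange : (R : Subgroup (GL (Fin 2) F)) ≤
      (SpecialLinearGroup.toGL : SpecialLinearGroup (Fin 2) F →* GL (Fin 2) F).range := by
    intro x hx
    obtain ⟨g, hg⟩ := exists_conj_glUni p R
    obtain ⟨h0, h1, h2⟩ := (hg x).1 hx
    have hd : x.val.det = 1 := by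
      have hu : (g⁻¹ * x * g).val.det = 1 := by rw [Matrix.det_fin_two, h0, h1, h2]; ring
      rw [Units.val_mul, Units.val_mul, Matrix.det_mul, Matrix.det_mul, mul_right_comm,
        ← Matrix.det_mul, ← Units.val_mul, inv_mul_cancel, Units.val_one, Matrix.det_one, one_mul] at hu
      exact hu
    exact ⟨⟨x.val, hd⟩, Units.ext rfl⟩
  have hcard : Nat.card ((R : Subgroup (GL (Fin 2) F)).comap SpecialLinearGroup.toGL) =
      p ^ (Nat.card (SpecialLinearGroup (Fin 2) F)).factorization p := by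
    rw [← Subgroup.card_map_of_injective SpecialLinearGroup.toGL_injective,
      Subgroup.map_comap_eq_self hrange, R.card_eq_multiplicity,
      factorization_card_gl p 2, factorization_card_sl_two p, show 2 * (2 - 1) / 2 = 1 from rfl, pow_one]
  refine ⟨Sylow.ofCard _ hcard, Sylow.ext ?_⟩
  rw [hf, Sylow.coe_ofCard, Subgroup.map_comap_eq_self hrange]

theorem sylow_sl_two_disjoint (P Q : Sylow p (SpecialLinearGroup (Fin 2) F)) (h : P ≠ Q) :
    (P : Subgroup (SpecialLinearGroup (Fin 2) F)) ⊓ Q = ⊥ := by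
  obtain ⟨P', hP'⟩ := exists_gl_sylow p P
  obtain ⟨Q', hQ'⟩ := exists_gl_sylow p Q
  have hne : P' ≠ Q' := fun e => h (Sylow.ext
    (Subgroup.map_injective SpecialLinearGroup.toGL_injective (by rw [← hP', ← hQ', e])))
  rw [← Subgroup.map_eq_bot_iff_of_injective _ SpecialLinearGroup.toGL_injective,
    Subgroup.map_inf _ _ _ SpecialLinearGroup.toGL_injective, ← hP', ← hQ']
  exact sylow_gl_two_disjoint p P' Q' hne

theorem card_sylow_sl_two_le :
    Nat.card (Sylow p (SpecialLinearGroup (Fin 2) F)) ≤ Fintype.card F + 1 := by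
  classical
  choose f hf using exists_gl_sylow (F := F) p
  rw [← card_sylow_gl_two (F := F) p]
  refine Nat.card_le_card_of_injective f fun P Q e => Sylow.ext ?_
  refine Subgroup.map_injective SpecialLinearGroup.toGL_injective ?_
  rw [← hf, ← hf, e]

omit [Fintype F] [Fact p.Prime] [CharP F p] in
theorem uni_coe_mem_slUni (t : F) :
    (⟨!![1, t; 0, 1], by simp [Matrix.det_fin_two]⟩ : SpecialLinearGroup (Fin 2) F) ∈ slUni :=
  ⟨rfl, rfl, rfl⟩

/-- A nontrivial subgroup of a Sylow subgroup invariant under its normaliser is all of it. -/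
theorem sylow_sl_two_irred (P : Sylow p (SpecialLinearGroup (Fin 2) F))
    (H : Subgroup (SpecialLinearGroup (Fin 2) F)) (hHP : H ≤ P) (hne : H ≠ ⊥)
    (hinv : ∀ n ∈ Subgroup.normalizer ((P : Subgroup (SpecialLinearGroup (Fin 2) F)) : Set _),
      ∀ x ∈ H, n * x * n⁻¹ ∈ H) :
    H = P := by
  refine le_antisymm hHP ?_
  obtain ⟨g, hg⟩ := MulAction.exists_smul_eq (SpecialLinearGroup (Fin 2) F) (slUniSylow p) P
  have hP : ∀ x, x ∈ P ↔ g⁻¹ * x * g ∈ (slUni : Subgroup (SpecialLinearGroup (Fin 2) F)) := by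
    intro x
    rw [← hg]
    show x ∈ MulAut.conj g • (slUni : Subgroup (SpecialLinearGroup (Fin 2) F)) ↔ _
    rw [Subgroup.mem_pointwise_smul_iff_inv_smul_mem]
    simp
  let u : F → SpecialLinearGroup (Fin 2) F := fun t => ⟨!![1, t; 0, 1], by simp [Matrix.det_fin_two]⟩
  have hu : ∀ x ∈ (slUni : Subgroup (SpecialLinearGroup (Fin 2) F)), ∃ t, x = u t := by
    rintro x ⟨h0, h1, h2⟩
    refine ⟨x.1 0 1, Subtype.ext ?_⟩
    ext i j
    fin_cases i <;> fin_cases j
    · exact h0
    · rfl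
    · exact h1
    · exact h2
  have huadd : ∀ s t, u (s + t) = u s * u t := by
    intro s t
    apply Subtype.ext
    show _ = !![1, s; 0, 1] * !![1, t; 0, 1]
    ext i j
    fin_cases i <;> fin_cases j <;> simp [u, Matrix.mul_apply, Fin.sum_univ_two, add_comm]
  have hu0 : u 0 = 1 := Subtype.ext (by simp [u, Matrix.one_fin_two])
  let K : Set F := {t | g * u t * g⁻¹ ∈ H}
  have hKadd : ∀ s t, s ∈ K → t ∈ K → s + t ∈ K := by
    intro s t hs ht
    show g * u (s + t) * g⁻¹ ∈ H
    rw [huadd, show g * (u s * u t) * g⁻¹ = (g * u s * g⁻¹) * (g * u t * g⁻¹) by group]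
    exact H.mul_mem hs ht
  have hKneg : ∀ s, s ∈ K → -s ∈ K := by
    intro s hs
    have h1 : u (-s) = (u s)⁻¹ :=
      eq_inv_of_mul_eq_one_left (by rw [← huadd, neg_add_cancel, hu0])
    show g * u (-s) * g⁻¹ ∈ H
    rw [h1, show g * (u s)⁻¹ * g⁻¹ = (g * u s * g⁻¹)⁻¹ by group]
    exact H.inv_mem hs
  obtain ⟨t0, ht0, ht0K⟩ : ∃ t0, t0 ≠ 0 ∧ t0 ∈ K := by
    obtain ⟨⟨x, hx⟩, hx1⟩ := Subgroup.ne_bot_iff_exists_ne_one.1 hne
    obtain ⟨t, ht⟩ := hu _ ((hP x).1 (hHP hx))
    have hxe : g * u t * g⁻¹ = x := by rw [← ht]; group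
    refine ⟨t, ?_, show g * u t * g⁻¹ ∈ H from hxe ▸ hx⟩
    rintro rfl
    rw [hu0, mul_one, mul_inv_cancel] at hxe
    exact hx1 (Subtype.ext hxe.symm)
  have hsq : ∀ a : F, a ^ 2 * t0 ∈ K := by
    intro a
    rcases eq_or_ne a 0 with rfl | ha
    · show g * u (0 ^ 2 * t0) * g⁻¹ ∈ H
      rw [zero_pow two_ne_zero, zero_mul, hu0, mul_one, mul_inv_cancel]
      exact H.one_mem
    let d : SpecialLinearGroup (Fin 2) F := ⟨!![a, 0; 0, a⁻¹], by simp [Matrix.det_fin_two, ha]⟩
    have hd : ∀ t, d * u t = u (a ^ 2 * t) * d := by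
      intro t
      apply Subtype.ext
      show !![a, 0; 0, a⁻¹] * !![1, t; 0, 1] = !![1, a ^ 2 * t; 0, 1] * !![a, 0; 0, a⁻¹]
      ext i j
      fin_cases i <;> fin_cases j <;> simp [Matrix.mul_apply, Fin.sum_univ_two]
      field_simp
    have hn : g * d * g⁻¹ ∈ Subgroup.normalizer ((P : Subgroup (SpecialLinearGroup (Fin 2) F)) : Set _) := by
      have hd' : ∀ x, x ∈ (slUni : Subgroup (SpecialLinearGroup (Fin 2) F)) → d * x * d⁻¹ ∈ slUni := by
        intro x hx
        obtain ⟨t, rfl⟩ := hu x hx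
        rw [hd, mul_inv_cancel_right]
        exact uni_coe_mem_slUni _
      have hd'' : ∀ x, x ∈ (slUni : Subgroup (SpecialLinearGroup (Fin 2) F)) → d⁻¹ * x * d ∈ slUni := by
        intro x hx
        obtain ⟨t, rfl⟩ := hu x hx
        have h := hd ((a ^ 2)⁻¹ * t)
        rw [mul_inv_cancel_left₀ (pow_ne_zero 2 ha)] at h
        rw [mul_assoc, ← h, inv_mul_cancel_left]
        exact uni_coe_mem_slUni _
      refine Subgroup.mem_normalizer_iff.2 fun x => ?_
      show x ∈ P ↔ g * d * g⁻¹ * x * (g * d * g⁻¹)⁻¹ ∈ P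
      rw [hP, hP,
        show g⁻¹ * (g * d * g⁻¹ * x * (g * d * g⁻¹)⁻¹) * g = d * (g⁻¹ * x * g) * d⁻¹ by group]
      refine ⟨hd' _, fun h => ?_⟩
      have := hd'' _ h
      simpa [mul_assoc] using this
    show g * u (a ^ 2 * t0) * g⁻¹ ∈ H
    have := hinv _ hn _ ht0K
    rwa [show g * d * g⁻¹ * (g * u t0 * g⁻¹) * (g * d * g⁻¹)⁻¹ = g * (d * u t0 * d⁻¹) * g⁻¹ by group,
      hd, mul_inv_cancel_right] at this
  intro x hx
  obtain ⟨t, ht⟩ := hu _ ((hP x).1 hx)
  suffices t ∈ K by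
    have e : g * u t * g⁻¹ = x := by rw [← ht]; group
    exact e ▸ this
  obtain ⟨c, rfl⟩ : ∃ c, t = c * t0 := ⟨t / t0, (div_mul_cancel₀ t ht0).symm⟩
  by_cases h2 : ringChar F = 2
  · obtain ⟨a, rfl⟩ := FiniteField.isSquare_of_char_two h2 c
    rw [← sq]
    exact hsq a
  · have h2' : (2 : F) ≠ 0 := Ring.two_ne_zero h2
    have e : c * t0 = ((c + 1) / 2) ^ 2 * t0 + -(((c - 1) / 2) ^ 2 * t0) := by field_simp; ring
    rw [e]
    exact hKadd _ _ (hsq _) (hKneg _ (hsq _))

end SL

variable {F : Type*} [Field F] [Fintype F] {p : ℕ} [Fact p.Prime]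

/-- The facts about the Sylow subgroups of `PSL₂(q)` used in pushing up. -/
theorem psl_two_sylow {n : ℕ} (hF : Fintype.card F = p ^ n) :
    (∀ P : Sylow p (ProjectiveSpecialLinearGroup (Fin 2) F), Nat.card P = Fintype.card F) ∧
    Fintype.card F + 1 ≤ Nat.card (Sylow p (ProjectiveSpecialLinearGroup (Fin 2) F)) ∧
    Nat.card (Sylow p (ProjectiveSpecialLinearGroup (Fin 2) F)) ≤ Fintype.card F + 1 ∧
    (∀ (P : Sylow p (ProjectiveSpecialLinearGroup (Fin 2) F))
      (H : Subgroup (ProjectiveSpecialLinearGroup (Fin 2) F)), H ≤ P → H ≠ ⊥ →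
      (∀ n ∈ Subgroup.normalizer ((P : Subgroup (ProjectiveSpecialLinearGroup (Fin 2) F)) : Set _),
        ∀ x ∈ H, n * x * n⁻¹ ∈ H) → H = P) ∧
    (∀ P Q : Sylow p (ProjectiveSpecialLinearGroup (Fin 2) F), P ≠ Q →
      (P : Subgroup (ProjectiveSpecialLinearGroup (Fin 2) F)) ⊔ Q = ⊤ ∧
      (P : Subgroup (ProjectiveSpecialLinearGroup (Fin 2) F)) ⊓ Q = ⊥) := by
  haveI : CharP F p := charP_of_card_eq_prime_pow hF
  set π := QuotientGroup.mk' (Subgroup.center (SpecialLinearGroup (Fin 2) F))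
  have hπ : Function.Surjective π := QuotientGroup.mk'_surjective _
  have hz : ∀ z ∈ Subgroup.center (SpecialLinearGroup (Fin 2) F), z ^ Fintype.card F = 1 → z = 1 := by
    intro z hz hzq
    obtain ⟨r, hr, hrz⟩ := Matrix.SpecialLinearGroup.mem_center_iff.1 hz
    rw [Fintype.card_fin] at hr
    have hz2 : z ^ 2 = 1 := by
      apply Subtype.ext
      rw [Matrix.SpecialLinearGroup.coe_pow, ← hrz, ← map_pow, hr, map_one]
      rfl
    rcases (Nat.dvd_prime Nat.prime_two).1 (orderOf_dvd_of_pow_eq_one hz2) with h | h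
    · exact orderOf_eq_one_iff.1 h
    · have h2 : 2 ∣ p := by
        have := orderOf_dvd_of_pow_eq_one hzq
        rw [h, hF] at this
        exact Nat.prime_two.dvd_of_dvd_pow this
      have hp2 : p = 2 := ((Nat.prime_dvd_prime_iff_eq Nat.prime_two Fact.out).1 h2).symm
      subst hp2
      have hr1 : r = 1 := by
        have : (r - 1) ^ 2 = 0 := by rw [sub_sq, hr]; simp [CharTwo.two_eq_zero, CharTwo.add_self_eq_zero]
        exact sub_eq_zero.1 (sq_eq_zero_iff.1 this)
      apply Subtype.ext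
      rw [← hrz, hr1, map_one]
      rfl
  have key : ∀ (P Q : Sylow p (SpecialLinearGroup (Fin 2) F)), ∀ x ∈ P, ∀ y ∈ Q, π x = π y → x = y := by
    intro P Q x hx y hy e
    have hord : ∀ (P : Sylow p (SpecialLinearGroup (Fin 2) F)), ∀ x ∈ P, x ^ Fintype.card F = 1 := by
      intro P x hx
      have h := Subgroup.orderOf_dvd_natCard (P : Subgroup (SpecialLinearGroup (Fin 2) F)) hx
      rw [P.card_eq_multiplicity, factorization_card_sl_two p] at h
      exact orderOf_dvd_iff_pow_eq_one.1 h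
    have hc : y⁻¹ * x ∈ Subgroup.center (SpecialLinearGroup (Fin 2) F) := by
      rw [← QuotientGroup.eq]
      exact e.symm
    have hcomm : Commute y (y⁻¹ * x) := Subgroup.mem_center_iff.1 hc y
    have : (y⁻¹ * x) ^ Fintype.card F = 1 := by
      have h1 := hord P x hx
      rw [← mul_inv_cancel_left y x, hcomm.mul_pow, hord Q y hy, one_mul] at h1
      exact h1
    exact (inv_mul_eq_one.1 (hz _ hc this)).symm
  have hinj : Function.Injective (Sylow.mapSurjective hπ :
      Sylow p (SpecialLinearGroup (Fin 2) F) → Sylow p (ProjectiveSpecialLinearGroup (Fin 2) F)) := by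
    intro P Q e
    have h : (P : Subgroup (SpecialLinearGroup (Fin 2) F)) ≤ Q := fun x hx => by
      have : π x ∈ (Q.mapSurjective hπ : Subgroup _) := e ▸ Subgroup.mem_map_of_mem π hx
      obtain ⟨y, hy, hyx⟩ := this
      rw [key P Q x hx y hy hyx.symm]
      exact hy
    exact Sylow.ext (P.is_maximal' Q.2 h).symm
  refine ⟨fun R => ?_, (card_sylow_sl_two_ge p).trans (Nat.card_le_card_of_injective _ hinj),
    (Nat.card_le_card_of_surjective _ (Sylow.mapSurjective_surjective hπ p)).trans (card_sylow_sl_two_le p),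
    fun P H hHP hne hinv => ?_, fun R₁ R₂ h => ?_⟩
  rotate_left 1
  · obtain ⟨P₀, rfl⟩ := Sylow.mapSurjective_surjective hπ p P
    have h0 : (P₀ : Subgroup (SpecialLinearGroup (Fin 2) F)) ⊓ H.comap π = P₀ := by
      refine sylow_sl_two_irred p P₀ _ inf_le_left (fun hb => hne ?_) fun n hn x hx => ?_
      · rw [Subgroup.eq_bot_iff_forall]
        intro y hy
        obtain ⟨x, hx, rfl⟩ := hHP hy
        have : x ∈ (P₀ : Subgroup (SpecialLinearGroup (Fin 2) F)) ⊓ H.comap π := ⟨hx, hy⟩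
        rw [hb, Subgroup.mem_bot] at this
        rw [this, map_one]
      · refine ⟨(Subgroup.mem_normalizer_iff.1 hn x).1 hx.1, ?_⟩
        show π (n * x * n⁻¹) ∈ H
        rw [map_mul, map_mul, map_inv]
        exact hinv _ (Subgroup.le_normalizer_map π ⟨n, hn, rfl⟩) _ hx.2
    refine le_antisymm hHP ?_
    rintro _ ⟨x, hx, rfl⟩
    exact (h0.ge hx).2
  rotate_left 1
  · obtain ⟨P, rfl⟩ := Sylow.mapSurjective_surjective hπ p R
    rw [← factorization_card_sl_two (F := F) p, ← P.card_eq_multiplicity]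
    refine (Nat.card_congr (Equiv.ofBijective
      (fun x : (P : Subgroup (SpecialLinearGroup (Fin 2) F)) =>
        (⟨π x, Subgroup.mem_map_of_mem π x.2⟩ : (P.mapSurjective hπ : Subgroup _))) ⟨fun x y e => ?_, ?_⟩)).symm
    · exact Subtype.ext (key P P x x.2 y y.2 (congrArg Subtype.val e))
    · rintro ⟨_, x, hx, rfl⟩
      exact ⟨⟨x, hx⟩, rfl⟩
  · obtain ⟨P, rfl⟩ := Sylow.mapSurjective_surjective hπ p R₁
    obtain ⟨Q, rfl⟩ := Sylow.mapSurjective_surjective hπ p R₂
    have hne : P ≠ Q := fun e => h (by rw [e])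
    refine ⟨?_, ?_⟩
    · rw [Sylow.coe_mapSurjective, Sylow.coe_mapSurjective, ← Subgroup.map_sup,
        sylow_sup_eq_top_sl_two p P Q hne, Subgroup.map_top_of_surjective π hπ]
    · rw [Subgroup.eq_bot_iff_forall]
      rintro _ ⟨⟨x, hx, rfl⟩, ⟨y, hy, hyx⟩⟩
      have e := key P Q x hx y hy hyx.symm
      have : x ∈ (P : Subgroup (SpecialLinearGroup (Fin 2) F)) ⊓ Q := ⟨hx, by rw [e]; exact hy⟩
      rw [sylow_sl_two_disjoint p P Q hne, Subgroup.mem_bot] at this
      rw [this, map_one]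

end CfsgLib.PushingUp
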