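/-
Consequences of the basic pushing-up situation: lifting the Sylow geometry of the PSL₂ quotient.
-/
import Mathlib
import Cfsg.Prelude.Def_BaumannBlocks
import Cfsg.Agent.Lib.PCore.Basic
import Cfsg.Agent.Lib.LocalEven.SubnormalJoin
import Cfsg.Agent.Lib.PushingUp.PSLTwo

set_option autoImplicit false

namespace CfsgLib.PushingUp

open Cfsg

variable {G : Type*} [Group G] [Finite G] {p : ℕ} [hp : Fact p.Prime]

/-- A surjection onto a group with the Sylow geometry of PSL₂(q). -/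
structure Quot (p : ℕ) (G : Type*) [Group G] where
  X : Type
  grp : Group X
  fin : Finite X
  φ : G →* X
  surj : Function.Surjective φ
  q : ℕ
  m : ℕ
  hq : q = p ^ m
  hm : 1 ≤ m
  card_sylow : ∀ P : Sylow p X, Nat.card P = q
  num_sylow : q + 1 ≤ Nat.card (Sylow p X)
  num_sylow_le : Nat.card (Sylow p X) ≤ q + 1
  irred : ∀ (P : Sylow p X) (H : Subgroup X), H ≤ P → H ≠ ⊥ →
    (∀ n ∈ Subgroup.normalizer ((P : Subgroup X) : Set X), ∀ x ∈ H, n * x * n⁻¹ ∈ H) → H = P
  sup_sylow : ∀ P R : Sylow p X, P ≠ R → (P : Subgroup X) ⊔ R = ⊤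
  inf_sylow : ∀ P R : Sylow p X, P ≠ R → (P : Subgroup X) ⊓ R = ⊥

attribute [instance] Quot.grp Quot.fin

theorem exists_quot {S : Subgroup G} (hE : IsPushingUpSituation p S) :
    Nonempty (Quot p G) := by
  obtain ⟨-, -, -, -, K, hK, F, hFf, hFt, n, hn, ⟨e⟩⟩ := hE
  obtain ⟨h1, h2, h2', h2'', h3⟩ := psl_two_sylow (F := F) hn
  have hn1 : 1 ≤ n := by
    rcases Nat.eq_zero_or_pos n with rfl | h
    · exact absurd hn (by rw [pow_zero]; exact Fintype.one_lt_card.ne')
    · exact h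
  exact ⟨⟨_, inferInstance, inferInstance, e.toMonoidHom.comp (QuotientGroup.mk' K),
    e.surjective.comp (QuotientGroup.mk'_surjective K), Fintype.card F, n, hn, hn1, h1, h2, h2', h2'',
    fun P R h => (h3 P R h).1, fun P R h => (h3 P R h).2⟩⟩

namespace Quot

variable (Q : Quot p G)

omit [Finite G] in
theorem two_le_q : 2 ≤ Q.q := by
  rw [Q.hq]
  exact hp.out.two_le.trans (Nat.le_self_pow (by have := Q.hm; omega) p)

theorem exists_image_ne (P : Sylow p G) :
    ∃ R : Sylow p G, (R : Subgroup G).map Q.φ ≠ (P : Subgroup G).map Q.φ := by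
  by_contra hno
  push Not at hno
  have : Subsingleton (Sylow p Q.X) := ⟨fun A B => by
    obtain ⟨A', rfl⟩ := Sylow.mapSurjective_surjective Q.surj p A
    obtain ⟨B', rfl⟩ := Sylow.mapSurjective_surjective Q.surj p B
    refine Sylow.ext ?_
    rw [Sylow.coe_mapSurjective, Sylow.coe_mapSurjective, hno A', hno B']⟩
  have h1 := Q.num_sylow
  have h2 := Finite.card_le_one_iff_subsingleton.2 this
  have h3 := Q.two_le_q
  omega

theorem card_map (P : Sylow p G) : Nat.card ((P : Subgroup G).map Q.φ) = Q.q := by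
  rw [← Q.card_sylow (P.mapSurjective Q.surj)]
  rfl

theorem ker_sup_ne_top (P : Sylow p G) : Q.φ.ker ⊔ (P : Subgroup G) ≠ ⊤ := by
  intro h
  have h1 : (P : Subgroup G).map Q.φ = ⊤ := by
    have := congrArg (Subgroup.map Q.φ) h
    rwa [Subgroup.map_sup, Subgroup.map_top_of_surjective Q.φ Q.surj,
      (Subgroup.map_eq_bot_iff _).2 le_rfl, bot_sup_eq] at this
  obtain ⟨R, hR⟩ := Q.exists_image_ne P
  refine hR ?_
  have h2 : Nat.card ((R : Subgroup G).map Q.φ) = Nat.card ((P : Subgroup G).map Q.φ) := by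
    rw [Q.card_map, Q.card_map]
  rw [h1] at h2 ⊢
  exact Subgroup.eq_top_of_card_eq _ (h2.trans Subgroup.card_top)

end Quot

variable {S : Subgroup G} (hE : IsPushingUpSituation p S) (Q : Quot p G)

include hE

theorem exists_sylow_eq : ∃ P : Sylow p G, (P : Subgroup G) = S := hE.2.1

theorem isPGroup_self : IsPGroup p S := by
  obtain ⟨P, rfl⟩ := hE.2.1
  exact P.2

theorem pCore_le : pCore p G ≤ S := by
  obtain ⟨P, rfl⟩ := hE.2.1
  exact CfsgLib.PCore.pCore_le_sylow P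

theorem centralizer_pCore_le : Subgroup.centralizer (pCore p G : Set G) ≤ pCore p G := hE.2.2.1

/-- A subgroup containing `S` and supplementing a proper normal overgroup is everything. -/
theorem eq_top_of_le {Y N : Subgroup G} (hSY : S ≤ Y) (hN : N ⊔ S ≠ ⊤) (hYN : Y ⊔ N = ⊤) : Y = ⊤ := by
  obtain ⟨M, ⟨hM, hSM⟩, huniq⟩ := hE.2.2.2.1
  by_contra hY
  obtain hY' | ⟨M₁, hM₁, hYM₁⟩ := IsCoatomic.eq_top_or_exists_le_coatom Y
  · exact hY hY'
  obtain hN' | ⟨M₂, hM₂, hNM₂⟩ := IsCoatomic.eq_top_or_exists_le_coatom (N ⊔ S)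
  · exact hN hN'
  have e1 : M₁ = M := huniq M₁ ⟨hM₁, hSY.trans hYM₁⟩
  have e2 : M₂ = M := huniq M₂ ⟨hM₂, le_sup_right.trans hNM₂⟩
  refine hM.1 (top_le_iff.1 ?_)
  rw [← hYN]
  exact sup_le (e1 ▸ hYM₁) (le_sup_left.trans (e2 ▸ hNM₂))

theorem normal_inf_le {N : Subgroup G} [N.Normal] (hN : N ⊔ S ≠ ⊤) : S ⊓ N ≤ pCore p G := by
  obtain ⟨P, hP⟩ := hE.2.1
  subst hP
  obtain ⟨P₁, hP₁⟩ := CfsgLib.SubJoin.exists_sylow_subnormal P (inferInstance : N.Normal).isSubnormal
  have hmap : (P₁ : Subgroup ↥N).map N.subtype = (P : Subgroup G) ⊓ N := by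
    rw [hP₁, Subgroup.subgroupOf_map_subtype]
  have hfr := Sylow.normalizer_sup_eq_top P₁
  rw [hmap] at hfr
  have hSY : (P : Subgroup G) ≤ Subgroup.normalizer (((P : Subgroup G) ⊓ N : Subgroup G) : Set G) := by
    intro s hs
    rw [Subgroup.mem_normalizer_iff]
    intro x
    exact and_congr ((Subgroup.mem_normalizer_iff.1 (Subgroup.le_normalizer hs)) x)
      ⟨fun h => (inferInstance : N.Normal).conj_mem x h s, fun h => by
        simpa [mul_assoc] using (inferInstance : N.Normal).conj_mem _ h s⁻¹⟩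
  have htop := eq_top_of_le hE hSY hN hfr
  exact CfsgLib.PCore.le_pCore (Subgroup.normalizer_eq_top_iff.1 htop) (P.2.to_le inf_le_left)

theorem sup_eq_top (P R : Sylow p G)
    (h : (P : Subgroup G).map Q.φ ≠ (R : Subgroup G).map Q.φ) : (P : Subgroup G) ⊔ R = ⊤ := by
  obtain ⟨P₀, hP₀⟩ := hE.2.1
  obtain ⟨g, hg⟩ := MulAction.exists_smul_eq G P P₀
  have hc : ∀ P : Sylow p G, ((g • P : Sylow p G) : Subgroup G) = (P : Subgroup G).map (MulAut.conj g).toMonoidHom :=
    fun P => rfl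
  set Y := ((P : Subgroup G) ⊔ R).map (MulAut.conj g).toMonoidHom with hY
  have hsup : Y ⊔ Q.φ.ker = ⊤ := by
    apply Subgroup.comap_map_eq_self (f := Q.φ) (H := Y ⊔ Q.φ.ker) le_sup_right |>.symm.trans
    have h1 : (Y ⊔ Q.φ.ker).map Q.φ = ⊤ := by
      have h2 : ((P : Subgroup G) ⊔ R).map Q.φ = ⊤ := by
        rw [Subgroup.map_sup]
        exact Q.sup_sylow (P.mapSurjective Q.surj) (R.mapSurjective Q.surj)
          fun e => h (congrArg (fun A : Sylow p Q.X => (A : Subgroup Q.X)) e)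
      rw [Subgroup.map_sup, (Subgroup.map_eq_bot_iff _).2 (le_refl Q.φ.ker), sup_bot_eq, hY, Subgroup.map_map,
        show Q.φ.comp (MulAut.conj g).toMonoidHom = (MulAut.conj (Q.φ g)).toMonoidHom.comp Q.φ from
          MonoidHom.ext fun x => by simp,
        ← Subgroup.map_map, h2, Subgroup.map_top_of_surjective _ (MulEquiv.surjective _)]
    rw [h1, Subgroup.comap_top]
  have htop : Y = ⊤ := by
    refine eq_top_of_le hE ?_ (hP₀ ▸ Q.ker_sup_ne_top P₀) hsup
    rw [← hP₀, ← hg, hc]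
    exact Subgroup.map_mono le_sup_left
  exact Subgroup.map_injective (f := (MulAut.conj g).toMonoidHom) (MulEquiv.injective _)
    (by rw [← hY, htop, Subgroup.map_top_of_surjective _ (MulEquiv.surjective _)])

theorem inf_ker_le (P : Sylow p G) : (P : Subgroup G) ⊓ Q.φ.ker ≤ pCore p G := by
  obtain ⟨P₀, rfl⟩ := hE.2.1
  obtain ⟨g, rfl⟩ := MulAction.exists_smul_eq G P₀ P
  rintro x ⟨hx, hxK⟩
  obtain ⟨y, hy, rfl⟩ := hx
  have : y ∈ Q.φ.ker := by
    have := (inferInstance : Q.φ.ker.Normal).conj_mem _ hxK g⁻¹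
    simpa [mul_assoc] using this
  exact (pCore_normal p G).conj_mem y (normal_inf_le hE (Q.ker_sup_ne_top P₀) ⟨hy, this⟩) g

theorem card_le (P : Sylow p G) : Nat.card P ≤ Nat.card (pCore p G) * Q.q := by
  have h : Nat.card (P : Subgroup G) =
      Nat.card ((Q.φ.ker).subgroupOf (P : Subgroup G)) * Nat.card ((P : Subgroup G).map Q.φ) := by
    have e : (Q.φ.comp (P : Subgroup G).subtype).range = (P : Subgroup G).map Q.φ := by
      rw [MonoidHom.range_comp, Subgroup.range_subtype]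
    rw [← e, ← Subgroup.index_ker]
    exact (Subgroup.card_mul_index _).symm
  rw [h, Q.card_map P]
  refine Nat.mul_le_mul_right _ ?_
  refine Nat.card_le_card_of_injective (fun x => (⟨((x : ↥(P : Subgroup G)) : G), inf_ker_le hE Q P ⟨x.1.2, x.2⟩⟩ : ↥(pCore p G))) ?_
  intro x y e
  exact Subtype.ext (Subtype.ext (congrArg Subtype.val e :))

end CfsgLib.PushingUp
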