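/-
Fixed points of Sylow subgroups on a normal abelian p-subgroup in the pushing-up situation: |W| ≥ q |C_W(S)|,
and in case of equality the fixed-point spaces cover W.
-/
import Mathlib
import Cfsg.Prelude.Def_BaumannBlocks
import Cfsg.Agent.Lib.PushingUp.Setup

set_option autoImplicit false

namespace CfsgLib.PushingUp

open Cfsg

variable {G : Type*} [Group G] [Finite G] {p : ℕ} [hp : Fact p.Prime]

/-- Fixed points in `W` of a Sylow subgroup. -/
def fix (W : Subgroup G) (P : Sylow p G) : Subgroup G :=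
  W ⊓ Subgroup.centralizer ((P : Subgroup G) : Set G)

/-- The noncentral elements of `W` fixed by some Sylow subgroup. -/
def covered (p : ℕ) (W : Subgroup G) : Set G :=
  {y | y ∈ W ∧ y ∉ Subgroup.center G ∧
    ∃ P : Sylow p G, y ∈ Subgroup.centralizer ((P : Subgroup G) : Set G)}

omit [Finite G] in
theorem sylow_smul_eq_map (g : G) (P : Sylow p G) :
    ((g • P : Sylow p G) : Subgroup G) = (P : Subgroup G).map (MulAut.conj g).toMonoidHom := rfl

omit [Finite G] in
theorem map_smul_sylow (Q : Quot p G) (g : G) (P : Sylow p G) :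
    ((g • P : Sylow p G) : Subgroup G).map Q.φ =
      ((P : Subgroup G).map Q.φ).map (MulAut.conj (Q.φ g)).toMonoidHom := by
  rw [sylow_smul_eq_map, Subgroup.map_map, Subgroup.map_map]
  congr 1
  exact MonoidHom.ext fun x => by simp

omit [Finite G] in
theorem conj_mem_centralizer_smul {g w : G} {P : Sylow p G}
    (hw : w ∈ Subgroup.centralizer ((P : Subgroup G) : Set G)) :
    g * w * g⁻¹ ∈ Subgroup.centralizer (((g • P : Sylow p G) : Subgroup G) : Set G) := by
  refine Subgroup.mem_centralizer_iff.2 ?_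
  rintro _ ⟨x, hx, rfl⟩
  have h := Subgroup.mem_centralizer_iff.1 hw x hx
  show g * x * g⁻¹ * (g * w * g⁻¹) = g * w * g⁻¹ * (g * x * g⁻¹)
  calc g * x * g⁻¹ * (g * w * g⁻¹) = g * (x * w) * g⁻¹ := by group
    _ = _ := by rw [h]; group

omit [Finite G] in
theorem conj_mem_center_iff {g w : G} : g * w * g⁻¹ ∈ Subgroup.center G ↔ w ∈ Subgroup.center G := by
  refine ⟨fun h => ?_, fun h => (inferInstance : (Subgroup.center G).Normal).conj_mem w h g⟩
  simpa [mul_assoc] using (inferInstance : (Subgroup.center G).Normal).conj_mem _ h g⁻¹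

omit [Finite G] in
theorem card_fix_smul (W : Subgroup G) [W.Normal] (g : G) (P : Sylow p G) :
    Nat.card (fix W (g • P)) = Nat.card (fix W P) := by
  rw [← Subgroup.card_map_of_injective (f := (MulAut.conj g).toMonoidHom)
    (show Function.Injective _ from (MulAut.conj g).injective) (K := fix W P)]
  congr 2
  refine le_antisymm (fun y hy => ?_) ?_
  · refine ⟨g⁻¹ * y * g, ⟨?_, ?_⟩, by simp [mul_assoc]⟩
    · simpa using (inferInstance : W.Normal).conj_mem y hy.1 g⁻¹
    · have := conj_mem_centralizer_smul (g := g⁻¹) hy.2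
      rwa [inv_smul_smul, inv_inv] at this
  · rintro _ ⟨y, hy, rfl⟩
    exact ⟨(inferInstance : W.Normal).conj_mem y hy.1 g, conj_mem_centralizer_smul hy.2⟩

theorem card_fix_eq (W : Subgroup G) [W.Normal] (P R : Sylow p G) :
    Nat.card (fix W R) = Nat.card (fix W P) := by
  obtain ⟨g, rfl⟩ := MulAction.exists_smul_eq G P R
  exact card_fix_smul W g P

omit [Finite G] in
theorem fix_le (W : Subgroup G) (P : Sylow p G) : fix W P ≤ W := inf_le_left

omit [Finite G] in
theorem inf_center_le_fix (W : Subgroup G) (P : Sylow p G) : W ⊓ Subgroup.center G ≤ fix W P :=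
  inf_le_inf_left _ (Subgroup.center_le_centralizer _)

theorem ncard_diff_center (K : Subgroup G) :
    ((K : Set G) \ Subgroup.center G).ncard + Nat.card ↥(K ⊓ Subgroup.center G) = Nat.card K := by
  have h := Set.ncard_inter_add_ncard_diff_eq_ncard (K : Set G) (Subgroup.center G : Set G)
  have e1 : Nat.card K = (K : Set G).ncard := Nat.card_coe_set_eq _
  have e2 : Nat.card ↥(K ⊓ Subgroup.center G) = ((K ⊓ Subgroup.center G : Subgroup G) : Set G).ncard :=
    Nat.card_coe_set_eq _
  rw [Subgroup.coe_inf] at e2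
  omega

/-- A proper subgroup of a p-group has index at least p. -/
theorem mul_card_le_of_lt {H K : Subgroup G} (hK : IsPGroup p K) (h : H < K) :
    p * Nat.card H ≤ Nat.card K := by
  obtain ⟨i, hi⟩ := IsPGroup.iff_card.1 (hK.to_le h.le)
  obtain ⟨j, hj⟩ := IsPGroup.iff_card.1 hK
  have hlt : Nat.card H < Nat.card K := by
    refine lt_of_le_of_ne (Subgroup.card_le_of_le h.le) fun e => h.ne (Subgroup.eq_of_le_of_card_ge h.le e.ge)
  rw [hi, hj] at hlt ⊢
  rw [← pow_succ']
  exact Nat.pow_le_pow_right hp.out.pos ((Nat.pow_lt_pow_iff_right hp.out.one_lt).1 hlt)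

variable {S : Subgroup G} (hE : IsPushingUpSituation p S) (Q : Quot p G) {W : Subgroup G} [W.Normal]

include hE

theorem mem_center_of_two {y : G} {P R : Sylow p G}
    (h : (P : Subgroup G).map Q.φ ≠ (R : Subgroup G).map Q.φ)
    (hP : y ∈ Subgroup.centralizer ((P : Subgroup G) : Set G))
    (hR : y ∈ Subgroup.centralizer ((R : Subgroup G) : Set G)) : y ∈ Subgroup.center G := by
  have h1 : (P : Subgroup G) ⊔ R ≤ Subgroup.centralizer ({y} : Set G) :=
    sup_le (fun x hx => Subgroup.mem_centralizer_singleton_iff.2 (Subgroup.mem_centralizer_iff.1 hP x hx))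
      (fun x hx => Subgroup.mem_centralizer_singleton_iff.2 (Subgroup.mem_centralizer_iff.1 hR x hx))
  rw [sup_eq_top hE Q P R h] at h1
  exact Subgroup.mem_center_iff.2 fun g => Subgroup.mem_centralizer_singleton_iff.1 (h1 (Subgroup.mem_top g))

/-- Fixed point sets belonging to different Sylow subgroups of the quotient are disjoint. -/
theorem count (P₀ : Sylow p G) (B : Set G) (hBW : B ⊆ (W : Set G))
    (hBZ : ∀ b ∈ B, b ∉ Subgroup.center G)
    (hB : ∀ b ∈ B, ∃ P : Sylow p G, (P : Subgroup G).map Q.φ = (P₀ : Subgroup G).map Q.φ ∧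
      b ∈ Subgroup.centralizer ((P : Subgroup G) : Set G)) :
    (Q.q + 1) * B.ncard ≤ (covered p W).ncard := by
  have hlift : ∀ R : Sylow p Q.X, ∃ g : G,
      ((g • P₀ : Sylow p G) : Subgroup G).map Q.φ = (R : Subgroup Q.X) := by
    intro R
    obtain ⟨x, hx⟩ := MulAction.exists_smul_eq Q.X (P₀.mapSurjective Q.surj) R
    obtain ⟨g, rfl⟩ := Q.surj x
    refine ⟨g, ?_⟩
    rw [map_smul_sylow, ← hx]
    rfl
  choose gl hgl using hlift
  refine (Nat.mul_le_mul_right _ Q.num_sylow).trans ?_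
  rw [← Set.ncard_univ, ← Set.ncard_prod]
  refine Set.ncard_le_ncard_of_injOn (fun x => gl x.1 * x.2 * (gl x.1)⁻¹) ?_ ?_ (Set.toFinite _)
  · rintro ⟨R, b⟩ ⟨-, hb⟩
    obtain ⟨P, -, hP⟩ := hB b hb
    exact ⟨(inferInstance : W.Normal).conj_mem b (hBW hb) _, fun h => hBZ b hb (conj_mem_center_iff.1 h),
      gl R • P, conj_mem_centralizer_smul hP⟩
  · rintro ⟨R, b⟩ ⟨-, hb⟩ ⟨R', b'⟩ ⟨-, hb'⟩ (e : gl R * b * (gl R)⁻¹ = gl R' * b' * (gl R')⁻¹)
    have himg : ∀ (R : Sylow p Q.X) (P : Sylow p G), (P : Subgroup G).map Q.φ = (P₀ : Subgroup G).map Q.φ →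
        ((gl R • P : Sylow p G) : Subgroup G).map Q.φ = (R : Subgroup Q.X) := by
      intro R P hP
      rw [map_smul_sylow, hP, ← map_smul_sylow, hgl]
    have hRR : R = R' := by
      obtain ⟨P, hPi, hP⟩ := hB b hb
      obtain ⟨P', hPi', hP'⟩ := hB b' hb'
      by_contra hne
      refine hBZ b hb (conj_mem_center_iff.1 (mem_center_of_two hE Q (P := gl R • P) (R := gl R' • P') ?_
        (conj_mem_centralizer_smul hP) (e ▸ conj_mem_centralizer_smul hP')))
      rw [himg R P hPi, himg R' P' hPi']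
      exact fun h => hne (Sylow.ext h)
    subst hRR
    simpa using e

/-- `|W| ≥ q |C_W(S)|` as soon as some fixed point of `S` is noncentral. -/
theorem mul_card_fix_le (hW : IsPGroup p W) (P : Sylow p G) (hnc : ¬ fix W P ≤ Subgroup.center G) :
    Q.q * Nat.card (fix W P) ≤ Nat.card W := by
  have hlt : W ⊓ Subgroup.center G < fix W P :=
    lt_of_le_of_ne (inf_center_le_fix W P) fun e => hnc (e ▸ inf_le_right)
  have hn := mul_card_le_of_lt (hW.to_le (fix_le W _)) hlt
  have hc := count hE Q (W := W) P ((fix W P : Set G) \ Subgroup.center G)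
    (fun b hb => hb.1.1) (fun b hb => hb.2) (fun b hb => ⟨P, rfl, hb.1.2⟩)
  have hcov : (covered p W).ncard ≤ ((W : Set G) \ Subgroup.center G).ncard :=
    Set.ncard_le_ncard (fun y hy => ⟨hy.1, hy.2.1⟩)
  have e1 := ncard_diff_center (fix W P)
  have e2 := ncard_diff_center W
  rw [show fix W P ⊓ Subgroup.center G = W ⊓ Subgroup.center G from
    le_antisymm (inf_le_inf_right _ inf_le_left) (le_inf (inf_center_le_fix W P) inf_le_right)] at e1
  obtain ⟨i, hi⟩ := IsPGroup.iff_card.1 hW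
  obtain ⟨j, hj⟩ := IsPGroup.iff_card.1 (hW.to_le (fix_le W P))
  by_contra hcon
  push Not at hcon
  have hpw : p * Nat.card W ≤ Q.q * Nat.card (fix W P) := by
    rw [hi, hj, Q.hq, ← pow_add] at hcon ⊢
    rw [← pow_succ']
    exact Nat.pow_le_pow_right hp.out.pos ((Nat.pow_lt_pow_iff_right hp.out.one_lt).1 hcon)
  have h2 := hp.out.two_le
  have hpos : 0 < Nat.card ↥(W ⊓ Subgroup.center G) := Nat.card_pos
  set a := Nat.card (fix W P)
  set n := Nat.card ↥(W ⊓ Subgroup.center G)
  set d := ((fix W P : Set G) \ Subgroup.center G).ncard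
  have h3 : a ≤ p * d := by nlinarith [Nat.mul_le_mul_right a h2]
  have h4 : Q.q * a + a ≤ p * ((Q.q + 1) * d) := by
    calc Q.q * a + a = (Q.q + 1) * a := by ring
      _ ≤ (Q.q + 1) * (p * d) := Nat.mul_le_mul_left _ h3
      _ = _ := by ring
  have h5 : p * ((Q.q + 1) * d) + p * n ≤ p * Nat.card W := by
    rw [← mul_add]; exact Nat.mul_le_mul_left _ (by omega)
  nlinarith

variable (hW : IsPGroup p W) (habel : W ≤ Subgroup.centralizer (W : Set G))
  (P₁ : Sylow p G) (hnc : ¬ fix W P₁ ≤ Subgroup.center G)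
  (heq : Nat.card W = Q.q * Nat.card (fix W P₁))

include hW hnc heq in
/-- In the equality case the fixed points depend only on the image in the quotient. -/
theorem fix_eq_of_image_eq {P R : Sylow p G}
    (h : (P : Subgroup G).map Q.φ = (R : Subgroup G).map Q.φ) : fix W P = fix W R := by
  by_contra hne
  set a := Nat.card (fix W P₁)
  set B : Set G := ((fix W P : Set G) ∪ (fix W R : Set G)) \ Subgroup.center G with hB
  have hc := count hE Q (W := W) P B (fun b hb => hb.1.elim (·.1) (·.1)) (fun b hb => hb.2)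
    (fun b hb => hb.1.elim (fun h' => ⟨P, rfl, h'.2⟩) (fun h' => ⟨R, h.symm, h'.2⟩))
  have hcov : (covered p W).ncard ≤ ((W : Set G) \ Subgroup.center G).ncard :=
    Set.ncard_le_ncard (fun y hy => ⟨hy.1, hy.2.1⟩)
  have e2 := ncard_diff_center W
  have eP := card_fix_eq W P₁ P
  have eR := card_fix_eq W P₁ R
  have hI : fix W P ⊓ fix W R < fix W P := lt_of_le_of_ne inf_le_left fun e =>
    hne (Subgroup.eq_of_le_of_card_ge (inf_eq_left.1 e) (by rw [eP, eR]))
  have hn1 := mul_card_le_of_lt (hW.to_le (fix_le W P)) hI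
  have hlt : W ⊓ Subgroup.center G < fix W P₁ :=
    lt_of_le_of_ne (inf_center_le_fix W P₁) fun e => hnc (e ▸ inf_le_right)
  have hn2 := mul_card_le_of_lt (hW.to_le (fix_le W _)) hlt
  have hu : ((fix W P : Set G) ∪ (fix W R : Set G)).ncard + Nat.card ↥(fix W P ⊓ fix W R) = a + a := by
    have := Set.ncard_union_add_ncard_inter (fix W P : Set G) (fix W R : Set G)
    rw [← Subgroup.coe_inf, ← Nat.card_coe_set_eq (α := G), ← Nat.card_coe_set_eq (α := G),
      ← Nat.card_coe_set_eq (α := G) (fix W P : Set G), ← Nat.card_coe_set_eq (α := G) (fix W R : Set G)] at this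
    rw [← Nat.card_coe_set_eq (α := G)]
    calc _ = Nat.card (fix W P) + Nat.card (fix W R) := this
      _ = a + a := by rw [eP, eR]
  have hBn : ((fix W P : Set G) ∪ (fix W R : Set G)).ncard ≤ B.ncard + Nat.card ↥(W ⊓ Subgroup.center G) := by
    refine le_trans ?_ (Nat.add_le_add_left (Nat.card_coe_set_eq ((W ⊓ Subgroup.center G : Subgroup G) : Set G)).ge _)
    refine le_trans (Set.ncard_le_ncard ?_) (Set.ncard_union_le _ _)
    intro y hy
    by_cases hyZ : y ∈ Subgroup.center G
    · exact Or.inr ⟨hy.elim (·.1) (·.1), hyZ⟩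
    · exact Or.inl ⟨hy, hyZ⟩
  have h2 := hp.out.two_le
  rw [eP] at hn1
  have hpos : 0 < Nat.card ↥(W ⊓ Subgroup.center G) := Nat.card_pos
  have hapos : 0 < a := Nat.card_pos
  have hge : a ≤ B.ncard := by nlinarith [Nat.mul_le_mul_right a h2]
  have hmul : (Q.q + 1) * a ≤ (Q.q + 1) * B.ncard := Nat.mul_le_mul_left _ hge
  nlinarith

omit [W.Normal] in
/-- An element of a Sylow subgroup fixing modulo the centre a noncentral fixed point of a different
Sylow subgroup lies in the kernel. -/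
theorem map_eq_one_of_fix {P R : Sylow p G} (hne : (P : Subgroup G).map Q.φ ≠ (R : Subgroup G).map Q.φ)
    {x w : G} (hx : x ∈ (R : Subgroup G)) (hw : w ∈ Subgroup.centralizer ((P : Subgroup G) : Set G))
    (hwZ : w ∉ Subgroup.center G) (hxw : x * w * x⁻¹ * w⁻¹ ∈ Subgroup.center G) : Q.φ x = 1 := by
  have h1 := conj_mem_centralizer_smul (g := x) hw
  have h2 : x * w * x⁻¹ ∈ Subgroup.centralizer ((P : Subgroup G) : Set G) := by
    have := Subgroup.mul_mem _ (Subgroup.center_le_centralizer _ hxw) hw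
    rwa [inv_mul_cancel_right] at this
  have hsame : ((x • P : Sylow p G) : Subgroup G).map Q.φ = (P : Subgroup G).map Q.φ := by
    by_contra h
    exact hwZ (conj_mem_center_iff.1 (mem_center_of_two hE Q h h1 h2))
  set P' := P.mapSurjective Q.surj
  set R' := R.mapSurjective Q.surj
  have hnorm : Q.φ x ∈ Subgroup.normalizer ((P' : Subgroup Q.X) : Set Q.X) := by
    refine Subgroup.mem_normalizer_iff_map_conj_eq.2 ?_
    rw [map_smul_sylow] at hsame
    exact hsame
  have hxR : Q.φ x ∈ (R' : Subgroup Q.X) := Subgroup.mem_map_of_mem _ hx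
  have hxP : Q.φ x ∈ (P' : Subgroup Q.X) := by
    have hz : IsPGroup p (Subgroup.zpowers (Q.φ x)) := R'.2.to_le (Subgroup.zpowers_le.2 hxR)
    have h := P'.is_maximal' (hz.to_sup_of_normal_right' P'.2 (Subgroup.zpowers_le.2 hnorm)) le_sup_right
    exact h.le (Subgroup.mem_sup_left (Subgroup.mem_zpowers _))
  have hbot := Q.inf_sylow P' R' fun e => hne (congrArg (fun A : Sylow p Q.X => (A : Subgroup Q.X)) e)
  exact Subgroup.mem_bot.1 (hbot ▸ ⟨hxP, hxR⟩)

variable (hgen : W ≤ Subgroup.normalClosure (fix W P₁ : Set G))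

include hW habel hnc heq hgen in
/-- In the equality case every element of `W` is fixed by some Sylow subgroup. -/
theorem exists_fix (o : G) (ho : o ∈ W) :
    ∃ P : Sylow p G, o ∈ Subgroup.centralizer ((P : Subgroup G) : Set G) := by
  classical
  set n := Nat.card ↥(W ⊓ Subgroup.center G)
  set O : Set G := {y | y ∈ W ∧ ∀ P : Sylow p G, y ∉ Subgroup.centralizer ((P : Subgroup G) : Set G)} with hO
  by_contra hcon
  push Not at hcon
  have hoO : o ∈ O := ⟨ho, hcon⟩
  have hOZ : ∀ y ∈ O, y ∉ Subgroup.center G := fun y hy hyZ =>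
    hy.2 P₁ (Subgroup.center_le_centralizer _ hyZ)
  -- `O` is small
  have hsmall : O.ncard < Q.q * n := by
    have hc := count hE Q (W := W) P₁ ((fix W P₁ : Set G) \ Subgroup.center G)
      (fun b hb => hb.1.1) (fun b hb => hb.2) (fun b hb => ⟨P₁, rfl, hb.1.2⟩)
    have hdisj : Disjoint O (covered p W) := Set.disjoint_left.2 fun y hy ⟨_, _, P, hP⟩ => hy.2 P hP
    have hsub : O ∪ covered p W ⊆ (W : Set G) \ Subgroup.center G := by
      rintro y (hy | hy)
      · exact ⟨hy.1, hOZ y hy⟩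
      · exact ⟨hy.1, hy.2.1⟩
    have hle := Set.ncard_le_ncard hsub
    rw [Set.ncard_union_eq hdisj] at hle
    have e2 := ncard_diff_center W
    have e1 := ncard_diff_center (fix W P₁)
    rw [show fix W P₁ ⊓ Subgroup.center G = W ⊓ Subgroup.center G from
      le_antisymm (inf_le_inf_right _ inf_le_left) (le_inf (inf_center_le_fix W P₁) inf_le_right)] at e1
    have hapos : 0 < Nat.card (fix W P₁) := Nat.card_pos
    nlinarith
  -- each element of `O` is fixed mod centre by some element of each Sylow subgroup outside the kernel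
  have hstab : ∀ (R : Sylow p G), ∀ y ∈ O, ∃ x ∈ (R : Subgroup G), Q.φ x ≠ 1 ∧
      x * y * x⁻¹ * y⁻¹ ∈ Subgroup.center G := by
    intro R y hy
    by_contra hno
    push Not at hno
    have hsec : ∀ t : ↥((R : Subgroup G).map Q.φ), ∃ x ∈ (R : Subgroup G), Q.φ x = t := fun t => t.2
    choose sec hsecR hsecφ using hsec
    let f : ↥((R : Subgroup G).map Q.φ) × ↥(W ⊓ Subgroup.center G) → O := fun tc =>
      ⟨sec tc.1 * y * (sec tc.1)⁻¹ * tc.2,
        W.mul_mem ((inferInstance : W.Normal).conj_mem y hy.1 _) tc.2.2.1, fun P hP => by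
          have h1 := Subgroup.mul_mem _ hP (Subgroup.inv_mem _ (Subgroup.center_le_centralizer _ tc.2.2.2))
          rw [mul_inv_cancel_right] at h1
          refine hy.2 ((sec tc.1)⁻¹ • P) ?_
          have := conj_mem_centralizer_smul (g := (sec tc.1)⁻¹) h1
          simpa [mul_assoc] using this⟩
    have hf : Function.Injective f := by
      rintro ⟨t, c⟩ ⟨t', c'⟩ e
      have e' : sec t * y * (sec t)⁻¹ * (c : G) = sec t' * y * (sec t')⁻¹ * c' := congrArg Subtype.val e
      have hz : ((sec t')⁻¹ * sec t) * y * ((sec t')⁻¹ * sec t)⁻¹ * y⁻¹ ∈ Subgroup.center G := by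
        have hd : (c' : G) * (c : G)⁻¹ ∈ Subgroup.center G :=
          Subgroup.mul_mem _ c'.2.2 (Subgroup.inv_mem _ c.2.2)
        have h1 : sec t * y * (sec t)⁻¹ = sec t' * y * (sec t')⁻¹ * ((c' : G) * (c : G)⁻¹) := by
          rw [← mul_assoc _ (c' : G), ← e', mul_inv_cancel_right]
        have h2 : ((sec t')⁻¹ * sec t) * y * ((sec t')⁻¹ * sec t)⁻¹ * y⁻¹ =
            y * ((sec t')⁻¹ * ((c' : G) * (c : G)⁻¹) * sec t') * y⁻¹ := by
          calc _ = (sec t')⁻¹ * (sec t * y * (sec t)⁻¹) * sec t' * y⁻¹ := by group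
            _ = _ := by rw [h1]; group
        rw [h2]
        refine (inferInstance : (Subgroup.center G).Normal).conj_mem _ ?_ y
        simpa using (inferInstance : (Subgroup.center G).Normal).conj_mem _ hd (sec t')⁻¹
      have ht : t = t' := by
        have h1 : Q.φ ((sec t')⁻¹ * sec t) = 1 := by
          by_contra h1
          exact hno _ ((R : Subgroup G).mul_mem ((R : Subgroup G).inv_mem (hsecR t')) (hsecR t)) h1 hz
        rw [map_mul, map_inv, hsecφ, hsecφ, inv_mul_eq_one] at h1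
        exact Subtype.ext h1.symm
      subst ht
      exact Prod.ext rfl (Subtype.ext (mul_left_cancel e'))
    have := Nat.card_le_card_of_injective f hf
    rw [Nat.card_prod, Q.card_map R, Nat.card_coe_set_eq] at this
    exact absurd this (not_le.2 hsmall)
  -- translations by fixed points preserve `O`
  have htr : ∀ (R : Sylow p G), ∀ w ∈ fix W R, ∀ y ∈ O, y * w ∈ O := by
    intro R w hw y hy
    refine ⟨W.mul_mem hy.1 hw.1, fun P hP => ?_⟩
    by_cases himg : (P : Subgroup G).map Q.φ = (R : Subgroup G).map Q.φ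
    · have : y * w ∈ fix W R := fix_eq_of_image_eq hE Q hW P₁ hnc heq himg ▸ ⟨W.mul_mem hy.1 hw.1, hP⟩
      exact hy.2 R (by simpa using ((fix W R).mul_mem this ((fix W R).inv_mem hw)).2)
    · obtain ⟨x, hx, hxφ, hxy⟩ := hstab R y hy
      refine hxφ (map_eq_one_of_fix hE Q himg hx hP ?_ ?_)
      · intro hc
        refine hy.2 R ?_
        have := Subgroup.mul_mem _ (Subgroup.center_le_centralizer _ hc) (Subgroup.inv_mem _ hw.2)
        rwa [mul_inv_cancel_right] at this
      · have hxw := Subgroup.mem_centralizer_iff.1 hw.2 x hx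
        have e : x * (y * w) * x⁻¹ * (y * w)⁻¹ = x * y * x⁻¹ * y⁻¹ := by
          calc x * (y * w) * x⁻¹ * (y * w)⁻¹ = x * y * x⁻¹ * (x * w) * x⁻¹ * w⁻¹ * y⁻¹ := by group
            _ = _ := by rw [hxw]; group
        rw [e]
        exact hxy
  let Γ : Subgroup G :=
    { carrier := {w | w ∈ W ∧ ∀ y, y * w ∈ O ↔ y ∈ O}
      one_mem' := ⟨W.one_mem, fun y => by rw [mul_one]⟩
      mul_mem' := fun {u v} hu hv => ⟨W.mul_mem hu.1 hv.1, fun y => by rw [← mul_assoc, hv.2, hu.2]⟩
      inv_mem' := fun {u} hu => ⟨W.inv_mem hu.1, fun y => by rw [← hu.2 (y * u⁻¹), inv_mul_cancel_right]⟩ }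
  have hΓ : Subgroup.normalClosure (fix W P₁ : Set G) ≤ Γ := by
    refine (Subgroup.closure_le _).2 fun z hz => ?_
    obtain ⟨b, hb, hc⟩ := Group.mem_conjugatesOfSet_iff.1 hz
    obtain ⟨g, rfl⟩ := isConj_iff.1 hc
    have hz' : g * b * g⁻¹ ∈ fix W (g • P₁) :=
      ⟨(inferInstance : W.Normal).conj_mem b hb.1 g, conj_mem_centralizer_smul hb.2⟩
    refine ⟨hz'.1, fun y => ⟨fun h => ?_, fun h => htr _ _ hz' y h⟩⟩
    have := htr _ _ ((fix W (g • P₁)).inv_mem hz') _ h
    rwa [mul_inv_cancel_right] at this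
  have h1 : o * o⁻¹ ∈ O := ((hΓ (hgen (W.inv_mem ho))).2 o).2 hoO
  rw [mul_inv_cancel] at h1
  exact h1.2 P₁ (Subgroup.one_mem _)

include hW habel hnc heq hgen in
/-- In the equality case an element of `R` outside the kernel fixes only the fixed points of `R`. -/
theorem mem_fix_of_commute {R : Sylow p G} {x w : G} (hx : x ∈ (R : Subgroup G)) (hxφ : Q.φ x ≠ 1)
    (hw : w ∈ W) (hcomm : x * w * x⁻¹ * w⁻¹ ∈ Subgroup.center G) : w ∈ fix W R := by
  obtain ⟨P, hP⟩ := exists_fix hE Q hW habel P₁ hnc heq hgen w hw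
  by_cases hwZ : w ∈ Subgroup.center G
  · exact ⟨hw, Subgroup.center_le_centralizer _ hwZ⟩
  by_cases himg : (P : Subgroup G).map Q.φ = (R : Subgroup G).map Q.φ
  · exact fix_eq_of_image_eq hE Q hW P₁ hnc heq himg ▸ ⟨hw, hP⟩
  · exact absurd (map_eq_one_of_fix hE Q himg hx hP hwZ hcomm) hxφ

include hW habel hnc heq hgen in
/-- In the equality case some noncentral fixed point of each Sylow subgroup has order `p`. -/
theorem exists_fix_pow_eq_one :
    ∃ y, y ∈ fix W P₁ ∧ y ∉ Subgroup.center G ∧ y ^ p = 1 := by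
  obtain ⟨v₀, hv₀, hv₀Z⟩ := SetLike.not_le_iff_exists.1 hnc
  obtain ⟨v, hv, hvZ, hvp⟩ : ∃ v, v ∈ fix W P₁ ∧ v ∉ Subgroup.center G ∧ v ^ p ∈ Subgroup.center G := by
    classical
    obtain ⟨k, hk⟩ := hW ⟨v₀, hv₀.1⟩
    have hex : ∃ k, v₀ ^ p ^ k ∈ Subgroup.center G := ⟨k, by
      rw [show v₀ ^ p ^ k = 1 from congrArg Subtype.val hk]; exact Subgroup.one_mem _⟩
    rcases Nat.eq_zero_or_pos (Nat.find hex) with h | h
    · have := Nat.find_spec hex
      rw [h, pow_zero, pow_one] at this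
      exact absurd this hv₀Z
    · refine ⟨v₀ ^ p ^ (Nat.find hex - 1), (fix W P₁).pow_mem hv₀ _, Nat.find_min hex (by omega), ?_⟩
      rw [← pow_mul, ← pow_succ, Nat.sub_add_cancel h]
      exact Nat.find_spec hex
  obtain ⟨R, hR⟩ := Q.exists_image_ne P₁
  obtain ⟨g, hg⟩ := MulAction.exists_smul_eq G P₁ R
  set w := g * v * g⁻¹ with hwdef
  have hwC : w ∈ Subgroup.centralizer ((R : Subgroup G) : Set G) := hg ▸ conj_mem_centralizer_smul hv.2
  have hwW : w ∈ W := (inferInstance : W.Normal).conj_mem v hv.1 g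
  have hwZ : w ∉ Subgroup.center G := fun h => hvZ (conj_mem_center_iff.1 h)
  obtain ⟨t, ⟨s, hs, rfl⟩, hst⟩ : ∃ t ∈ (P₁ : Subgroup G).map Q.φ, t ≠ 1 := by
    have hbot : (P₁ : Subgroup G).map Q.φ ≠ ⊥ := fun h => by
      have := Q.card_map P₁
      rw [h, Subgroup.card_bot] at this
      have := Q.two_le_q
      omega
    obtain ⟨⟨x, hx⟩, hxne⟩ := Subgroup.ne_bot_iff_exists_ne_one.1 hbot
    exact ⟨x, hx, fun e => hxne (Subtype.ext e)⟩
  set y := s * w * s⁻¹ * w⁻¹ with hy
  have hsw : s * w * s⁻¹ ∈ W := (inferInstance : W.Normal).conj_mem w hwW s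
  have hyW : y ∈ W := W.mul_mem hsw (W.inv_mem hwW)
  have hyZ : y ∉ Subgroup.center G := fun h =>
    hst (map_eq_one_of_fix hE Q (P := R) (R := P₁) hR hs hwC hwZ h)
  have hyp : y ^ p = 1 := by
    have hc : Commute (s * w * s⁻¹) w⁻¹ :=
      (Subgroup.mem_centralizer_iff.1 (habel (W.inv_mem hwW)) _ hsw)
    rw [hy, hc.mul_pow, conj_pow, inv_pow]
    have hwp : w ^ p ∈ Subgroup.center G := by
      rw [hwdef, conj_pow]
      exact conj_mem_center_iff.2 hvp
    rw [Subgroup.mem_center_iff.1 hwp s, mul_inv_cancel_right, mul_inv_cancel]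
  obtain ⟨P, hP⟩ := exists_fix hE Q hW habel P₁ hnc heq hgen y hyW
  obtain ⟨k, rfl⟩ := MulAction.exists_smul_eq G P₁ P
  refine ⟨k⁻¹ * y * k, ⟨?_, ?_⟩, ?_, ?_⟩
  · simpa using (inferInstance : W.Normal).conj_mem y hyW k⁻¹
  · have := conj_mem_centralizer_smul (g := k⁻¹) hP
    rwa [inv_smul_smul, inv_inv] at this
  · intro h
    exact hyZ (by simpa [mul_assoc] using (inferInstance : (Subgroup.center G).Normal).conj_mem _ h k)
  · have := conj_pow (a := k⁻¹) (b := y) (i := p)
    rw [inv_inv, hyp, mul_one, inv_mul_cancel] at this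
    exact this

end CfsgLib.PushingUp
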