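/-
Minimal centrally large subgroups in the pushing-up situation with C_S(Z(J(S))) = S.
-/
import Mathlib
import Cfsg.Prelude.Def_BaumannBlocks
import Cfsg.Agent.Lib.ChermakDelgado.Basic
import Cfsg.Agent.Lib.Coprime.Basic
import Cfsg.Agent.Lib.PushingUp.FixedPoints

set_option autoImplicit false

namespace CfsgLib.PushingUp

open Cfsg CfsgLib.ChermakDelgado

variable {G : Type*} [Group G] [Finite G] {p : ℕ} [hp : Fact p.Prime] {S : Subgroup G}

local notation:max "𝐂(" R ")" => Subgroup.centralizer (SetLike.coe R)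

/-- `T = O_p(G)` seen inside `S`. -/
def coreIn (p : ℕ) (S : Subgroup G) : Subgroup ↥S := (pCore p G).subgroupOf S

theorem cl_top (hJ : S ≤ Subgroup.centralizer (centerThompsonAOf S : Set G)) :
    IsCentrallyLarge (⊤ : Subgroup ↥S) := by
  obtain ⟨Q, hQ⟩ := exists_centrallyLarge (G := ↥S)
  have h2 : (⊤ : Subgroup ↥S) ≤ 𝐂(thompsonSubgroupA ↥S ⊓ 𝐂(thompsonSubgroupA ↥S)) := by
    intro x _
    refine Subgroup.mem_centralizer_iff.2 fun z hz => Subtype.ext ?_
    refine Subgroup.mem_centralizer_iff.1 (hJ x.2) z ⟨⟨z, hz.1, rfl⟩, Subgroup.mem_centralizer_iff.2 ?_⟩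
    rintro _ ⟨a, ha, rfl⟩
    exact congrArg Subtype.val (Subgroup.mem_centralizer_iff.1 hz.2 a ha)
  have h3 : Q ⊔ thompsonSubgroupA ↥S = ⊤ := top_le_iff.1 (h2.trans (centralizer_center_thompson_le hQ))
  have := cl_sup_thompson hQ
  rwa [h3] at this

variable (hE : IsPushingUpSituation p S)

include hE

theorem coreIn_map : (coreIn p S).map S.subtype = pCore p G :=
  Subgroup.map_subgroupOf_eq_of_le (pCore_le hE)

theorem card_coreIn : Nat.card (coreIn p S) = Nat.card (pCore p G) :=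
  CfsgLib.Coprime.card_subgroupOf (pCore_le hE)

section Closure

variable {Z : Subgroup G} (hZS : Z ≤ S) (hZc : Z ≤ Subgroup.centralizer (S : Set G))

include hZS hZc in
theorem closure_facts :
    Subgroup.normalClosure (Z : Set G) ≤ pCore p G ∧
      pCore p G ≤ Subgroup.centralizer ((Subgroup.normalClosure (Z : Set G) : Subgroup G) : Set G) := by
  have h1 : Z ≤ Subgroup.centralizer (pCore p G : Set G) :=
    hZc.trans (Subgroup.centralizer_le (SetLike.coe_subset_coe.2 (pCore_le hE)))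
  have hT : Z ≤ pCore p G := h1.trans (centralizer_pCore_le hE)
  haveI : (pCore p G).Normal := pCore_normal p G
  exact ⟨Subgroup.normalClosure_le_normal hT,
    Subgroup.le_centralizer_iff.1 (Subgroup.normalClosure_le_normal h1)⟩

variable (hnc : ¬ Z ≤ Subgroup.center G)

include hZS hZc hnc in
theorem inf_centralizer_closure :
    S ⊓ Subgroup.centralizer ((Subgroup.normalClosure (Z : Set G) : Subgroup G) : Set G) = pCore p G := by
  refine le_antisymm ?_ (le_inf (pCore_le hE) (closure_facts hE hZS hZc).2)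
  refine normal_inf_le hE fun h => hnc fun z hz => Subgroup.mem_center_iff.2 fun g => ?_
  have hle : Subgroup.centralizer ((Subgroup.normalClosure (Z : Set G) : Subgroup G) : Set G) ⊔ S ≤
      Subgroup.centralizer ({z} : Set G) := by
    refine sup_le (Subgroup.centralizer_le ?_) (fun s hs => Subgroup.mem_centralizer_singleton_iff.2
      (Subgroup.mem_centralizer_iff.1 (hZc hz) s hs))
    simpa using Subgroup.subset_normalClosure hz
  exact Subgroup.mem_centralizer_singleton_iff.1 (hle (h ▸ Subgroup.mem_top g))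

variable (hJ : S ≤ Subgroup.centralizer (centerThompsonAOf S : Set G))

include hZS hZc hnc hJ in
/-- The normal closure of `Z` together with the centre of `S` is large, with centralizer `T`, and the
fixed point inequality for it is an equality. -/
theorem large_closure (Q : Quot p G) (P : Sylow p G) (hP : (P : Subgroup G) = S) :
    IsCentralizerLarge (Subgroup.center ↥S ⊔ (Subgroup.normalClosure (Z : Set G)).subgroupOf S) ∧
      Subgroup.centralizer ((Subgroup.center ↥S ⊔ (Subgroup.normalClosure (Z : Set G)).subgroupOf S :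
        Subgroup ↥S) : Set ↥S) = coreIn p S ∧
      Subgroup.center ↥S ⊔ (Subgroup.normalClosure (Z : Set G)).subgroupOf S ≤
        Subgroup.centralizer ((Subgroup.center ↥S ⊔ (Subgroup.normalClosure (Z : Set G)).subgroupOf S :
          Subgroup ↥S) : Set ↥S) ∧
      ¬ fix (Subgroup.normalClosure (Z : Set G)) P ≤ Subgroup.center G ∧
      Nat.card ↥(Subgroup.normalClosure (Z : Set G)) =
        Q.q * Nat.card (fix (Subgroup.normalClosure (Z : Set G)) P) := by
  obtain ⟨hVT, hTV⟩ := closure_facts hE hZS hZc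
  have hSV := inf_centralizer_closure hE hZS hZc hnc
  set V := Subgroup.normalClosure (Z : Set G) with hV
  have hVS : V ≤ S := hVT.trans (pCore_le hE)
  have hncf : ¬ fix V P ≤ Subgroup.center G := by
    intro h
    refine hnc fun z hz => h ⟨Subgroup.subset_normalClosure hz, ?_⟩
    rw [hP]
    exact hZc hz
  have hVp : IsPGroup p V := (isPGroup_self hE).to_le hVS
  have hq := mul_card_fix_le hE Q hVp P hncf
  have hcS := card_le hE Q P
  rw [show Nat.card P = Nat.card S by rw [← hP]] at hcS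
  set Zs := Subgroup.center ↥S
  set Vs := V.subgroupOf S
  have hVc : Vs ≤ 𝐂(Vs) := fun x hx => Subgroup.mem_centralizer_iff.2 fun y hy => Subtype.ext
    (Subgroup.mem_centralizer_iff.1 (hTV (hVT hx)) y hy)
  have hCU : 𝐂(Zs ⊔ Vs) = coreIn p S := by
    rw [centralizer_sup]
    refine le_antisymm ?_ (le_inf ?_ ?_)
    · rintro x ⟨-, hx⟩
      show (x : G) ∈ pCore p G
      rw [← hSV]
      exact ⟨x.2, Subgroup.mem_centralizer_iff.2 fun v hv =>
        congrArg Subtype.val (Subgroup.mem_centralizer_iff.1 hx ⟨v, hVS hv⟩ hv)⟩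
    · exact fun x _ => Subgroup.mem_centralizer_iff.2 fun z hz => (Subgroup.mem_center_iff.1 hz x).symm
    · exact fun x hx => Subgroup.mem_centralizer_iff.2 fun v hv =>
        Subtype.ext (Subgroup.mem_centralizer_iff.1 (hTV hx) v hv)
  have hcomm : Zs ⊔ Vs ≤ 𝐂(Zs ⊔ Vs) := comm_sup
    (fun x hx => Subgroup.mem_centralizer_iff.2 fun z hz => (Subgroup.mem_center_iff.1 hz x).symm) hVc
    (fun x hx => Subgroup.mem_centralizer_iff.2 fun v _ => Subgroup.mem_center_iff.1 hx v)
  have hinf : Vs ⊓ Zs = (fix V P).subgroupOf S := by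
    ext x
    refine ⟨fun hx => ⟨hx.1, ?_⟩, fun hx => ⟨hx.1, ?_⟩⟩
    · rw [hP]
      exact Subgroup.mem_centralizer_iff.2 fun s hs =>
        congrArg Subtype.val (Subgroup.mem_center_iff.1 hx.2 ⟨s, hs⟩)
    · have h := hx.2
      rw [hP] at h
      exact Subgroup.mem_center_iff.2 fun s => Subtype.ext (Subgroup.mem_centralizer_iff.1 h s s.2)
  have e1 := CfsgLib.Coprime.card_sup_mul_card_inf (H := Zs) (N := Vs)
    ((Subgroup.center_le_centralizer _).trans (Subgroup.centralizer_le_normalizer _))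
  rw [hinf, CfsgLib.Coprime.card_subgroupOf ((fix_le V P).trans hVS),
    show Nat.card Vs = Nat.card V from CfsgLib.Coprime.card_subgroupOf hVS] at e1
  have hf : maxCentralizerProduct ↥S = Nat.card S * Nat.card Zs := by
    have h : Nat.card (⊤ : Subgroup ↥S) * Nat.card 𝐂((⊤ : Subgroup ↥S)) = maxCentralizerProduct ↥S :=
      cl_large (cl_top hJ)
    rw [← h, Subgroup.card_top, Subgroup.coe_top, Subgroup.centralizer_univ]
  have hapos : 0 < Nat.card (fix V P) := Nat.card_pos
  set a := Nat.card (fix V P)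
  have hge : Nat.card S * Nat.card Zs * a ≤ Nat.card ↥(Zs ⊔ Vs) * Nat.card (pCore p G) * a := by
    calc Nat.card S * Nat.card Zs * a ≤ (Nat.card (pCore p G) * Q.q) * Nat.card Zs * a := by gcongr
      _ = Nat.card Zs * (Q.q * a) * Nat.card (pCore p G) := by ring
      _ ≤ Nat.card Zs * Nat.card V * Nat.card (pCore p G) := by gcongr
      _ = _ := by rw [← e1]; ring
  have hl : IsCentralizerLarge (Zs ⊔ Vs) := by
    refine large_of_ge hf.symm ?_
    rw [hCU, card_coreIn hE]
    exact Nat.le_of_mul_le_mul_right hge hapos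
  refine ⟨hl, hCU, hcomm, hncf, le_antisymm ?_ hq⟩
  have heq : Nat.card ↥(Zs ⊔ Vs) * Nat.card (pCore p G) = Nat.card S * Nat.card Zs := by
    rw [← hf, ← card_coreIn hE, ← hCU]; exact hl
  have hz : 0 < Nat.card Zs * Nat.card (pCore p G) := Nat.mul_pos Nat.card_pos Nat.card_pos
  refine Nat.le_of_mul_le_mul_left ?_ hz
  calc Nat.card Zs * Nat.card (pCore p G) * Nat.card V
      = Nat.card ↥(Zs ⊔ Vs) * a * Nat.card (pCore p G) := by rw [e1]; ring
    _ = Nat.card S * Nat.card Zs * a := by rw [← heq]; ring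
    _ ≤ (Nat.card (pCore p G) * Q.q) * Nat.card Zs * a := by gcongr
    _ = _ := by ring

include hZS hZc hnc hJ in
/-- Some minimal centrally large subgroup of `S` lies in `O_p(G)`. -/
theorem exists_minimalCL_le_core :
    ∃ R : Subgroup ↥S, IsMinimalCentrallyLarge R ∧ R ≤ coreIn p S := by
  obtain ⟨Q⟩ := exists_quot hE
  obtain ⟨P, hP⟩ := exists_sylow_eq hE
  obtain ⟨hl, hC, hc, -⟩ := large_closure hE hZS hZc hnc hJ Q P hP
  obtain ⟨U, hU, hle⟩ := exists_maxAbelianLarge_ge hl hc
  exact ⟨_, minimalCL_of_maxAbelianLarge hU, (cent_mono hle).trans hC.le⟩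

end Closure

/-- Conjugation by an element of `G`, on subgroups of `S`. -/
def cjS (g : G) (X : Subgroup ↥S) : Subgroup ↥S :=
  ((X.map S.subtype).map (MulAut.conj g).toMonoidHom).subgroupOf S

theorem conj_le_core {X : Subgroup ↥S} (hX : X ≤ coreIn p S) (g : G) :
    (X.map S.subtype).map (MulAut.conj g).toMonoidHom ≤ pCore p G := by
  rintro _ ⟨_, ⟨x, hx, rfl⟩, rfl⟩
  exact (pCore_normal p G).conj_mem _ (hX hx) g

theorem cjS_le {X : Subgroup ↥S} (hX : X ≤ coreIn p S) (g : G) : cjS g X ≤ coreIn p S :=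
  fun _ hx => conj_le_core hE hX g hx

theorem map_cjS {X : Subgroup ↥S} (hX : X ≤ coreIn p S) (g : G) :
    (cjS g X).map S.subtype = (X.map S.subtype).map (MulAut.conj g).toMonoidHom :=
  Subgroup.map_subgroupOf_eq_of_le ((conj_le_core hE hX g).trans (pCore_le hE))

theorem card_cjS {X : Subgroup ↥S} (hX : X ≤ coreIn p S) (g : G) :
    Nat.card (cjS g X) = Nat.card X := by
  rw [← Subgroup.card_map_of_injective S.subtype_injective, map_cjS hE hX,
    Subgroup.card_map_of_injective (show Function.Injective _ from (MulAut.conj g).injective),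
    Subgroup.card_map_of_injective S.subtype_injective]

omit hE in
theorem mem_cjS {X : Subgroup ↥S} {g : G} {x : ↥S} (hx : x ∈ X) (h : g * x * g⁻¹ ∈ S) :
    (⟨g * x * g⁻¹, h⟩ : ↥S) ∈ cjS g X :=
  ⟨(x : G), ⟨x, hx, rfl⟩, rfl⟩

theorem exists_cjS {X : Subgroup ↥S} (hX : X ≤ coreIn p S) (g : G) {x : ↥S} (hx : x ∈ X) :
    ∃ h : g * x * g⁻¹ ∈ S, (⟨g * x * g⁻¹, h⟩ : ↥S) ∈ cjS g X :=
  ⟨pCore_le hE ((pCore_normal p G).conj_mem _ (hX hx) g), mem_cjS hx _⟩

theorem cjS_centralizer_le {X : Subgroup ↥S} (hC : 𝐂(X) ≤ coreIn p S) (g : G) :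
    cjS g 𝐂(X) ≤ 𝐂(cjS g X) := by
  rintro ⟨_, hyS⟩ ⟨_, ⟨c, hc, rfl⟩, rfl⟩
  refine Subgroup.mem_centralizer_iff.2 ?_
  rintro ⟨_, hxS⟩ ⟨_, ⟨x, hx, rfl⟩, rfl⟩
  have h := congrArg Subtype.val (Subgroup.mem_centralizer_iff.1 hc x hx)
  refine Subtype.ext ?_
  simp only [Subgroup.coe_mul, MulEquiv.coe_toMonoidHom, MulAut.conj_apply, Subgroup.coe_subtype] at h ⊢
  calc g * (x : G) * g⁻¹ * (g * c * g⁻¹) = g * ((x : G) * c) * g⁻¹ := by group
    _ = _ := by rw [h]; group

theorem minimalCL_cjS {X : Subgroup ↥S} (hX : IsMinimalCentrallyLarge X) (hXT : X ≤ coreIn p S) (g : G) :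
    IsMinimalCentrallyLarge (cjS g X) ∧ cjS g 𝐂(X) = 𝐂(cjS g X) := by
  have hCT : 𝐂(X) ≤ coreIn p S := (cl_le hX.1).trans hXT
  have hle := cjS_centralizer_le hE hCT g
  have hge : Nat.card X * Nat.card 𝐂(X) ≤ Nat.card (cjS g X) * Nat.card 𝐂(cjS g X) := by
    rw [card_cjS hE hXT, ← card_cjS hE hCT g]
    exact Nat.mul_le_mul_left _ (card_le_of_le' hle)
  have hl : IsCentralizerLarge (cjS g X) := large_of_ge (cl_large hX.1) hge
  have hC : cjS g 𝐂(X) = 𝐂(cjS g X) := by
    refine Subgroup.eq_of_le_of_card_ge hle (Nat.le_of_mul_le_mul_left ?_ (Nat.card_pos (α := cjS g X)))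
    rw [card_cjS hE hCT, large_eq hl (cl_large hX.1), card_cjS hE hXT]
  have hcl : IsCentrallyLarge (cjS g X) := (centrallyLarge_iff _).2 ⟨hl, by
    rw [← hC]
    exact Subgroup.comap_mono (Subgroup.map_mono (Subgroup.map_mono (cl_le hX.1)))⟩
  obtain ⟨M, hM, hMle⟩ := exists_minimalCL_le hcl
  refine ⟨?_, hC⟩
  rwa [← Subgroup.eq_of_le_of_card_ge hMle
    (((card_cjS hE hXT g).trans (minimalCL_card_eq hX hM).1).le)]

omit hE in
/-- Minimal centrally large subgroups correspond under automorphisms. -/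
theorem minimalCL_map {H : Type*} [Group H] [Finite H] (e : H ≃* H) {X : Subgroup H}
    (hX : IsMinimalCentrallyLarge X) : IsMinimalCentrallyLarge (X.map e.toMonoidHom) := by
  have hC : 𝐂(X.map e.toMonoidHom) = (𝐂(X)).map e.toMonoidHom :=
    (CfsgLib.LocalEvenSix.centralizer_map_mulEquiv e X).symm
  have hc : ∀ Y : Subgroup H, Nat.card (Y.map e.toMonoidHom) = Nat.card Y := fun Y =>
    Subgroup.card_map_of_injective (show Function.Injective _ from e.injective)
  have hl : IsCentralizerLarge (X.map e.toMonoidHom) :=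
    large_of_ge (cl_large hX.1) (by rw [hC, hc, hc])
  have hcl : IsCentrallyLarge (X.map e.toMonoidHom) := (centrallyLarge_iff _).2 ⟨hl, by
    rw [hC]; exact Subgroup.map_mono (cl_le hX.1)⟩
  obtain ⟨M, hM, hMle⟩ := exists_minimalCL_le hcl
  rwa [← Subgroup.eq_of_le_of_card_ge hMle (((hc X).trans (minimalCL_card_eq hX hM).1).le)]

omit hE in
/-- A subgroup invariant in one direction under all conjugations is normal. -/
theorem normal_of_conj_le {X : Subgroup G} (h : ∀ g : G, X.map (MulAut.conj g).toMonoidHom ≤ X) :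
    X.Normal :=
  ⟨fun n hn g => h g ⟨n, hn, rfl⟩⟩

end CfsgLib.PushingUp
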