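/-
Abelian subgroups of largest order outside `O_p(G)` in the pushing-up situation: they induce the natural module on
the normal closure of `Z(S)`, and `Z(J(S))` is the product of `Z(S)` and a normal subgroup of `G`.
-/
import Mathlib
import Cfsg.Prelude.Def_BaumannBlocks
import Cfsg.Agent.Lib.ChermakDelgado.Basic
import Cfsg.Agent.Lib.PushingUp.CentrallyLarge

set_option autoImplicit false
set_option linter.style.haveILetI false
set_option linter.unusedVariables false
set_option linter.unusedSimpArgs false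

namespace CfsgLib.PushingUp

open Cfsg CfsgLib.ChermakDelgado

variable {G : Type*} [Group G] [Finite G]

local notation:max "𝐂(" R ")" => Subgroup.centralizer (SetLike.coe R)

local notation:max "𝐙(" R ")" => (R ⊓ Subgroup.centralizer (SetLike.coe R))

/-- `A` is an abelian subgroup of `S` of largest order. -/
structure IsLargeIn (S A : Subgroup G) : Prop where
  le : A ≤ S
  comm : A ≤ Subgroup.centralizer (A : Set G)
  max : ∀ B : Subgroup G, B ≤ S → B ≤ Subgroup.centralizer (B : Set G) → Nat.card B ≤ Nat.card A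

omit [Finite G] in
theorem comm_map_iff {S : Subgroup G} (A : Subgroup ↥S) :
    A.map S.subtype ≤ 𝐂(A.map S.subtype) ↔ A ≤ 𝐂(A) := by
  constructor
  · intro h x hx
    exact Subgroup.mem_centralizer_iff.2 fun y hy =>
      Subtype.ext (Subgroup.mem_centralizer_iff.1 (h ⟨x, hx, rfl⟩) y ⟨y, hy, rfl⟩)
  · rintro h _ ⟨x, hx, rfl⟩
    refine Subgroup.mem_centralizer_iff.2 ?_
    rintro _ ⟨y, hy, rfl⟩
    exact congrArg Subtype.val (Subgroup.mem_centralizer_iff.1 (h hx) y hy)

omit [Finite G] in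
theorem isLargeIn_of_mem {S : Subgroup G} {A : Subgroup ↥S} (hA : A ∈ maxAbelianSubgroups ↥S) :
    IsLargeIn S (A.map S.subtype) := by
  refine ⟨Subgroup.map_subtype_le A, (comm_map_iff A).2 ((comm_iff A).1 hA.1), fun B hB hBc => ?_⟩
  have hBm : (B.subgroupOf S).map S.subtype = B := Subgroup.map_subgroupOf_eq_of_le hB
  have h := hA.2 (B.subgroupOf S) ((comm_iff _).2 ((comm_map_iff _).1 (by rw [hBm]; exact hBc)))
  rw [← hBm, Subgroup.card_map_of_injective S.subtype_injective,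
    Subgroup.card_map_of_injective S.subtype_injective]
  exact h

omit [Finite G] in
theorem mem_maxAbelian_of_isLargeIn {S A : Subgroup G} (hA : IsLargeIn S A) :
    A.subgroupOf S ∈ maxAbelianSubgroups ↥S := by
  have hm : (A.subgroupOf S).map S.subtype = A := Subgroup.map_subgroupOf_eq_of_le hA.le
  refine ⟨(comm_iff _).2 ((comm_map_iff _).1 (by rw [hm]; exact hA.comm)), fun B hB => ?_⟩
  have h := hA.max (B.map S.subtype) (Subgroup.map_subtype_le B) ((comm_map_iff B).2 ((comm_iff B).1 hB))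
  rw [Subgroup.card_map_of_injective S.subtype_injective, ← hm,
    Subgroup.card_map_of_injective S.subtype_injective] at h
  exact h

theorem exists_isLargeIn (S : Subgroup G) : ∃ A, IsLargeIn S A := by
  obtain ⟨A, hA⟩ := exists_maxAb (G := ↥S)
  exact ⟨_, isLargeIn_of_mem hA⟩

omit [Finite G] in
theorem IsLargeIn.le_thompson {S A : Subgroup G} (hA : IsLargeIn S A) : A ≤ thompsonSubgroupAOf S := by
  rw [← Subgroup.map_subgroupOf_eq_of_le hA.le]
  exact Subgroup.map_mono (le_sSup (mem_maxAbelian_of_isLargeIn hA))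

omit [Finite G] in
theorem thompson_le {S X : Subgroup G} (h : ∀ A, IsLargeIn S A → A ≤ X) : thompsonSubgroupAOf S ≤ X := by
  rw [thompsonSubgroupAOf, Subgroup.map_le_iff_le_comap]
  exact sSup_le fun A hA => Subgroup.map_le_iff_le_comap.1 (h _ (isLargeIn_of_mem hA))

omit [Finite G] in
theorem thompson_le_self (S : Subgroup G) : thompsonSubgroupAOf S ≤ S := Subgroup.map_subtype_le _

theorem IsLargeIn.mem_of_commute {S A : Subgroup G} (hA : IsLargeIn S A) {z : G} (hz : z ∈ S)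
    (hc : z ∈ 𝐂(A)) : z ∈ A := by
  have h1 : A ⊔ Subgroup.zpowers z ≤ 𝐂(A ⊔ Subgroup.zpowers z) :=
    comm_sup hA.comm (zpowers_comm z) (Subgroup.le_centralizer_iff.1 (zpowers_le_centralizer hc))
  have h2 := hA.max _ (sup_le hA.le (Subgroup.zpowers_le.2 hz)) h1
  rw [Subgroup.eq_of_le_of_card_ge le_sup_left h2]
  exact Subgroup.mem_sup_right (Subgroup.mem_zpowers z)

theorem center_le_of_isLargeIn {S A : Subgroup G} (hA : IsLargeIn S A) : 𝐙(S) ≤ A := fun _ hz =>
  hA.mem_of_commute hz.1 (Subgroup.centralizer_le (SetLike.coe_subset_coe.2 hA.le) hz.2)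

theorem center_le_centerThompson (S : Subgroup G) : 𝐙(S) ≤ centerThompsonAOf S := by
  obtain ⟨A, hA⟩ := exists_isLargeIn S
  exact le_inf ((center_le_of_isLargeIn hA).trans hA.le_thompson)
    (inf_le_right.trans (Subgroup.centralizer_le (SetLike.coe_subset_coe.2 (thompson_le_self S))))

omit [Finite G] in
theorem thompson_map_conj_le {S : Subgroup G} {g : G} (hg : S.map (MulAut.conj g).toMonoidHom = S) :
    (thompsonSubgroupAOf S).map (MulAut.conj g).toMonoidHom ≤ thompsonSubgroupAOf S := by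
  rw [Subgroup.map_le_iff_le_comap]
  refine thompson_le fun A hA => Subgroup.map_le_iff_le_comap.1 (IsLargeIn.le_thompson ⟨?_, ?_, ?_⟩)
  · exact (Subgroup.map_mono hA.le).trans hg.le
  · rintro _ ⟨a, ha, rfl⟩
    refine Subgroup.mem_centralizer_iff.2 ?_
    rintro _ ⟨b, hb, rfl⟩
    rw [← map_mul, ← map_mul, Subgroup.mem_centralizer_iff.1 (hA.comm ha) b hb]
  · intro B hB hBc
    rw [Subgroup.card_map_of_injective (show Function.Injective _ from (MulAut.conj g).injective)]
    exact hA.max B hB hBc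

omit [Finite G] in
theorem map_conj_eq_of_mem {S : Subgroup G} {g : G} (hg : g ∈ S) :
    S.map (MulAut.conj g).toMonoidHom = S :=
  Subgroup.mem_normalizer_iff_map_conj_eq.1 (Subgroup.le_normalizer hg)

omit [Finite G] in
theorem le_normalizer_thompson (S : Subgroup G) :
    S ≤ Subgroup.normalizer (thompsonSubgroupAOf S : Set G) := by
  intro s hs
  refine Subgroup.mem_normalizer_iff.2 fun x => ⟨fun hx => ?_, fun hx => ?_⟩
  · exact thompson_map_conj_le (map_conj_eq_of_mem hs) ⟨x, hx, rfl⟩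
  · have := thompson_map_conj_le (map_conj_eq_of_mem (S.inv_mem hs)) ⟨_, hx, rfl⟩
    simpa [mul_assoc] using this

theorem thompson_normal {T : Subgroup G} (hT : T.Normal) : (thompsonSubgroupAOf T).Normal :=
  normal_of_conj_le fun g => thompson_map_conj_le
    (Subgroup.mem_normalizer_iff_map_conj_eq.1 ((Subgroup.normalizer_eq_top_iff.2 hT).ge (Subgroup.mem_top g)))

theorem centerThompson_normal {T : Subgroup G} (hT : T.Normal) : (centerThompsonAOf T).Normal := by
  haveI := thompson_normal hT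
  unfold centerThompsonAOf
  infer_instance

omit [Finite G] in
theorem centerThompson_comm (T : Subgroup G) : centerThompsonAOf T ≤ 𝐂(centerThompsonAOf T) :=
  inf_le_right.trans (Subgroup.centralizer_le (SetLike.coe_subset_coe.2 inf_le_left))

theorem pow_arith {p i j m e : ℕ} (hp : p.Prime) (hm : 1 ≤ m) (hij : i < j)
    (h : p ^ e + p ^ m * p ^ i = (p ^ m + 1) * p ^ j) : j = i + m := by
  have h2 := hp.two_le
  rw [← pow_add, add_mul, ← pow_add, one_mul] at h
  have hlt : p ^ (m + i) < p ^ (m + j) := Nat.pow_lt_pow_right hp.one_lt (by omega)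
  by_contra hne
  rcases Nat.lt_or_gt_of_ne hne with hj | hj
  · have he : p ^ j < p ^ e := by
      have h3 : p * p ^ (m + i) ≤ p ^ (m + j) := by
        rw [← pow_succ']; exact Nat.pow_le_pow_right hp.pos (by omega)
      have h4 : 2 * p ^ (m + i) ≤ p * p ^ (m + i) := Nat.mul_le_mul_right _ h2
      have h5 : 0 < p ^ (m + i) := pow_pos hp.pos _
      omega
    have he' := (Nat.pow_lt_pow_iff_right hp.one_lt).1 he
    have d1 : p ^ (j + 1) ∣ p ^ e + p ^ (m + i) := dvd_add (pow_dvd_pow p (by omega)) (pow_dvd_pow p (by omega))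
    rw [h] at d1
    have d2 : p ^ (j + 1) ∣ p ^ j := (Nat.dvd_add_right (pow_dvd_pow p (by omega : j + 1 ≤ m + j))).1 d1
    have := (Nat.pow_dvd_pow_iff_le_right hp.one_lt).1 d2
    omega
  · have he : p ^ (i + m) < p ^ e := by
      have h3 : p * p ^ (m + i) ≤ p ^ j := by
        rw [← pow_succ']; exact Nat.pow_le_pow_right hp.pos (by omega)
      have h5 : p ^ (i + m) = p ^ (m + i) := by rw [add_comm]
      have h4 : 2 * p ^ (m + i) ≤ p * p ^ (m + i) := Nat.mul_le_mul_right _ h2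
      have h6 : 0 < p ^ (m + i) := pow_pos hp.pos _
      omega
    have he' := (Nat.pow_lt_pow_iff_right hp.one_lt).1 he
    have d1 : p ^ (i + m + 1) ∣ p ^ e + p ^ (m + i) := by
      rw [h]; exact dvd_add (pow_dvd_pow p (by omega)) (pow_dvd_pow p (by omega))
    have d2 : p ^ (i + m + 1) ∣ p ^ (m + i) := (Nat.dvd_add_right (pow_dvd_pow p (by omega : i + m + 1 ≤ e))).1 d1
    have := (Nat.pow_dvd_pow_iff_le_right hp.one_lt).1 d2
    omega

variable {p : ℕ} [hp : Fact p.Prime] {S : Subgroup G} (hE : IsPushingUpSituation p S) (Q : Quot p G)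

omit [Finite G] in
theorem card_map_le {H : Type*} [Group H] [Finite H] (f : G →* H) {A B : Subgroup G} (h : A ≤ B) :
    Nat.card (A.map f) ≤ Nat.card (B.map f) := Subgroup.card_le_of_le (Subgroup.map_mono h)

theorem map_pCore_eq_bot : (pCore p G).map Q.φ = ⊥ := by
  obtain ⟨P⟩ := (inferInstance : Nonempty (Sylow p G))
  obtain ⟨R, hR⟩ := Q.exists_image_ne P
  rw [eq_bot_iff, ← Q.inf_sylow (R.mapSurjective Q.surj) (P.mapSurjective Q.surj)
    fun e => hR (congrArg (fun A : Sylow p Q.X => (A : Subgroup Q.X)) e)]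
  exact le_inf (Subgroup.map_mono (CfsgLib.PCore.pCore_le_sylow R))
    (Subgroup.map_mono (CfsgLib.PCore.pCore_le_sylow P))

include hE in
/-- The Thompson trick: if some abelian subgroups of largest order of `S` all lie in `O_p(G)`. -/
theorem thompson_le_core_normal (hnc : ¬ 𝐙(S) ≤ Subgroup.center G)
    (hJT : thompsonSubgroupAOf S ≤ pCore p G) :
    (S ⊓ 𝐂(centerThompsonAOf S)).Normal := by
  have hTS := pCore_le hE
  haveI : (pCore p G).Normal := pCore_normal p G
  have hJ : thompsonSubgroupAOf S = thompsonSubgroupAOf (pCore p G) := by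
    refine le_antisymm (thompson_le fun A hA => ?_) (thompson_le fun A hA => ?_)
    · exact IsLargeIn.le_thompson ⟨hA.le_thompson.trans hJT, hA.comm,
        fun B hB hBc => hA.max B (hB.trans hTS) hBc⟩
    · obtain ⟨A₀, hA₀⟩ := exists_isLargeIn S
      exact IsLargeIn.le_thompson ⟨hA.le.trans hTS, hA.comm, fun B hB hBc =>
        (hA₀.max B hB hBc).trans (hA.max A₀ (hA₀.le_thompson.trans hJT) hA₀.comm)⟩
  have hW : centerThompsonAOf S = centerThompsonAOf (pCore p G) := by
    unfold centerThompsonAOf; rw [hJ]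
  haveI := centerThompson_normal (pCore_normal p G : (pCore p G).Normal)
  rw [hW]
  set W := centerThompsonAOf (pCore p G)
  have hne : 𝐂(W) ⊔ S ≠ ⊤ := by
    intro h
    refine hnc fun z hz => Subgroup.mem_center_iff.2 fun g => ?_
    have hle : 𝐂(W) ⊔ S ≤ Subgroup.centralizer ({z} : Set G) := by
      refine sup_le (Subgroup.centralizer_le ?_) (fun s hs => Subgroup.mem_centralizer_singleton_iff.2
        (Subgroup.mem_centralizer_iff.1 hz.2 s hs))
      intro y hy
      rw [Set.mem_singleton_iff] at hy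
      rw [hy, show W = centerThompsonAOf S from hW.symm]
      exact center_le_centerThompson S hz
    exact Subgroup.mem_centralizer_singleton_iff.1 (hle (h ▸ Subgroup.mem_top g))
  have : S ⊓ 𝐂(W) = pCore p G ⊓ 𝐂(W) :=
    le_antisymm (le_inf (normal_inf_le hE hne) inf_le_right) (inf_le_inf_right _ hTS)
  rw [this]
  infer_instance

section Cover

variable {W : Subgroup G} [W.Normal] (hW : IsPGroup p W) (habel : W ≤ Subgroup.centralizer (W : Set G))
  (P₁ : Sylow p G) (hnc : ¬ fix W P₁ ≤ Subgroup.center G)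
  (heq : Nat.card W = Q.q * Nat.card (fix W P₁))
  (hgen : W ≤ Subgroup.normalClosure (fix W P₁ : Set G))

include hE hW habel hnc heq hgen in
/-- In the equality case the fixed point spaces partition the noncentral part of every normal subgroup. -/
theorem card_normal_le (U : Subgroup G) [U.Normal] (hUW : U ≤ W) :
    Nat.card U + Q.q * Nat.card ↥(W ⊓ Subgroup.center G ⊓ U) =
      (Q.q + 1) * Nat.card ↥(U ⊓ fix W P₁) := by
  have hfixU : fix U P₁ = U ⊓ fix W P₁ := by
    unfold fix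
    rw [← inf_assoc, inf_eq_left.2 hUW]
  have hZU : W ⊓ Subgroup.center G ⊓ U = U ⊓ Subgroup.center G := by
    rw [inf_comm, ← inf_assoc, inf_eq_left.2 hUW]
  rw [hZU, ← hfixU]
  have e1 := ncard_diff_center (fix U P₁)
  rw [show fix U P₁ ⊓ Subgroup.center G = U ⊓ Subgroup.center G from
    le_antisymm (inf_le_inf_right _ inf_le_left) (le_inf (inf_center_le_fix U P₁) inf_le_right)] at e1
  have e2 := ncard_diff_center U
  have hge := count hE Q (W := U) P₁ ((fix U P₁ : Set G) \ Subgroup.center G)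
    (fun b hb => hb.1.1) (fun b hb => hb.2) (fun b hb => ⟨P₁, rfl, hb.1.2⟩)
  have hcov : (covered p U).ncard ≤ ((U : Set G) \ Subgroup.center G).ncard :=
    Set.ncard_le_ncard (fun y hy => ⟨hy.1, hy.2.1⟩)
  have hle : ((U : Set G) \ Subgroup.center G).ncard ≤
      (Q.q + 1) * ((fix U P₁ : Set G) \ Subgroup.center G).ncard := by
    refine le_trans ?_ (Nat.mul_le_mul_right _ Q.num_sylow_le)
    have hlift : ∀ R : Sylow p Q.X, ∃ g : G,
        ((g • P₁ : Sylow p G) : Subgroup G).map Q.φ = (R : Subgroup Q.X) := by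
      intro R
      obtain ⟨x, hx⟩ := MulAction.exists_smul_eq Q.X (P₁.mapSurjective Q.surj) R
      obtain ⟨g, rfl⟩ := Q.surj x
      refine ⟨g, ?_⟩
      rw [map_smul_sylow, ← hx]
      rfl
    choose gl hgl using hlift
    have hsyl : ∀ y : ↥((U : Set G) \ Subgroup.center G), ∃ R : Sylow p Q.X,
        (gl R)⁻¹ * y * gl R ∈ (fix U P₁ : Set G) \ Subgroup.center G := by
      rintro ⟨y, hy, hyZ⟩
      obtain ⟨P, hP⟩ := exists_fix hE Q hW habel P₁ hnc heq hgen y (hUW hy)
      refine ⟨P.mapSurjective Q.surj, ?_⟩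
      set g := gl (P.mapSurjective Q.surj) with hg
      have hf : fix W P = fix W (g • P₁) :=
        fix_eq_of_image_eq hE Q hW P₁ hnc heq (by rw [hg, hgl, Sylow.coe_mapSurjective])
      have hy' : y ∈ fix W (g • P₁) := hf ▸ ⟨hUW hy, hP⟩
      refine ⟨⟨?_, ?_⟩, fun h => hyZ ?_⟩
      · simpa using (inferInstance : U.Normal).conj_mem y hy g⁻¹
      · have := conj_mem_centralizer_smul (g := g⁻¹) hy'.2
        rwa [inv_smul_smul, inv_inv] at this
      · simpa [mul_assoc] using (inferInstance : (Subgroup.center G).Normal).conj_mem _ h g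
    choose R hR using hsyl
    rw [← Set.ncard_univ, ← Set.ncard_prod, ← Nat.card_coe_set_eq, ← Nat.card_coe_set_eq]
    refine Nat.card_le_card_of_injective (fun y => ⟨(R y, (gl (R y))⁻¹ * y * gl (R y)), trivial, hR y⟩) ?_
    intro y y' e
    have e' := congrArg Subtype.val e
    simp only [Prod.mk.injEq] at e'
    obtain ⟨hRR, hyy⟩ := e'
    rw [← hRR] at hyy
    exact Subtype.ext (mul_left_cancel (mul_right_cancel hyy))
  have heq' : ((U : Set G) \ Subgroup.center G).ncard =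
      (Q.q + 1) * ((fix U P₁ : Set G) \ Subgroup.center G).ncard :=
    le_antisymm hle (hge.trans hcov)
  rw [← e2, heq', ← e1]
  ring

include hE hW habel hnc heq hgen in
/-- The fixed points of a normal subgroup of `W` modulo the central ones: none or `q`. -/
theorem card_fix_normal (U : Subgroup G) [U.Normal] (hUW : U ≤ W) (h : ¬ U ⊓ fix W P₁ ≤ Subgroup.center G) :
    Nat.card ↥(U ⊓ fix W P₁) = Q.q * Nat.card ↥(W ⊓ Subgroup.center G ⊓ U) := by
  have hc := card_normal_le hE Q hW habel P₁ hnc heq hgen U hUW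
  have hlt : W ⊓ Subgroup.center G ⊓ U < U ⊓ fix W P₁ := by
    refine lt_of_le_of_ne (le_inf inf_le_right (inf_le_left.trans (inf_center_le_fix W P₁))) fun e => h ?_
    rw [← e]
    exact inf_le_left.trans inf_le_right
  have hU : IsPGroup p U := hW.to_le hUW
  obtain ⟨e, he⟩ := IsPGroup.iff_card.1 hU
  obtain ⟨i, hi⟩ := IsPGroup.iff_card.1 (hU.to_le (inf_le_right : W ⊓ Subgroup.center G ⊓ U ≤ U))
  obtain ⟨j, hj⟩ := IsPGroup.iff_card.1 (hU.to_le (inf_le_left : U ⊓ fix W P₁ ≤ U))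
  have hm := mul_card_le_of_lt (hU.to_le (inf_le_left : U ⊓ fix W P₁ ≤ U)) hlt
  rw [hi, hj, ← pow_succ'] at hm
  have hij := (Nat.pow_le_pow_iff_right hp.out.one_lt).1 hm
  rw [he, hi, hj, Q.hq] at hc
  rw [hi, hj, Q.hq, ← pow_add, pow_arith hp.out Q.hm (by omega) hc, add_comm]

end Cover

section Split

variable (hnc : ¬ 𝐙(S) ≤ Subgroup.center G) {A : Subgroup G} (hA : IsLargeIn S A)
  (hAT : ¬ A ≤ pCore p G)

include hE hnc hA hAT in
/-- An abelian subgroup of largest order outside `O_p(G)` forces the natural module situation. -/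
theorem natural_of_offender (P₁ : Sylow p G) (hP₁ : (P₁ : Subgroup G) = S) :
    let V := Subgroup.normalClosure ((𝐙(S) : Subgroup G) : Set G)
    Nat.card V = Q.q * Nat.card (fix V P₁) ∧ ¬ fix V P₁ ≤ Subgroup.center G ∧
      V ⊓ 𝐂(A) = fix V P₁ ∧ A ⊔ pCore p G = S ∧
      Nat.card A = Q.q * Nat.card ↥(A ⊓ pCore p G) ∧ IsLargeIn S ((A ⊓ pCore p G) ⊔ V) := by
  intro V
  have hZS : 𝐙(S) ≤ S := inf_le_left
  have hZc : 𝐙(S) ≤ 𝐂(S) := inf_le_right
  obtain ⟨hVT, hTV⟩ := closure_facts hE hZS hZc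
  have hTS := pCore_le hE
  haveI : (pCore p G).Normal := pCore_normal p G
  haveI : V.Normal := Subgroup.normalClosure_normal
  set T := pCore p G
  have hVc : V ≤ 𝐂(V) := hVT.trans hTV
  have hfix : fix V P₁ = 𝐙(S) := by
    unfold fix
    rw [hP₁]
    exact le_antisymm (inf_le_inf_right _ (hVT.trans hTS))
      (le_inf Subgroup.subset_normalClosure inf_le_right)
  have hncf : ¬ fix V P₁ ≤ Subgroup.center G := hfix ▸ hnc
  have hVp : IsPGroup p V := (isPGroup_self hE).to_le (hVT.trans hTS)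
  have hgen : V ≤ Subgroup.normalClosure (fix V P₁ : Set G) := by rw [hfix]
  have hq := mul_card_fix_le hE Q hVp P₁ hncf
  have hST : Nat.card S ≤ Nat.card T * Q.q := by
    have := card_le hE Q P₁
    rwa [show Nat.card P₁ = Nat.card S by rw [← hP₁]] at this
  have hker : S ⊓ Q.φ.ker ≤ T := hP₁ ▸ inf_ker_le hE Q P₁
  -- the measure
  let μ : Subgroup G → ℕ := fun B => Nat.card B * Nat.card ↥(V ⊓ 𝐂(B))
  have hμT : μ T = Nat.card T * Nat.card V := by
    show Nat.card T * Nat.card ↥(V ⊓ 𝐂(T)) = _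
    rw [inf_eq_left.2 (Subgroup.le_centralizer_iff.1 hTV)]
  have hμS : μ S = Nat.card S * Nat.card (fix V P₁) := by
    show Nat.card S * Nat.card ↥(V ⊓ 𝐂(S)) = _
    unfold fix
    rw [hP₁]
  have hμS_le : μ S ≤ μ T := by
    rw [hμS, hμT]
    calc Nat.card S * Nat.card (fix V P₁) ≤ Nat.card T * Q.q * Nat.card (fix V P₁) := by gcongr
      _ ≤ _ := by rw [mul_assoc]; gcongr
  let 𝓑 : Set (Subgroup G) := {B | T ≤ B ∧ B ≤ S}
  obtain ⟨M, hM, hMmax⟩ := Set.exists_max_image 𝓑 (fun B => μ B * (Nat.card G + 1) + Nat.card B)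
    (Set.toFinite _) ⟨T, le_rfl, hTS⟩
  have hμmax : ∀ B ∈ 𝓑, μ B ≤ μ M := by
    intro B hB
    by_contra hlt
    push Not at hlt
    have h1 := hMmax B hB
    have h2 : (μ M + 1) * (Nat.card G + 1) ≤ μ B * (Nat.card G + 1) := Nat.mul_le_mul_right _ hlt
    have h3 : Nat.card M ≤ Nat.card G := Subgroup.card_le_card_group M
    nlinarith
  have hmaxle : ∀ B ∈ 𝓑, μ M ≤ μ B → B ≤ M := by
    intro B hB hge
    have hsup : B ⊔ M ∈ 𝓑 := ⟨hB.1.trans le_sup_left, sup_le hB.2 hM.2⟩
    have hinf : B ⊓ M ∈ 𝓑 := ⟨le_inf hB.1 hM.1, inf_le_left.trans hB.2⟩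
    have hc1 := CfsgLib.LocalEvenSix.card_mul_card_le B M
    have hc2 := CfsgLib.LocalEvenSix.card_mul_card_le (V ⊓ 𝐂(B)) (V ⊓ 𝐂(M))
    have h3 : Nat.card ↥((V ⊓ 𝐂(B)) ⊔ (V ⊓ 𝐂(M))) ≤ Nat.card ↥(V ⊓ 𝐂(B ⊓ M)) :=
      Subgroup.card_le_of_le (sup_le (inf_le_inf_left _ (cent_mono inf_le_left))
        (inf_le_inf_left _ (cent_mono inf_le_right)))
    have h4 : (V ⊓ 𝐂(B)) ⊓ (V ⊓ 𝐂(M)) = V ⊓ 𝐂(B ⊔ M) := by
      rw [centralizer_sup, inf_inf_inf_comm, inf_idem]
    rw [h4] at hc2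
    have hprod : μ B * μ M ≤ μ (B ⊔ M) * μ (B ⊓ M) := by
      calc μ B * μ M = (Nat.card B * Nat.card M) * (Nat.card ↥(V ⊓ 𝐂(B)) * Nat.card ↥(V ⊓ 𝐂(M))) := by
            simp only [μ]; ring
        _ ≤ (Nat.card ↥(B ⊔ M) * Nat.card ↥(B ⊓ M)) *
            (Nat.card ↥(V ⊓ 𝐂(B ⊓ M)) * Nat.card ↥(V ⊓ 𝐂(B ⊔ M))) := by
            refine Nat.mul_le_mul hc1 (hc2.trans ?_)
            gcongr
        _ = _ := by simp only [μ]; ring
    have hμpos : 0 < μ M := Nat.mul_pos Nat.card_pos Nat.card_pos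
    have h5 : μ M ≤ μ (B ⊔ M) := by
      refine Nat.le_of_mul_le_mul_right ?_ hμpos
      calc μ M * μ M ≤ μ B * μ M := by gcongr
        _ ≤ μ (B ⊔ M) * μ (B ⊓ M) := hprod
        _ ≤ μ (B ⊔ M) * μ M := Nat.mul_le_mul_left _ (hμmax _ hinf)
    have h6 := hMmax _ hsup
    have h7 := le_antisymm (hμmax _ hsup) h5
    simp only [h7] at h6
    have h8 : Nat.card ↥(B ⊔ M) ≤ Nat.card M := by omega
    rw [Subgroup.eq_of_le_of_card_ge le_sup_right h8]
    exact le_sup_left
  have hMinv : ∀ g ∈ Subgroup.normalizer (S : Set G), M.map (MulAut.conj g).toMonoidHom ≤ M := by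
    intro g hg
    have hgS : S.map (MulAut.conj g).toMonoidHom = S := Subgroup.mem_normalizer_iff_map_conj_eq.1 hg
    have hinj : Function.Injective (MulAut.conj g).toMonoidHom := (MulAut.conj g).injective
    refine hmaxle _ ⟨?_, (Subgroup.map_mono hM.2).trans hgS.le⟩ ?_
    · intro x hx
      refine ⟨g⁻¹ * x * g, hM.1 (by simpa using (inferInstance : T.Normal).conj_mem x hx g⁻¹),
        by simp [mul_assoc]⟩
    · show μ M ≤ _
      simp only [μ]
      rw [Subgroup.card_map_of_injective hinj]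
      refine Nat.mul_le_mul_left _ (le_trans (Subgroup.card_map_of_injective hinj).ge
        (Subgroup.card_le_of_le ?_))
      rintro _ ⟨v, hv, rfl⟩
      refine ⟨(inferInstance : V.Normal).conj_mem v hv.1 g, Subgroup.mem_centralizer_iff.2 ?_⟩
      rintro _ ⟨m, hm, rfl⟩
      rw [← map_mul, ← map_mul, Subgroup.mem_centralizer_iff.1 hv.2 m hm]
  have hMcase : M ≤ T ∨ S ≤ M := by
    rcases eq_or_ne (M.map Q.φ) ⊥ with h | h
    · exact Or.inl fun x hx => hker ⟨hM.2 hx, (Subgroup.map_eq_bot_iff _).1 h hx⟩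
    right
    have himg : M.map Q.φ = ((P₁ : Subgroup G).map Q.φ) := by
      refine Q.irred (P₁.mapSurjective Q.surj) _ ?_ h fun n hn x hx => ?_
      · rw [Sylow.coe_mapSurjective, hP₁]
        exact Subgroup.map_mono hM.2
      obtain ⟨k, rfl⟩ := Q.surj n
      -- a lift normalising S
      set H : Subgroup G := (P₁ : Subgroup G) ⊔ Q.φ.ker
      have hk : ((k • P₁ : Sylow p G) : Subgroup G) ≤ H := by
        intro y hy
        have hy' : Q.φ y ∈ ((P₁ : Subgroup G).map Q.φ).map (MulAut.conj (Q.φ k)).toMonoidHom := by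
          rw [← map_smul_sylow]
          exact Subgroup.mem_map_of_mem _ hy
        have hnorm := Subgroup.mem_normalizer_iff_map_conj_eq.1 hn
        rw [Sylow.coe_mapSurjective] at hnorm
        obtain ⟨y₀, hy₀, e⟩ := hnorm.le hy'
        rw [← mul_inv_cancel_left y₀ y]
        exact Subgroup.mul_mem_sup hy₀ (by simp [MonoidHom.mem_ker, e])
      obtain ⟨h', hh'⟩ := MulAction.exists_smul_eq ↥H ((k • P₁).subtype hk) (P₁.subtype le_sup_left)
      rw [Sylow.smul_subtype] at hh'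
      have hsy : (h' : G) • (k • P₁) = P₁ := Sylow.subtype_injective hh'
      rw [← mul_smul] at hsy
      have hnS : (h' : G) * k ∈ Subgroup.normalizer (S : Set G) := by
        rw [← hP₁]
        exact Sylow.smul_eq_iff_mem_normalizer.1 hsy
      obtain ⟨x₀, hx₀, rfl⟩ := hx
      obtain ⟨s, hs, kk, hkk, hskk⟩ := Subgroup.mem_sup_of_normal_right.1 h'.2
      have hsN : s⁻¹ ∈ Subgroup.normalizer (S : Set G) :=
        Subgroup.inv_mem _ (Subgroup.le_normalizer (hP₁ ▸ hs))
      refine ⟨s⁻¹ * ((h' : G) * k * x₀ * ((h' : G) * k)⁻¹) * s,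
        hMinv _ hsN ⟨_, hMinv _ hnS ⟨x₀, hx₀, rfl⟩, by simp [mul_assoc]⟩, ?_⟩
      have hh : Q.φ (h' : G) = Q.φ s := by
        rw [← hskk, map_mul, show Q.φ kk = 1 from hkk, mul_one]
      simp only [map_mul, map_inv, hh]
      group
    intro s hs
    have : Q.φ s ∈ M.map Q.φ := by rw [himg]; exact Subgroup.mem_map_of_mem _ (hP₁ ▸ hs)
    obtain ⟨m, hm, e⟩ := this
    rw [← mul_inv_cancel_left m s]
    refine M.mul_mem hm (hM.1 (hker ⟨S.mul_mem (S.inv_mem (hM.2 hm)) hs, ?_⟩))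
    simp [MonoidHom.mem_ker, e]
  have hμM : μ M ≤ μ T := by
    rcases hMcase with h | h
    · rw [le_antisymm h hM.1]
    · rw [le_antisymm hM.2 h]; exact hμS_le
  -- apply to A
  set B := A ⊔ T with hBdef
  have hBmem : B ∈ 𝓑 := ⟨le_sup_right, sup_le hA.le hTS⟩
  set A₀ := A ⊓ T
  have hA₀V : A₀ ≤ 𝐂(V) := inf_le_right.trans hTV
  have habV : A₀ ⊔ V ≤ 𝐂(A₀ ⊔ V) :=
    comm_sup ((inf_le_left.trans hA.comm).trans (cent_mono inf_le_left)) hVc hA₀V
  have hX : Nat.card ↥(A₀ ⊔ V) ≤ Nat.card A :=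
    hA.max _ (sup_le (inf_le_right.trans hTS) (hVT.trans hTS)) habV
  have hCB : V ⊓ 𝐂(B) = V ⊓ 𝐂(A) := by
    rw [hBdef, centralizer_sup, ← inf_assoc, inf_eq_left]
    exact inf_le_left.trans (Subgroup.le_centralizer_iff.1 hTV)
  have hXc := CfsgLib.LocalEvenSix.card_mul_card_le A₀ V
  have hint : A₀ ⊓ V ≤ V ⊓ 𝐂(A) := le_inf inf_le_right ((inf_le_left.trans inf_le_left).trans hA.comm)
  have hint' := Subgroup.card_le_of_le hint
  have hsupc := CfsgLib.LocalEvenSix.card_mul_card_le A T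
  have hge : μ T ≤ μ B := by
    rw [hμT]
    show _ ≤ Nat.card B * Nat.card ↥(V ⊓ 𝐂(B))
    rw [hCB]
    have hpos : 0 < Nat.card A₀ := Nat.card_pos
    refine Nat.le_of_mul_le_mul_right ?_ hpos
    calc Nat.card T * Nat.card V * Nat.card A₀ = Nat.card T * (Nat.card A₀ * Nat.card V) := by ring
      _ ≤ Nat.card T * (Nat.card A * Nat.card ↥(V ⊓ 𝐂(A))) :=
          Nat.mul_le_mul_left _ (hXc.trans (Nat.mul_le_mul hX hint'))
      _ = (Nat.card A * Nat.card T) * Nat.card ↥(V ⊓ 𝐂(A)) := by ring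
      _ ≤ (Nat.card B * Nat.card A₀) * Nat.card ↥(V ⊓ 𝐂(A)) := Nat.mul_le_mul_right _ hsupc
      _ = _ := by ring
  have hBM : B ≤ M := hmaxle B hBmem (hμM.trans hge)
  have hBT : ¬ B ≤ T := fun h => hAT (le_sup_left.trans h)
  have hMS : M = S := by
    rcases hMcase with h | h
    · exact absurd (hBM.trans h) hBT
    · exact le_antisymm hM.2 h
  have hμeq : μ T = μ S := le_antisymm (hge.trans (hMS ▸ hμmax B hBmem)) hμS_le
  have heq : Nat.card V = Q.q * Nat.card (fix V P₁) := by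
    refine le_antisymm ?_ hq
    refine Nat.le_of_mul_le_mul_left ?_ (Nat.card_pos (α := T))
    rw [← hμT, hμeq, hμS, ← mul_assoc]
    gcongr
  have hScard : Nat.card T * Q.q ≤ Nat.card S := by
    refine Nat.le_of_mul_le_mul_right ?_ (Nat.card_pos (α := fix V P₁))
    rw [mul_assoc, ← heq, ← hμT, hμeq, hμS]
  -- fixed points of A
  obtain ⟨a, ha, haT⟩ := SetLike.not_le_iff_exists.1 hAT
  have haφ : Q.φ a ≠ 1 := fun h => haT (hker ⟨hA.le ha, h⟩)
  have hCA : V ⊓ 𝐂(A) = fix V P₁ := by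
    refine le_antisymm (fun w hw => ?_)
      (le_inf (fix_le V P₁) (inf_le_right.trans (cent_mono (hA.le.trans hP₁.ge))))
    refine mem_fix_of_commute hE Q hVp hVc P₁ hncf heq hgen (R := P₁) (hP₁.ge (hA.le ha)) haφ hw.1 ?_
    rw [Subgroup.mem_centralizer_iff.1 hw.2 a ha, mul_inv_cancel_right, mul_inv_cancel]
    exact Subgroup.one_mem _
  rw [hCA] at hint'
  have hapos : 0 < Nat.card (fix V P₁) := Nat.card_pos
  have hAq : Q.q * Nat.card A₀ ≤ Nat.card A := by
    refine Nat.le_of_mul_le_mul_right ?_ hapos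
    calc Q.q * Nat.card A₀ * Nat.card (fix V P₁) = Nat.card A₀ * Nat.card V := by rw [heq]; ring
      _ ≤ _ := hXc.trans (Nat.mul_le_mul hX hint')
  have hBS : B = S := by
    refine Subgroup.eq_of_le_of_card_ge hBmem.2 (hST.trans ?_)
    refine Nat.le_of_mul_le_mul_right ?_ (Nat.card_pos (α := A₀))
    calc Nat.card T * Q.q * Nat.card A₀ = Nat.card T * (Q.q * Nat.card A₀) := by ring
      _ ≤ Nat.card T * Nat.card A := Nat.mul_le_mul_left _ hAq
      _ = Nat.card A * Nat.card T := mul_comm _ _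
      _ ≤ _ := hsupc
  have hAc : Nat.card A = Q.q * Nat.card A₀ := by
    refine le_antisymm ?_ hAq
    have e := CfsgLib.Coprime.card_sup_mul_card_inf (H := A) (N := T)
      ((le_top : A ≤ ⊤).trans (Subgroup.normalizer_eq_top_iff.2 (inferInstance : T.Normal)).ge)
    rw [← hBdef, hBS, inf_comm, ← show A₀ = A ⊓ T from rfl] at e
    refine Nat.le_of_mul_le_mul_left ?_ (Nat.card_pos (α := T))
    calc Nat.card T * Nat.card A = Nat.card S * Nat.card A₀ := by rw [e]; ring
      _ ≤ Nat.card T * Q.q * Nat.card A₀ := Nat.mul_le_mul_right _ hST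
      _ = _ := by ring
  refine ⟨heq, hncf, hCA, hBS, hAc, sup_le (inf_le_right.trans hTS) (hVT.trans hTS), habV,
    fun B' hB' hB'c => (hA.max B' hB' hB'c).trans ?_⟩
  refine Nat.le_of_mul_le_mul_right ?_ hapos
  calc Nat.card A * Nat.card (fix V P₁) = Nat.card A₀ * Nat.card V := by rw [hAc, heq]; ring
    _ ≤ _ := hXc.trans (Nat.mul_le_mul_left _ hint')

include hE hnc hA hAT in
/-- The splitting of `Z(J(S))`. -/
theorem exists_split :
    ∃ W₀ : Subgroup G, W₀.Normal ∧ W₀ ≤ centerThompsonAOf S ∧ centerThompsonAOf S ≤ 𝐙(S) ⊔ W₀ ∧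
      W₀ ⊓ 𝐂(S) ≤ Subgroup.center G ∧ ∀ z ∈ 𝐙(S), z ^ p ∈ Subgroup.center G := by
  obtain ⟨Q⟩ := exists_quot hE
  obtain ⟨P₁, hP₁⟩ := exists_sylow_eq hE
  obtain ⟨heq, hncf, hCA, hAT', hAc, hXl⟩ := natural_of_offender hE Q hnc hA hAT P₁ hP₁
  have hZS : 𝐙(S) ≤ S := inf_le_left
  obtain ⟨hVT, hTV⟩ := closure_facts hE hZS inf_le_right
  have hTS := pCore_le hE
  haveI : (pCore p G).Normal := pCore_normal p G
  set V := Subgroup.normalClosure ((𝐙(S) : Subgroup G) : Set G)
  haveI : V.Normal := Subgroup.normalClosure_normal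
  set T := pCore p G
  have hVc : V ≤ 𝐂(V) := hVT.trans hTV
  have hfix : fix V P₁ = 𝐙(S) := by
    unfold fix
    rw [hP₁]
    exact le_antisymm (inf_le_inf_right _ (hVT.trans hTS))
      (le_inf Subgroup.subset_normalClosure inf_le_right)
  have hVp : IsPGroup p V := (isPGroup_self hE).to_le (hVT.trans hTS)
  have hgen : V ≤ Subgroup.normalClosure (fix V P₁ : Set G) := by rw [hfix]
  -- |fix| = q n
  have hfq := card_fix_normal hE Q hVp hVc P₁ hncf heq hgen V le_rfl
    (fun h => hncf (le_trans (le_inf inf_le_left le_rfl) h))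
  rw [inf_eq_right.2 (fix_le V P₁),
    inf_eq_left.2 (inf_le_left : V ⊓ Subgroup.center G ≤ V)] at hfq
  -- p-th powers
  have hpow : ∀ z ∈ 𝐙(S), z ^ p ∈ Subgroup.center G := by
    let Ω : Subgroup G :=
      { carrier := {v | v ∈ V ∧ v ^ p ∈ Subgroup.center G}
        one_mem' := ⟨V.one_mem, by rw [one_pow]; exact Subgroup.one_mem _⟩
        mul_mem' := fun {a b} ha hb => ⟨V.mul_mem ha.1 hb.1, by
          rw [(mem_centralizer_commute (hVc ha.1) hb.1).mul_pow]; exact Subgroup.mul_mem _ ha.2 hb.2⟩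
        inv_mem' := fun {a} ha => ⟨V.inv_mem ha.1, by rw [inv_pow]; exact Subgroup.inv_mem _ ha.2⟩ }
    haveI : Ω.Normal := ⟨fun v hv g => ⟨(inferInstance : V.Normal).conj_mem v hv.1 g, by
      rw [conj_pow]; exact (inferInstance : (Subgroup.center G).Normal).conj_mem _ hv.2 g⟩⟩
    have hΩV : Ω ≤ V := fun v hv => hv.1
    obtain ⟨y, hy, hyZ, hyp⟩ := exists_fix_pow_eq_one hE Q hVp hVc P₁ hncf heq hgen
    have hyΩ : y ∈ Ω := ⟨hy.1, by rw [hyp]; exact Subgroup.one_mem _⟩
    have hΩ := card_fix_normal hE Q hVp hVc P₁ hncf heq hgen Ω hΩV fun h => hyZ (h ⟨hyΩ, hy⟩)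
    have hn : V ⊓ Subgroup.center G ⊓ Ω = V ⊓ Subgroup.center G :=
      inf_eq_left.2 fun v hv => ⟨hv.1, Subgroup.pow_mem _ hv.2 p⟩
    rw [hn, ← hfq] at hΩ
    intro z hz
    rw [← hfix, ← Subgroup.eq_of_le_of_card_ge inf_le_right hΩ.ge] at hz
    exact hz.1.2
  -- the normal abelian subgroup W'
  obtain ⟨W', rfl⟩ : ∃ W', W' = centerThompsonAOf T := ⟨_, rfl⟩
  haveI := centerThompson_normal (pCore_normal p G : (pCore p G).Normal)
  set W' := centerThompsonAOf T
  have hXT : IsLargeIn T ((A ⊓ T) ⊔ V) :=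
    ⟨sup_le inf_le_right hVT, hXl.comm, fun B hB hBc => hXl.max B (hB.trans hTS) hBc⟩
  have hTlarge : ∀ B, IsLargeIn T B → IsLargeIn S B := fun B hB =>
    ⟨hB.le.trans hTS, hB.comm, fun C hC hCc => (hXl.max C hC hCc).trans (hB.max _ hXT.le hXT.comm)⟩
  have hJJ : thompsonSubgroupAOf T ≤ thompsonSubgroupAOf S := thompson_le fun B hB => (hTlarge B hB).le_thompson
  have hW'eq : centerThompsonAOf S = W' ⊓ 𝐂(thompsonSubgroupAOf S) := by
    refine le_antisymm (le_inf ?_ inf_le_right) (le_inf (inf_le_left.trans (inf_le_left.trans hJJ)) inf_le_right)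
    intro z hz
    have hzX : z ∈ (A ⊓ T) ⊔ V := hXl.mem_of_commute (thompson_le_self S hz.1) (cent_mono hXl.le_thompson hz.2)
    exact ⟨hXT.le_thompson hzX, cent_mono hJJ hz.2⟩
  have hW'T : W' ≤ T := inf_le_left.trans (thompson_le_self T)
  have hVW : V ≤ W' := by
    refine le_inf (le_sup_right.trans hXT.le_thompson) ?_
    exact (Subgroup.le_centralizer_iff.1 hTV).trans (cent_mono (thompson_le_self T))
  have hW'q : Nat.card W' ≤ Q.q * Nat.card ↥(W' ⊓ 𝐂(A)) := by
    have hab : (A ⊓ T) ⊔ W' ≤ 𝐂((A ⊓ T) ⊔ W') :=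
      comm_sup ((inf_le_left.trans hA.comm).trans (cent_mono inf_le_left)) (centerThompson_comm T)
        (Subgroup.le_centralizer_iff.1 (inf_le_right.trans (cent_mono (le_sup_left.trans hXT.le_thompson))))
    have h1 := hA.max _ (sup_le (inf_le_right.trans hTS) (hW'T.trans hTS)) hab
    have h2 := CfsgLib.LocalEvenSix.card_mul_card_le (A ⊓ T) W'
    have h3 : Nat.card ↥(A ⊓ T ⊓ W') ≤ Nat.card ↥(W' ⊓ 𝐂(A)) :=
      Subgroup.card_le_of_le (le_inf inf_le_right ((inf_le_left.trans inf_le_left).trans hA.comm))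
    refine Nat.le_of_mul_le_mul_left ?_ (Nat.card_pos (α := ↥(A ⊓ T)))
    calc Nat.card ↥(A ⊓ T) * Nat.card W' ≤ Nat.card A * Nat.card ↥(W' ⊓ 𝐂(A)) := h2.trans (Nat.mul_le_mul h1 h3)
      _ = _ := by rw [hAc]; ring
  -- a second abelian subgroup
  obtain ⟨R, hR⟩ := Q.exists_image_ne P₁
  obtain ⟨h, hh⟩ := MulAction.exists_smul_eq G P₁ R
  subst hh
  set A₂ := A.map (MulAut.conj h).toMonoidHom with hA₂
  have hconjS : ∀ g : G, ((g • P₁ : Sylow p G) : Subgroup G) = S.map (MulAut.conj g).toMonoidHom := fun g => by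
    rw [sylow_smul_eq_map, hP₁]
  have hconjT : ∀ g : G, T.map (MulAut.conj g).toMonoidHom = T := fun g =>
    Subgroup.mem_normalizer_iff_map_conj_eq.1
      ((Subgroup.normalizer_eq_top_iff.2 (inferInstance : T.Normal)).ge (Subgroup.mem_top g))
  have hgenT : A ⊔ A₂ ⊔ T = ⊤ := by
    rw [eq_top_iff, ← sup_eq_top hE Q P₁ (h • P₁) (Ne.symm hR)]
    refine sup_le ?_ ?_
    · rw [hP₁, ← hAT']
      exact sup_le (le_sup_left.trans le_sup_left) le_sup_right
    · rw [hconjS, ← hAT', Subgroup.map_sup, hconjT]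
      exact sup_le (le_sup_right.trans le_sup_left) le_sup_right
  set D := (W' ⊓ 𝐂(A)) ⊓ (W' ⊓ 𝐂(A₂))
  have hA₂q : Nat.card ↥(W' ⊓ 𝐂(A₂)) = Nat.card ↥(W' ⊓ 𝐂(A)) := by
    rw [← Subgroup.card_map_of_injective (show Function.Injective (MulAut.conj h).toMonoidHom from (MulAut.conj h).injective)
      (K := W' ⊓ 𝐂(A)), Subgroup.map_inf _ _ _ (show Function.Injective (MulAut.conj h).toMonoidHom from (MulAut.conj h).injective),
      CfsgLib.LocalEvenSix.centralizer_map_mulEquiv (MulAut.conj h) A, ← hA₂,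
      show W'.map (MulAut.conj h).toMonoidHom = W' from Subgroup.mem_normalizer_iff_map_conj_eq.1
        ((Subgroup.normalizer_eq_top_iff.2 (inferInstance : W'.Normal)).ge (Subgroup.mem_top h))]
  have hVD : V ⊓ D = V ⊓ Subgroup.center G := by
    refine le_antisymm ?_ (le_inf inf_le_left ?_)
    · intro v hv
      refine ⟨hv.1, Subgroup.mem_center_iff.2 fun g => ?_⟩
      have hle : A ⊔ A₂ ⊔ T ≤ Subgroup.centralizer ({v} : Set G) := by
        refine sup_le (sup_le ?_ ?_) ?_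
        · exact fun x hx => Subgroup.mem_centralizer_singleton_iff.2 (Subgroup.mem_centralizer_iff.1 hv.2.1.2 x hx)
        · exact fun x hx => Subgroup.mem_centralizer_singleton_iff.2 (Subgroup.mem_centralizer_iff.1 hv.2.2.2 x hx)
        · exact fun x hx => Subgroup.mem_centralizer_singleton_iff.2
            (Subgroup.mem_centralizer_iff.1 (Subgroup.le_centralizer_iff.1 hTV hv.1) x hx)
      exact Subgroup.mem_centralizer_singleton_iff.1 (hle (hgenT ▸ Subgroup.mem_top g))
    · exact le_inf (le_inf (inf_le_left.trans hVW) (inf_le_right.trans (Subgroup.center_le_centralizer _)))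
        (le_inf (inf_le_left.trans hVW) (inf_le_right.trans (Subgroup.center_le_centralizer _)))
  have hW'split : V ⊔ D = W' := by
    have e1 := CfsgLib.LocalEvenSix.card_mul_card_le (W' ⊓ 𝐂(A)) (W' ⊓ 𝐂(A₂))
    rw [hA₂q] at e1
    have e2 := CfsgLib.Coprime.card_sup_mul_card_inf (H := D) (N := V)
      ((le_top : D ≤ ⊤).trans (Subgroup.normalizer_eq_top_iff.2 (inferInstance : V.Normal)).ge)
    rw [sup_comm, hVD, heq, hfq] at e2
    have e3 : Nat.card ↥((W' ⊓ 𝐂(A)) ⊔ (W' ⊓ 𝐂(A₂))) ≤ Nat.card W' :=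
      Subgroup.card_le_of_le (sup_le inf_le_left inf_le_left)
    refine Subgroup.eq_of_le_of_card_ge (sup_le hVW (inf_le_left.trans inf_le_left)) ?_
    refine Nat.le_of_mul_le_mul_right ?_ (Nat.card_pos (α := ↥(V ⊓ Subgroup.center G)))
    refine Nat.le_of_mul_le_mul_left ?_ (Nat.card_pos (α := W'))
    calc Nat.card W' * (Nat.card W' * Nat.card ↥(V ⊓ Subgroup.center G))
        ≤ Q.q * Nat.card ↥(W' ⊓ 𝐂(A)) * (Q.q * Nat.card ↥(W' ⊓ 𝐂(A)) * Nat.card ↥(V ⊓ Subgroup.center G)) :=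
          Nat.mul_le_mul hW'q (Nat.mul_le_mul_right _ hW'q)
      _ = Nat.card ↥(W' ⊓ 𝐂(A)) * Nat.card ↥(W' ⊓ 𝐂(A)) * (Q.q * (Q.q * Nat.card ↥(V ⊓ Subgroup.center G))) := by ring
      _ ≤ Nat.card ↥((W' ⊓ 𝐂(A)) ⊔ (W' ⊓ 𝐂(A₂))) * Nat.card D * (Q.q * (Q.q * Nat.card ↥(V ⊓ Subgroup.center G))) :=
          Nat.mul_le_mul_right _ e1
      _ ≤ Nat.card W' * Nat.card D * (Q.q * (Q.q * Nat.card ↥(V ⊓ Subgroup.center G))) :=
          Nat.mul_le_mul_right _ (Nat.mul_le_mul_right _ e3)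
      _ = _ := by rw [mul_assoc, e2]
  -- the two Thompson subgroups
  set J := thompsonSubgroupAOf S
  obtain ⟨g, hgG, hgimg⟩ : ∃ g ∈ J ⊔ A₂, Q.φ g = Q.φ h := by
    have htop : (J ⊔ A₂).map Q.φ = ⊤ := by
      rw [eq_top_iff, ← Subgroup.map_top_of_surjective Q.φ Q.surj, ← hgenT, Subgroup.map_sup,
        map_pCore_eq_bot Q, sup_bot_eq]
      exact Subgroup.map_mono (sup_le_sup_right hA.le_thompson _)
    exact htop.ge (Subgroup.mem_top (Q.φ h))
  set L := J ⊔ J.map (MulAut.conj g).toMonoidHom with hL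
  have hLG : L ≤ J ⊔ A₂ := by
    refine sup_le le_sup_left ?_
    rintro _ ⟨x, hx, rfl⟩
    exact Subgroup.mul_mem _ (Subgroup.mul_mem _ hgG (Subgroup.mem_sup_left hx)) (Subgroup.inv_mem _ hgG)
  have hLT : L ⊔ T = ⊤ := by
    have himg : ((g • P₁ : Sylow p G) : Subgroup G).map Q.φ = ((h • P₁ : Sylow p G) : Subgroup G).map Q.φ := by
      rw [map_smul_sylow, map_smul_sylow, hgimg]
    rw [eq_top_iff, ← sup_eq_top hE Q P₁ (g • P₁) (by rw [himg]; exact Ne.symm hR)]
    refine sup_le ?_ ?_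
    · rw [hP₁, ← hAT']
      exact sup_le ((hA.le_thompson.trans le_sup_left).trans le_sup_left) le_sup_right
    · rw [hconjS, ← hAT', Subgroup.map_sup, hconjT]
      exact sup_le (((Subgroup.map_mono hA.le_thompson).trans le_sup_right).trans le_sup_left) le_sup_right
  refine ⟨W' ⊓ 𝐂(L), ?_, ?_, ?_, ?_, hpow⟩
  · -- normal
    rw [← Subgroup.normalizer_eq_top_iff, eq_top_iff, ← hLT]
    refine sup_le ?_ ?_
    · intro x hx
      refine Subgroup.mem_normalizer_iff.2 fun w => ?_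
      have hcomm : ∀ w ∈ W' ⊓ 𝐂(L), x * w * x⁻¹ = w := fun w hw => by
        rw [Subgroup.mem_centralizer_iff.1 hw.2 x hx, mul_inv_cancel_right]
      refine ⟨fun hw => (hcomm w hw).symm ▸ hw, fun hw => ?_⟩
      have := hcomm _ hw
      simp only [mul_left_inj, mul_right_inj, mul_assoc] at this
      have e : x * w * x⁻¹ = w := by
        have h2 : x * (x * w * x⁻¹) = (x * w * x⁻¹) * x := (Subgroup.mem_centralizer_iff.1 hw.2 x hx)
        rw [inv_mul_cancel_right] at h2
        have h3 := mul_left_cancel h2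
        exact h3
      rwa [e] at hw
    · intro t ht
      have hnL : ∀ t ∈ T, L.map (MulAut.conj t).toMonoidHom ≤ L := by
        intro t ht
        rw [hL, Subgroup.map_sup, Subgroup.map_map]
        refine sup_le_sup ?_ ?_
        · exact (Subgroup.mem_normalizer_iff_map_conj_eq.1 (le_normalizer_thompson S (hTS ht))).le
        · have ht' : g⁻¹ * t * g ∈ T := by simpa using (inferInstance : T.Normal).conj_mem t ht g⁻¹
          have := Subgroup.mem_normalizer_iff_map_conj_eq.1 (le_normalizer_thompson S (hTS ht'))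
          rw [show (MulAut.conj t).toMonoidHom.comp (MulAut.conj g).toMonoidHom =
            (MulAut.conj g).toMonoidHom.comp (MulAut.conj (g⁻¹ * t * g)).toMonoidHom from
              MonoidHom.ext fun x => by simp [mul_assoc], ← Subgroup.map_map]
          exact Subgroup.map_mono this.le
      have hnC : ∀ t ∈ T, ∀ w ∈ W' ⊓ 𝐂(L), t * w * t⁻¹ ∈ W' ⊓ 𝐂(L) := by
        rintro t ht w hw
        refine ⟨(inferInstance : W'.Normal).conj_mem w hw.1 t, Subgroup.mem_centralizer_iff.2 fun l hl => ?_⟩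
        have hl' : t⁻¹ * l * t ∈ L := by simpa using hnL t⁻¹ (T.inv_mem ht) ⟨l, hl, rfl⟩
        have := Subgroup.mem_centralizer_iff.1 hw.2 _ hl'
        calc l * (t * w * t⁻¹) = t * ((t⁻¹ * l * t) * w) * t⁻¹ := by group
          _ = _ := by rw [this]; group
      refine Subgroup.mem_normalizer_iff.2 fun w => ⟨hnC t ht w, fun hw => ?_⟩
      have := hnC t⁻¹ (T.inv_mem ht) _ hw
      simpa [mul_assoc] using this
  · rw [hW'eq]
    exact inf_le_inf_left _ (cent_mono le_sup_left)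
  · intro y hy
    have hy' := hy
    rw [hW'eq] at hy'
    obtain ⟨v, hv, d, hd, rfl⟩ := Subgroup.mem_sup_of_normal_left.1 (hW'split.ge hy'.1)
    have hvA : v ∈ V ⊓ 𝐂(A) := by
      refine ⟨hv, ?_⟩
      have h1 : v * d ∈ 𝐂(A) := cent_mono hA.le_thompson hy'.2
      have := Subgroup.mul_mem _ h1 (Subgroup.inv_mem _ hd.1.2)
      rwa [mul_inv_cancel_right] at this
    rw [hCA, hfix] at hvA
    refine Subgroup.mul_mem_sup hvA ⟨hd.1.1, cent_mono hLG ?_⟩
    rw [centralizer_sup]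
    refine ⟨?_, hd.2.2⟩
    have h1 : v ∈ 𝐂(J) := cent_mono (thompson_le_self S) hvA.2
    have := Subgroup.mul_mem _ (Subgroup.inv_mem _ h1) hy'.2
    rwa [inv_mul_cancel_left] at this
  · intro z hz
    refine Subgroup.mem_center_iff.2 fun x => ?_
    have hle : L ⊔ T ≤ Subgroup.centralizer ({z} : Set G) :=
      sup_le (fun x hx => Subgroup.mem_centralizer_singleton_iff.2 (Subgroup.mem_centralizer_iff.1 hz.1.2 x hx))
        (fun x hx => Subgroup.mem_centralizer_singleton_iff.2 (Subgroup.mem_centralizer_iff.1 hz.2 x (hTS hx)))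
    exact Subgroup.mem_centralizer_singleton_iff.1 (hle (hLT ▸ Subgroup.mem_top x))

end Split

omit [Finite G] in
theorem normal_of_le_center {X : Subgroup G} (h : X ≤ Subgroup.center G) : X.Normal :=
  ⟨fun n hn g => by rw [Subgroup.mem_center_iff.1 (h hn) g, mul_inv_cancel_right]; exact hn⟩

/-- The hypotheses of the statements in unbundled form. -/
theorem situation_mk (S : Sylow p G) (h₁ : Subgroup.centralizer (pCore p G : Set G) ≤ pCore p G)
    (h₂ : ∃! M : Subgroup G, IsCoatom M ∧ (S : Subgroup G) ≤ M) (K : Subgroup G) (hK : K.Normal) (F : Type)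
    [hFf : Field F] [hFt : Fintype F] (n : ℕ) (hF : Fintype.card F = p ^ n)
    (h₃ : Nonempty (G ⧸ K ≃* Matrix.ProjectiveSpecialLinearGroup (Fin 2) F)) :
    IsPushingUpSituation p (S : Subgroup G) := by
  refine ⟨fun h => ?_, ⟨S, rfl⟩, h₁, h₂, K, hK, F, hFf, hFt, n, hF, h₃⟩
  obtain ⟨M, ⟨hM, -⟩, -⟩ := h₂
  exact hM.1 (eq_top_iff.2 (h ▸ bot_le))

end CfsgLib.PushingUp
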