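/-
Pairs of large subgroups in a common p-group: the local lemmas of the pushing-up amalgam argument.
-/
import Mathlib
import Cfsg.Agent.Lib.Coprime.Basic

set_option autoImplicit false

open scoped commutatorElement

namespace CfsgLib.PushingUp

variable {X : Type*} [Group X]

local notation:max "𝐂(" R ")" => Subgroup.centralizer (SetLike.coe R)

local notation:max "𝐍(" R ")" => Subgroup.normalizer (SetLike.coe R)

theorem commutator_sup_le {A B C R : Subgroup X} (hB : ⁅A, B⁆ ≤ R) (hC : ⁅A, C⁆ ≤ R)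
    (hN : B ⊔ C ≤ 𝐍(R)) : ⁅A, B ⊔ C⁆ ≤ R := by
  let K : Subgroup X :=
    { carrier := {e | e ∈ 𝐍(R) ∧ ∀ v ∈ A, ⁅v, e⁆ ∈ R}
      one_mem' := ⟨Subgroup.one_mem _, fun v _ => by rw [commutatorElement_one_right]; exact R.one_mem⟩
      mul_mem' := fun {a b} ha hb => ⟨Subgroup.mul_mem _ ha.1 hb.1, fun v hv => by
        rw [show ⁅v, a * b⁆ = ⁅v, a⁆ * (a * ⁅v, b⁆ * a⁻¹) by simp only [commutatorElement_def]; group]
        exact R.mul_mem (ha.2 v hv) ((Subgroup.mem_normalizer_iff.1 ha.1 _).1 (hb.2 v hv))⟩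
      inv_mem' := fun {a} ha => ⟨Subgroup.inv_mem _ ha.1, fun v hv => by
        rw [show ⁅v, a⁻¹⁆ = a⁻¹ * ⁅v, a⁆⁻¹ * a by simp only [commutatorElement_def]; group]
        refine (Subgroup.mem_normalizer_iff.1 ha.1 _).2 ?_
        rw [show a * (a⁻¹ * ⁅v, a⁆⁻¹ * a) * a⁻¹ = ⁅v, a⁆⁻¹ by group]
        exact R.inv_mem (ha.2 v hv)⟩ }
  have hK : B ⊔ C ≤ K := sup_le
    (fun b hb => ⟨hN (Subgroup.mem_sup_left hb), fun v hv => hB (Subgroup.commutator_mem_commutator hv hb)⟩)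
    (fun c hc => ⟨hN (Subgroup.mem_sup_right hc), fun v hv => hC (Subgroup.commutator_mem_commutator hv hc)⟩)
  rw [Subgroup.commutator_le]
  exact fun v hv e he => (hK he).2 v hv

theorem normalizes_sup {A B C : Subgroup X} (hC : B ≤ 𝐍(C)) (h : ⁅A, B⁆ ≤ A ⊔ C) : B ≤ 𝐍(A ⊔ C) := by
  refine Subgroup.le_normalizer_iff.2 fun b hb => ?_
  have hle : A ⊔ C ≤ (A ⊔ C).comap (MulAut.conj b).toMonoidHom := by
    refine sup_le (fun a ha => ?_) (fun c hc => ?_)
    · show b * a * b⁻¹ ∈ A ⊔ C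
      rw [show b * a * b⁻¹ = ⁅a, b⁆⁻¹ * a by simp only [commutatorElement_def]; group]
      exact (A ⊔ C).mul_mem ((A ⊔ C).inv_mem (h (Subgroup.commutator_mem_commutator ha hb)))
        (Subgroup.mem_sup_left ha)
    · exact Subgroup.mem_sup_right ((Subgroup.mem_normalizer_iff.1 (hC hb) c).1 hc)
  exact fun k hk => hle hk

/-- The facts about a large pair `(T, V)` inside a p-group `E`. -/
structure Side (p q : ℕ) (E T V : Subgroup X) : Prop where
  isP : IsPGroup p E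
  T_le : T ≤ E
  V_le : V ≤ T
  nT : E ≤ 𝐍(T)
  nV : E ≤ 𝐍(V)
  CV : E ⊓ 𝐂(V) = T
  CT : E ⊓ 𝐂(T) = V
  pow : ∀ v ∈ V, v ^ p = 1
  comm : ⁅V, E⁆ ≤ E ⊓ 𝐂(E)
  fixed₀ : ∀ v ∈ V, ∀ e ∈ E, e ∉ T → Commute e v → v ∈ 𝐂(E)
  two_le : 2 ≤ q
  cardE : Nat.card E = q * Nat.card T
  cardV : Nat.card V = q * Nat.card ↥(E ⊓ 𝐂(E))
  measure : ∀ Y ≤ E, Nat.card Y * Nat.card ↥(E ⊓ 𝐂(Y)) ≤ Nat.card T * Nat.card V

namespace Side

variable {p q q' : ℕ} {E F T T' V V' : Subgroup X}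

theorem V_le_E (h : Side p q E T V) : V ≤ E := h.V_le.trans h.T_le

theorem Z_le (h : Side p q E T V) : E ⊓ 𝐂(E) ≤ V := by
  conv_rhs => rw [← h.CT]
  exact inf_le_inf_left _ (Subgroup.centralizer_le (SetLike.coe_subset_coe.2 h.T_le))

theorem T_cent (h : Side p q E T V) : T ≤ 𝐂(V) := h.CV.ge.trans inf_le_right

theorem V_cent (h : Side p q E T V) : V ≤ 𝐂(T) := h.CT.ge.trans inf_le_right

theorem V_comm (h : Side p q E T V) : V ≤ 𝐂(V) :=
  h.V_cent.trans (Subgroup.centralizer_le (SetLike.coe_subset_coe.2 h.V_le))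

theorem not_le (h : Side p q E T V) [Finite X] : ¬ E ≤ T := by
  intro hle
  have h1 := Subgroup.card_le_of_le hle
  rw [h.cardE] at h1
  have h2 : 2 * Nat.card T ≤ q * Nat.card T := Nat.mul_le_mul_right _ h.two_le
  have h3 : 0 < Nat.card T := Nat.card_pos
  omega

theorem card_pair (h : Side p q E T V) :
    Nat.card T * Nat.card V = Nat.card E * Nat.card ↥(E ⊓ 𝐂(E)) := by
  rw [h.cardE, h.cardV]; ring

theorem mem_Z_of_commute (h : Side p q E T V) {A : Subgroup X} (hA : A ≤ E) (hAT : ¬ A ≤ T) :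
    V ⊓ 𝐂(A) = E ⊓ 𝐂(E) := by
  refine le_antisymm (fun v hv => ⟨h.V_le_E hv.1, ?_⟩)
    (le_inf h.Z_le (inf_le_right.trans (Subgroup.centralizer_le (SetLike.coe_subset_coe.2 hA))))
  obtain ⟨a, ha, haT⟩ := SetLike.not_le_iff_exists.1 hAT
  exact h.fixed₀ v hv.1 a (hA ha) haT (Subgroup.mem_centralizer_iff.1 hv.2 a ha)

section Finite

set_option linter.unusedSectionVars false

variable [Finite X]

theorem twin_inf (h : Side p q E T V) (h' : Side p q' E T' V') (hne : T ≠ T') :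
    V ⊓ V' = E ⊓ 𝐂(E) := by
  refine le_antisymm ?_ (le_inf h.Z_le h'.Z_le)
  by_cases hle : T' ≤ T
  · have hnle : ¬ T ≤ T' := fun hl => hne (le_antisymm hl hle)
    rw [← h'.mem_Z_of_commute h.T_le hnle, inf_comm]
    exact inf_le_inf_left _ h.V_cent
  · rw [← h.mem_Z_of_commute h'.T_le hle]
    exact inf_le_inf_left _ h'.V_cent

/-- Two different large pairs with commuting small members. -/
theorem twin (h : Side p q E T V) (h' : Side p q' E T' V') (hne : T ≠ T') :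
    T ⊔ T' = E ∧ E ⊓ 𝐂(T ⊓ T') = V ⊔ V' ∧ Nat.card T = q' * Nat.card ↥(T ⊓ T') ∧
      Nat.card ↥(V ⊔ V') * Nat.card ↥(E ⊓ 𝐂(E)) = Nat.card V * Nat.card V' := by
  have hVV := h.twin_inf h' hne
  have e1 : Nat.card ↥(V ⊔ V') * Nat.card ↥(E ⊓ 𝐂(E)) = Nat.card V * Nat.card V' := by
    have e := CfsgLib.Coprime.card_sup_mul_card_inf (H := V) (N := V') (h.V_le_E.trans h'.nV)
    rwa [inf_comm, hVV] at e
  have e2 := CfsgLib.Coprime.card_sup_mul_card_inf (H := T) (N := T') (h.T_le.trans h'.nT)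
  rw [inf_comm T' T] at e2
  have hle : T ⊔ T' ≤ E := sup_le h.T_le h'.T_le
  have hTT := Subgroup.card_le_of_le hle
  have hsub : V ⊔ V' ≤ E ⊓ 𝐂(T ⊓ T') := by
    refine sup_le ?_ ?_
    · exact le_inf h.V_le_E (h.V_cent.trans (Subgroup.centralizer_le (SetLike.coe_subset_coe.2 inf_le_left)))
    · exact le_inf h'.V_le_E (h'.V_cent.trans (Subgroup.centralizer_le (SetLike.coe_subset_coe.2 inf_le_right)))
  have hc := Subgroup.card_le_of_le hsub
  have hm := h.measure (T ⊓ T') (inf_le_left.trans h.T_le)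
  have hz : 0 < Nat.card ↥(E ⊓ 𝐂(E)) := Nat.card_pos
  have hi : 0 < Nat.card ↥(T ⊓ T') := Nat.card_pos
  have hE : 0 < Nat.card E := Nat.card_pos
  set e := Nat.card E with he
  set a := Nat.card T
  set b := Nat.card T'
  set i := Nat.card ↥(T ⊓ T')
  set j := Nat.card ↥(T ⊔ T')
  set z := Nat.card ↥(E ⊓ 𝐂(E))
  set w := Nat.card ↥(V ⊔ V')
  set c := Nat.card ↥(E ⊓ 𝐂(T ⊓ T'))
  -- `j * i = a * b`, `w * z = v * v'`
  have hq : 0 < q := lt_of_lt_of_le two_pos h.two_le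
  have hq' : 0 < q' := lt_of_lt_of_le two_pos h'.two_le
  have hw : w = q * q' * z := by
    rw [h.cardV, h'.cardV] at e1
    exact Nat.eq_of_mul_eq_mul_right hz (by rw [e1]; ring)
  have hij : j * i * (q * q') = e * e := by
    rw [e2, show a * b * (q * q') = (q * a) * (q' * b) by ring, ← h.cardE, ← h'.cardE]
  have hiqq : i * (q * q') ≤ e := by
    refine Nat.le_of_mul_le_mul_right ?_ hz
    calc i * (q * q') * z = i * w := by rw [hw]; ring
      _ ≤ i * c := Nat.mul_le_mul_left _ hc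
      _ ≤ a * Nat.card V := hm
      _ = e * z := h.card_pair
  have hje : j = e := by
    refine le_antisymm hTT (Nat.le_of_mul_le_mul_left ?_ hE)
    calc e * e = j * (i * (q * q')) := by rw [← hij]; ring
      _ ≤ j * e := Nat.mul_le_mul_left _ hiqq
      _ = e * j := mul_comm _ _
  have hie : i * (q * q') = e := by
    rw [hje] at hij
    exact Nat.eq_of_mul_eq_mul_left hE (by rw [← hij]; ring)
  refine ⟨Subgroup.eq_of_le_of_card_ge hle (by rw [← he]; exact hje.ge), ?_, ?_, e1⟩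
  · refine (Subgroup.eq_of_le_of_card_ge hsub ?_).symm
    refine Nat.le_of_mul_le_mul_left ?_ hi
    calc i * c ≤ a * Nat.card V := hm
      _ = e * z := h.card_pair
      _ = i * w := by rw [← hie, hw]; ring
  · have hce : e = q * a := h.cardE
    refine Nat.eq_of_mul_eq_mul_left hq ?_
    rw [← hce, ← hie]; ring

theorem twin_cent (h : Side p q E T V) (h' : Side p q' E T' V')
    {a t : X} (ha : a ∈ V ⊔ V') (haV : a ∉ V) (ht : t ∈ T) (hc : Commute t a) : t ∈ T' := by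
  obtain ⟨v, hv, v', hv', rfl⟩ := CfsgLib.Coprime.exists_mul_of_mem_sup (h.V_le_E.trans h'.nV) ha
  have htv : Commute t v := Subgroup.mem_centralizer_iff.1 (h.V_cent hv) t ht
  have htv' : Commute t v' := by
    have h1 := htv.inv_right.mul_right hc
    rwa [inv_mul_cancel_left] at h1
  by_contra htT
  refine haV (V.mul_mem hv (h.Z_le ⟨h'.V_le_E hv', ?_⟩))
  exact h'.fixed₀ v' hv' t (h.T_le ht) htT htv'

/-- The two ends of a critical walk. -/
theorem crit (h : Side p q E T V) (h' : Side p q' F T' V') (hVF : V ≤ F) (hV'E : V' ≤ E)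
    (hnc : ¬ V ≤ 𝐂(V')) :
    q = q' ∧ V ⊔ T' = F ∧ V' ⊔ T = E ∧ V ⊓ T' = E ⊓ 𝐂(E) ∧ V' ⊓ T = F ⊓ 𝐂(F) ∧
      ⁅V, V'⁆ ≤ (E ⊓ 𝐂(E)) ⊓ (F ⊓ 𝐂(F)) ∧ ⁅V, E⁆ ≤ ⁅V, V'⁆ := by
  have h1 : ¬ V ≤ T' := fun hl => hnc (hl.trans h'.T_cent)
  have h2 : ¬ V' ≤ T := fun hl => hnc (Subgroup.le_centralizer_iff.1 (hl.trans h.T_cent))
  have e1 : V ⊓ T' = E ⊓ 𝐂(E) := by
    rw [← h.mem_Z_of_commute hV'E h2]
    refine le_antisymm (inf_le_inf_left _ h'.T_cent) (le_inf inf_le_left ?_)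
    rw [← h'.CV]
    exact le_inf (inf_le_left.trans hVF) inf_le_right
  have e2 : V' ⊓ T = F ⊓ 𝐂(F) := by
    rw [← h'.mem_Z_of_commute hVF h1]
    refine le_antisymm (inf_le_inf_left _ h.T_cent) (le_inf inf_le_left ?_)
    rw [← h.CV]
    exact le_inf (inf_le_left.trans hV'E) inf_le_right
  have c1 := CfsgLib.Coprime.card_sup_mul_card_inf (H := V) (N := T') (hVF.trans h'.nT)
  have c2 := CfsgLib.Coprime.card_sup_mul_card_inf (H := V') (N := T) (hV'E.trans h.nT)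
  rw [inf_comm, e1, h.cardV] at c1
  rw [inf_comm, e2, h'.cardV] at c2
  have d1 : Nat.card ↥(V ⊔ T') = q * Nat.card T' :=
    Nat.eq_of_mul_eq_mul_right (Nat.card_pos (α := ↥(E ⊓ 𝐂(E)))) (by rw [c1]; ring)
  have d2 : Nat.card ↥(V' ⊔ T) = q' * Nat.card T :=
    Nat.eq_of_mul_eq_mul_right (Nat.card_pos (α := ↥(F ⊓ 𝐂(F)))) (by rw [c2]; ring)
  have l1 : V ⊔ T' ≤ F := sup_le hVF h'.T_le
  have l2 : V' ⊔ T ≤ E := sup_le hV'E h.T_le
  have g1 := Subgroup.card_le_of_le l1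
  have g2 := Subgroup.card_le_of_le l2
  rw [d1, h'.cardE] at g1
  rw [d2, h.cardE] at g2
  have hqq : q = q' := le_antisymm (Nat.le_of_mul_le_mul_right g1 Nat.card_pos)
    (Nat.le_of_mul_le_mul_right g2 Nat.card_pos)
  have f1 : V ⊔ T' = F := Subgroup.eq_of_le_of_card_ge l1 (by rw [d1, h'.cardE, hqq])
  have f2 : V' ⊔ T = E := Subgroup.eq_of_le_of_card_ge l2 (by rw [d2, h.cardE, hqq])
  have hR : ⁅V, V'⁆ ≤ (E ⊓ 𝐂(E)) ⊓ (F ⊓ 𝐂(F)) :=
    le_inf ((Subgroup.commutator_mono le_rfl hV'E).trans h.comm)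
      (by rw [Subgroup.commutator_comm]; exact (Subgroup.commutator_mono le_rfl hVF).trans h'.comm)
  refine ⟨hqq, f1, f2, e1, e2, hR, ?_⟩
  conv_lhs => rw [← f2]
  refine commutator_sup_le le_rfl ?_ ?_
  · rw [Subgroup.commutator_eq_bot_iff_le_centralizer.2 h.V_cent]; exact bot_le
  · rw [f2]
    exact (Subgroup.le_centralizer_iff.1 ((hR.trans inf_le_left).trans inf_le_right)).trans
      (Subgroup.centralizer_le_normalizer _)

end Finite

end Side

end CfsgLib.PushingUp
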