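/-
The basic facts of the pushing-up situation without characteristic subgroups, ready for transport to an
amalgam: the large pair (O_p(G), normal closure of Z(S)), its quadratic action and fixed points.
-/
import Mathlib
import Cfsg.Prelude.Def_BaumannBlocks
import Cfsg.Agent.Lib.PLocal5.Offender
import Cfsg.Agent.Lib.PushingUp.Offender
import Cfsg.Agent.Lib.PushingUp.Elation
import Cfsg.Agent.Lib.PushingUp.Twin

set_option autoImplicit false
set_option linter.style.haveILetI false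

open scoped commutatorElement MatrixGroups

namespace CfsgLib.PushingUp

open Cfsg CfsgLib.ChermakDelgado CfsgLib.LocalEven.NaturalRecognition

variable {G : Type*} [Group G]

local notation:max "𝐂(" R ")" => Subgroup.centralizer (SetLike.coe R)

local notation:max "𝐍(" R ")" => Subgroup.normalizer (SetLike.coe R)

/-- `C` is invariant under every automorphism of `S`. -/
def AutInv (S C : Subgroup G) : Prop :=
  ∀ (α : ↥S ≃* ↥S) (x : ↥S), (x : G) ∈ C → ((α x : ↥S) : G) ∈ C

/-- No nontrivial characteristic subgroup of `S` is normal in `G`. -/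
def HD (S : Subgroup G) : Prop :=
  ∀ C : Subgroup G, C ≤ S → C ≠ ⊥ → AutInv S C → ¬ C.Normal

theorem hd_of_characteristic {S : Subgroup G}
    (hd : ∀ T : Subgroup ↥S, T ≠ ⊥ → T.Characteristic → ¬ (T.map S.subtype).Normal) : HD S := by
  intro C hCS hC hinv
  have hm : (C.subgroupOf S).map S.subtype = C := Subgroup.map_subgroupOf_eq_of_le hCS
  have h := hd (C.subgroupOf S) (fun e => hC (by rw [← hm, e, Subgroup.map_bot]))
    (Subgroup.characteristic_iff_map_le.2 fun α => by
      rintro _ ⟨x, hx, rfl⟩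
      exact hinv α x hx)
  rwa [hm] at h

theorem autInv_inf {S C D : Subgroup G} (hC : AutInv S C) (hD : AutInv S D) : AutInv S (C ⊓ D) :=
  fun α x hx => ⟨hC α x hx.1, hD α x hx.2⟩

theorem autInv_centralizer {S C : Subgroup G} (hC : AutInv S C) (hCS : C ≤ S) : AutInv S (S ⊓ 𝐂(C)) := by
  intro α x hx
  refine ⟨(α x).2, Subgroup.mem_centralizer_iff.2 fun c hc => ?_⟩
  have hc' : ((α.symm ⟨c, hCS hc⟩ : ↥S) : G) ∈ C := hC α.symm _ hc
  have h := congrArg α (Subtype.ext (Subgroup.mem_centralizer_iff.1 hx.2 _ hc') :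
    α.symm ⟨c, hCS hc⟩ * x = x * α.symm ⟨c, hCS hc⟩)
  rw [map_mul, map_mul, MulEquiv.apply_symm_apply] at h
  exact congrArg Subtype.val h

theorem autInv_self (S : Subgroup G) : AutInv S S := fun α x _ => (α x).2

theorem autInv_closure {S : Subgroup G} {s : Set G} (hsS : s ⊆ S)
    (h : ∀ (α : ↥S ≃* ↥S) (x : ↥S), (x : G) ∈ s → ((α x : ↥S) : G) ∈ s) :
    AutInv S (Subgroup.closure s) := by
  intro α x hx
  have hle : Subgroup.closure s ≤ ((Subgroup.closure s).subgroupOf S |>.comap α.toMonoidHom).map S.subtype := by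
    refine (Subgroup.closure_le _).2 fun y hy => ⟨⟨y, hsS hy⟩, ?_, rfl⟩
    exact Subgroup.subset_closure (h α ⟨y, hsS hy⟩ hy)
  obtain ⟨y, hy, e⟩ := hle hx
  rw [← show y = x from Subtype.ext e]
  exact hy

theorem autInv_commutator {S C : Subgroup G} (hC : AutInv S C) (hCS : C ≤ S) : AutInv S ⁅C, S⁆ := by
  rw [Subgroup.commutator_def]
  refine autInv_closure ?_ ?_
  · rintro _ ⟨a, ha, b, hb, rfl⟩
    rw [commutatorElement_def]
    exact S.mul_mem (S.mul_mem (S.mul_mem (hCS ha) hb) (S.inv_mem (hCS ha))) (S.inv_mem hb)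
  · rintro α x ⟨a, ha, b, hb, e⟩
    refine ⟨_, hC α ⟨a, hCS ha⟩ ha, _, (α ⟨b, hb⟩).2, ?_⟩
    rw [show x = ⁅(⟨a, hCS ha⟩ : ↥S), ⟨b, hb⟩⁆ from Subtype.ext e.symm, map_commutatorElement]
    rfl

theorem autInv_thompson (S : Subgroup G) : AutInv S (thompsonSubgroupAOf S) := by
  intro α x hx
  obtain ⟨y, hy, e⟩ := hx
  obtain rfl : y = x := Subtype.ext e
  refine ⟨α y, ?_, rfl⟩
  have hle : thompsonSubgroupA ↥S ≤ (thompsonSubgroupA ↥S).comap α.toMonoidHom := by
    refine sSup_le fun A hA => Subgroup.map_le_iff_le_comap.1 (le_sSup ⟨?_, fun B hB => ?_⟩)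
    · haveI := hA.1
      infer_instance
    · haveI := hB
      rw [Subgroup.card_map_of_injective (f := α.toMonoidHom) α.injective]
      calc Nat.card B = Nat.card ↥(B.map α.symm.toMonoidHom) :=
            (Subgroup.card_map_of_injective (f := α.symm.toMonoidHom) α.symm.injective).symm
        _ ≤ _ := hA.2 _ inferInstance
  exact hle hy

theorem autInv_centerThompson (S : Subgroup G) : AutInv S (centerThompsonAOf S) := by
  have h := autInv_inf (autInv_thompson S)
    (autInv_centralizer (autInv_thompson S) (thompson_le_self S))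
  intro α x hx
  obtain ⟨h1, -, h3⟩ := h α x ⟨hx.1, x.2, hx.2⟩
  exact ⟨h1, h3⟩

variable [Finite G]

/-- A normal subgroup of a p-group meets the centre. -/
theorem eq_bot_of_inf_center {p : ℕ} [Fact p.Prime] {S C : Subgroup G} (hS : IsPGroup p S) (hCS : C ≤ S)
    (hn : S ≤ 𝐍(C)) (h : C ⊓ (S ⊓ 𝐂(S)) = ⊥) : C = ⊥ := by
  have := hS.isNilpotent
  obtain ⟨n, hn'⟩ := Group.IsNilpotent.nilpotent' (G := ↥S)
  have key : ∀ i (x : ↥S), (x : G) ∈ C → x ∈ Subgroup.upperCentralSeries ↥S i → x = 1 := by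
    intro i
    induction i with
    | zero => exact fun x _ hx => Subgroup.mem_bot.1 hx
    | succ i ih =>
      intro x hxC hx
      refine Subtype.ext ?_
      show (x : G) = 1
      rw [← Subgroup.mem_bot, ← h]
      refine ⟨hxC, x.2, Subgroup.mem_centralizer_iff.2 fun s hs => ?_⟩
      have h1 : ⁅x, (⟨s, hs⟩ : ↥S)⁆ = 1 := by
        refine ih _ ?_ (Subgroup.mem_upperCentralSeries_succ_iff.1 hx _)
        show (x : G) * s * (x : G)⁻¹ * s⁻¹ ∈ C
        rw [show (x : G) * s * (x : G)⁻¹ * s⁻¹ = (x : G) * (s * (x : G)⁻¹ * s⁻¹) by group]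
        exact C.mul_mem hxC ((Subgroup.mem_normalizer_iff.1 (hn hs) _).1 (C.inv_mem hxC))
      exact (congrArg Subtype.val (commutatorElement_eq_one_iff_mul_comm.1 h1)).symm
  rw [Subgroup.eq_bot_iff_forall]
  intro c hc
  exact congrArg Subtype.val (key n ⟨c, hCS hc⟩ hc (by rw [hn']; exact Subgroup.mem_top _))

/-- The facts about a vertex of the amalgam and one of its edges. -/
structure Edge {X : Type*} [Group X] (p q : ℕ) (H E T V N : Subgroup X) : Prop extends Side p q E T V where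
  E_le : E ≤ H
  H_nT : H ≤ 𝐍(T)
  H_nV : H ≤ 𝐍(V)
  N_eq : N = V ⊓ 𝐂(H)
  cardZ : Nat.card ↥(E ⊓ 𝐂(E)) = q * Nat.card N
  fixed : ∀ v ∈ V, ∀ e ∈ E, e ∉ T → ⁅v, e⁆ ∈ N → v ∈ 𝐂(E)
  span : E ⊓ 𝐂(E) ≤ ⁅V, E⁆ ⊔ N

namespace Edge

variable {X Y : Type*} [Group X] [Group Y] {p q : ℕ} {H E T V N : Subgroup X}

theorem map (h : Edge p q H E T V N) {f : X →* Y} (hf : Function.Injective f) :
    Edge p q (H.map f) (E.map f) (T.map f) (V.map f) (N.map f) := by
  have hcent : ∀ A B : Subgroup X, (A ⊓ 𝐂(B)).map f = A.map f ⊓ 𝐂(B.map f) := by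
    intro A B
    ext y
    constructor
    · rintro ⟨x, hx, rfl⟩
      refine ⟨⟨x, hx.1, rfl⟩, Subgroup.mem_centralizer_iff.2 ?_⟩
      rintro _ ⟨b, hb, rfl⟩
      rw [← map_mul, ← map_mul, Subgroup.mem_centralizer_iff.1 hx.2 b hb]
    · rintro ⟨⟨x, hx, rfl⟩, hy⟩
      refine ⟨x, ⟨hx, Subgroup.mem_centralizer_iff.2 fun b hb => hf ?_⟩, rfl⟩
      rw [map_mul, map_mul]
      exact Subgroup.mem_centralizer_iff.1 hy _ ⟨b, hb, rfl⟩
  have hmem : ∀ (A : Subgroup X) (x : X), f x ∈ A.map f ↔ x ∈ A := fun A x =>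
    Subgroup.mem_map_iff_mem hf
  have hnorm : ∀ A B : Subgroup X, A ≤ 𝐍(B) → A.map f ≤ 𝐍(B.map f) := fun A B hAB =>
    (Subgroup.map_mono hAB).trans (Subgroup.le_normalizer_map f)
  have hcard : ∀ A : Subgroup X, Nat.card (A.map f) = Nat.card A := fun A =>
    Subgroup.card_map_of_injective hf
  have hZ : ∀ x, f x ∈ 𝐂(E.map f) ↔ x ∈ 𝐂(E) := fun x => by
    constructor
    · intro hy
      refine Subgroup.mem_centralizer_iff.2 fun b hb => hf ?_
      rw [map_mul, map_mul]
      exact Subgroup.mem_centralizer_iff.1 hy _ ⟨b, hb, rfl⟩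
    · intro hx
      refine Subgroup.mem_centralizer_iff.2 ?_
      rintro _ ⟨b, hb, rfl⟩
      rw [← map_mul, ← map_mul, Subgroup.mem_centralizer_iff.1 hx b hb]
  exact
    { isP := h.isP.map f
      T_le := Subgroup.map_mono h.T_le
      V_le := Subgroup.map_mono h.V_le
      nT := hnorm _ _ h.nT
      nV := hnorm _ _ h.nV
      CV := by rw [← hcent, h.CV]
      CT := by rw [← hcent, h.CT]
      pow := by rintro _ ⟨v, hv, rfl⟩; rw [← map_pow, h.pow v hv, map_one]
      comm := by rw [← Subgroup.map_commutator, ← hcent]; exact Subgroup.map_mono h.comm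
      fixed₀ := by
        rintro _ ⟨v, hv, rfl⟩ _ ⟨e, he, rfl⟩ heT hc
        exact (hZ v).2 (h.fixed₀ v hv e he (fun h' => heT ((hmem T e).2 h'))
          (hf (by rw [map_mul, map_mul]; exact hc)))
      two_le := h.two_le
      cardE := by rw [hcard, hcard]; exact h.cardE
      cardV := by rw [← hcent, hcard, hcard]; exact h.cardV
      measure := by
        intro Y hY
        have e : Y = (Y.comap f).map f := (Subgroup.map_comap_eq_self (hY.trans (by
          rintro _ ⟨x, -, rfl⟩; exact ⟨x, rfl⟩))).symm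
        rw [e, ← hcent, hcard, hcard, hcard, hcard]
        exact h.measure _ fun x hx => (hmem E x).1 (hY hx)
      E_le := Subgroup.map_mono h.E_le
      H_nT := hnorm _ _ h.H_nT
      H_nV := hnorm _ _ h.H_nV
      N_eq := by rw [← hcent, ← h.N_eq]
      cardZ := by rw [← hcent, hcard, hcard]; exact h.cardZ
      fixed := by
        rintro _ ⟨v, hv, rfl⟩ _ ⟨e, he, rfl⟩ heT hc
        refine (hZ v).2 (h.fixed v hv e he (fun h' => heT ((hmem T e).2 h')) ?_)
        rw [← map_commutatorElement] at hc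
        exact (hmem N _).1 hc
      span := by
        rw [← Subgroup.map_commutator, ← hcent, ← Subgroup.map_sup]
        exact Subgroup.map_mono h.span }

end Edge

section Base

variable {p : ℕ} [hp : Fact p.Prime] {F : Type} [Field F] [Fintype F] {S : Subgroup G}

/-- The normalised projection of the pushing-up situation. -/
structure Proj (p : ℕ) (F : Type) [Field F] [Fintype F] (S : Subgroup G) where
  φ : G →* Matrix.ProjectiveSpecialLinearGroup (Fin 2) F
  surj : Function.Surjective φ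
  m : ℕ
  hm : 1 ≤ m
  hF : Fintype.card F = p ^ m
  up_mem : ∀ s ∈ S, ∃ t, φ s = Elation.pr F (up t)
  up_surj : ∀ t, ∃ s ∈ S, φ s = Elation.pr F (up t)

theorem exists_proj (P : Sylow p G) (hP : (P : Subgroup G) = S) (K : Subgroup G) [K.Normal] (n : ℕ) (hn : 1 ≤ n)
    (hF : Fintype.card F = p ^ n) (e : G ⧸ K ≃* Matrix.ProjectiveSpecialLinearGroup (Fin 2) F) :
    Nonempty (Proj p F S) := by
  haveI : CharP F p := charP_of_card_eq_prime_pow hF
  set φ₀ := e.toMonoidHom.comp (QuotientGroup.mk' K) with hφ₀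
  have hsurj : Function.Surjective φ₀ := e.surjective.comp (QuotientGroup.mk'_surjective K)
  let f : Multiplicative F →* Matrix.ProjectiveSpecialLinearGroup (Fin 2) F :=
    MonoidHom.mk' (fun t => Elation.pr F (up t.toAdd)) fun a b => by rw [toAdd_mul, up_add, map_mul]
  have hfinj : Function.Injective f := fun a b h =>
    Multiplicative.toAdd.injective (Elation.pr_up_injective h)
  have hU : IsPGroup p f.range := by
    refine IsPGroup.of_card (n := n) ?_
    rw [← hF, ← Nat.card_eq_fintype_card, ← Nat.card_congr (MonoidHom.ofInjective hfinj).toEquiv]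
    exact (Nat.card_congr Multiplicative.ofAdd).symm
  obtain ⟨R, hR⟩ := hU.exists_le_sylow
  have hRU : f.range = (R : Subgroup _) := by
    refine Subgroup.eq_of_le_of_card_ge hR (le_of_eq ?_)
    rw [(psl_two_sylow (p := p) hF).1 R, ← Nat.card_congr (MonoidHom.ofInjective hfinj).toEquiv,
      ← Nat.card_eq_fintype_card]
    exact Nat.card_congr Multiplicative.ofAdd
  obtain ⟨x, hx⟩ := MulAction.exists_smul_eq (Matrix.ProjectiveSpecialLinearGroup (Fin 2) F)
    (P.mapSurjective hsurj) R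
  have hx' : ((P : Subgroup G).map φ₀).map (MulAut.conj x).toMonoidHom = f.range := by
    rw [hRU, ← hx, sylow_smul_eq_map, Sylow.coe_mapSurjective]
  subst hP
  refine ⟨⟨(MulAut.conj x).toMonoidHom.comp φ₀, (MulAut.conj x).surjective.comp hsurj, n, hn, hF,
    fun s hs => ?_, fun t => ?_⟩⟩
  · obtain ⟨t, ht⟩ := hx'.le ⟨φ₀ s, ⟨s, hs, rfl⟩, rfl⟩
    exact ⟨t.toAdd, ht.symm⟩
  · obtain ⟨_, ⟨s, hs, rfl⟩, hs'⟩ := hx'.ge ⟨Multiplicative.ofAdd t, rfl⟩
    exact ⟨s, hs, hs'⟩

variable (pr' : Proj p F S)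

/-- The associated quotient data. -/
def Proj.quot : Quot p G :=
  haveI : CharP F p := charP_of_card_eq_prime_pow pr'.hF
  have h := psl_two_sylow (p := p) pr'.hF
  { X := Matrix.ProjectiveSpecialLinearGroup (Fin 2) F
    grp := inferInstance
    fin := inferInstance
    φ := pr'.φ
    surj := pr'.surj
    q := Fintype.card F
    m := pr'.m
    hq := pr'.hF
    hm := pr'.hm
    card_sylow := h.1
    num_sylow := h.2.1
    num_sylow_le := h.2.2.1
    irred := h.2.2.2.1
    sup_sylow := fun P R hne => (h.2.2.2.2 P R hne).1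
    inf_sylow := fun P R hne => (h.2.2.2.2 P R hne).2 }

variable (hE : IsPushingUpSituation p S)

include pr' hE in
theorem Proj.gen (k : G) (h : ∃ s ∈ S, ∀ t, pr'.φ (k * s * k⁻¹) ≠ Elation.pr F (up t)) :
    S ⊔ S.map (MulAut.conj k).toMonoidHom = ⊤ := by
  obtain ⟨P, rfl⟩ := hE.2.1
  refine sup_eq_top hE pr'.quot P (k • P) fun e => ?_
  obtain ⟨s, hs, hs'⟩ := h
  obtain ⟨s', hs'', e'⟩ : pr'.φ (k * s * k⁻¹) ∈ (P : Subgroup G).map pr'.φ :=
    e.ge ⟨k * s * k⁻¹, ⟨s, hs, rfl⟩, rfl⟩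
  obtain ⟨t, ht⟩ := pr'.up_mem s' hs''
  exact hs' t (e'.symm.trans ht)

include pr' hE in
theorem Proj.ker_mem {k : G} (hk : pr'.φ k = 1) {i : ℕ} (hpow : k ^ p ^ i = 1) : k ∈ pCore p G := by
  obtain ⟨P₀, hP₀⟩ := hE.2.1
  have hz : IsPGroup p (Subgroup.zpowers k) := by
    intro y
    obtain ⟨j, hj⟩ := y.2
    refine ⟨i, Subtype.ext ?_⟩
    push_cast
    rw [← hj, ← zpow_natCast, ← zpow_mul, mul_comm, zpow_mul, zpow_natCast, hpow, one_zpow]
  obtain ⟨P, hP⟩ := hz.exists_le_sylow
  exact inf_ker_le hE pr'.quot P ⟨hP (Subgroup.mem_zpowers k), hk⟩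

include pr' in
theorem Proj.map_pCore {k : G} (hk : k ∈ pCore p G) : pr'.φ k = 1 := by
  have h : pr'.φ k ∈ (pCore p G).map pr'.quot.φ := ⟨k, hk, rfl⟩
  rw [map_pCore_eq_bot pr'.quot] at h
  exact h

include pr' hE in
theorem Proj.card_eq : Nat.card S = Fintype.card F * Nat.card (pCore p G) := by
  obtain ⟨P, hP⟩ := hE.2.1
  refine le_antisymm ?_ ?_
  · have := card_le hE pr'.quot P
    rw [hP] at this
    rwa [mul_comm] at this
  · have h1 := CfsgLib.Coprime.card_map_mul_inf_ker pr'.φ S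
    have h2 : Nat.card (S.map pr'.φ) = Fintype.card F := by
      have := pr'.quot.card_map P
      rwa [hP] at this
    rw [← h1, h2]
    refine Nat.mul_le_mul_left _ (Subgroup.card_le_of_le fun k hk => ⟨pr'.map_pCore hk, pCore_le hE hk⟩)

include hE in
theorem center_not_le (hd : HD S) : ¬ S ⊓ 𝐂(S) ≤ Subgroup.center G := by
  intro hle
  refine hd (S ⊓ 𝐂(S)) inf_le_left ?_ (autInv_centralizer (autInv_self S) le_rfl) (normal_of_le_center hle)
  intro e
  have h1 : S = ⊥ := eq_bot_of_inf_center (isPGroup_self hE) le_rfl Subgroup.le_normalizer (by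
    rw [e, inf_bot_eq])
  have h2 := centralizer_pCore_le hE
  have h3 : pCore p G = ⊥ := le_bot_iff.1 (h1 ▸ pCore_le hE)
  rw [h3] at h2
  exact hE.1 (le_bot_iff.1 (fun g _ => h2 (Subgroup.mem_centralizer_iff.2 fun x hx => by
    rw [SetLike.mem_coe, Subgroup.mem_bot] at hx
    simp [hx])))

include hE in
theorem hd_facts (hd : HD S) :
    (∃ A, IsLargeIn S A ∧ ¬ A ≤ pCore p G) ∧ S ≤ 𝐂(centerThompsonAOf S) ∧
      ∀ z ∈ S ⊓ 𝐂(S), z ^ p = 1 := by
  have hc := center_not_le hE hd
  have hSp := isPGroup_self hE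
  obtain ⟨A, hA, hAT⟩ : ∃ A, IsLargeIn S A ∧ ¬ A ≤ pCore p G := by
    by_contra hno
    push Not at hno
    refine hd _ inf_le_left ?_ (autInv_centralizer (autInv_centerThompson S)
      (inf_le_left.trans (thompson_le_self S))) (thompson_le_core_normal hE hc (thompson_le hno))
    intro e
    refine hc fun z hz => ?_
    have : z ∈ S ⊓ 𝐂(centerThompsonAOf S) :=
      ⟨hz.1, cent_mono (inf_le_left.trans (thompson_le_self S)) hz.2⟩
    rw [e, Subgroup.mem_bot] at this
    exact this ▸ Subgroup.one_mem _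
  obtain ⟨W₀, hW₀, hW₀W, hWle, hW₀Z, hpow⟩ := exists_split hE hc hA hAT
  refine ⟨⟨A, hA, hAT⟩, ?_, ?_⟩
  · rw [Subgroup.le_centralizer_iff]
    rw [← Subgroup.commutator_eq_bot_iff_le_centralizer]
    have hJS : centerThompsonAOf S ≤ S := inf_le_left.trans (thompson_le_self S)
    refine eq_bot_of_inf_center hSp ((Subgroup.commutator_le_sup _ _).trans (sup_le hJS le_rfl))
      (Subgroup.normalizer_commutator_ge_right _ _) ?_
    have hW₀' : ⁅centerThompsonAOf S, S⁆ ≤ W₀ := by
      rw [Subgroup.commutator_le]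
      intro y hy s hs
      obtain ⟨f, hf, x, hx, rfl⟩ := Subgroup.mem_sup_of_normal_right.1 (hWle hy)
      have hfs := Subgroup.mem_centralizer_iff.1 hf.2 s hs
      have e : ⁅f * x, s⁆ = (f * x * f⁻¹) * (f * (s * x⁻¹ * s⁻¹) * f⁻¹) := by
        calc ⁅f * x, s⁆ = f * x * s * x⁻¹ * (s⁻¹ * (s * f⁻¹)) * s⁻¹ := by rw [commutatorElement_def]; group
          _ = f * x * s * x⁻¹ * (s⁻¹ * (f⁻¹ * s)) * s⁻¹ := by
              rw [show s * f⁻¹ = f⁻¹ * s from (Commute.inv_right (show Commute s f from hfs)).eq]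
          _ = _ := by group
      rw [e]
      exact W₀.mul_mem (hW₀.conj_mem x hx f) (hW₀.conj_mem _ (hW₀.conj_mem _ (W₀.inv_mem hx) s) f)
    by_contra hne
    refine hd _ (inf_le_right.trans inf_le_left) hne ?_ (normal_of_le_center fun y hy => hW₀Z ⟨hW₀' hy.1, hy.2.2⟩)
    exact autInv_inf (autInv_commutator (autInv_centerThompson S) hJS) (autInv_centralizer (autInv_self S) le_rfl)
  · by_contra hne
    push Not at hne
    obtain ⟨z, hz, hzp⟩ := hne
    refine hd (Subgroup.closure {y | ∃ z ∈ S ⊓ 𝐂(S), y = z ^ p}) ?_ ?_ ?_ ?_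
    · rw [Subgroup.closure_le]
      rintro _ ⟨w, hw, rfl⟩
      exact S.pow_mem hw.1 _
    · intro e
      refine hzp (Subgroup.mem_bot.1 ?_)
      rw [← e]
      exact Subgroup.subset_closure ⟨z, hz, rfl⟩
    · refine autInv_closure (fun y hy => by obtain ⟨w, hw, rfl⟩ := hy; exact S.pow_mem hw.1 _) ?_
      rintro α x ⟨w, hw, e⟩
      refine ⟨_, autInv_centralizer (autInv_self S) le_rfl α ⟨w, hw.1⟩ hw, ?_⟩
      rw [show x = (⟨w, hw.1⟩ : ↥S) ^ p from Subtype.ext e, map_pow]
      rfl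
    · refine normal_of_le_center ((Subgroup.closure_le _).2 ?_)
      rintro _ ⟨w, hw, rfl⟩
      exact hpow w hw

end Base

section Facts

variable {p : ℕ} [hp : Fact p.Prime] {F : Type} [Field F] [Fintype F] {S : Subgroup G}

/-- The normal closure of `Z(S)`. -/
def closureZ (S : Subgroup G) : Subgroup G := Subgroup.normalClosure ((S ⊓ 𝐂(S) : Subgroup G) : Set G)

instance closureZ_normal (S : Subgroup G) : (closureZ S).Normal := Subgroup.normalClosure_normal

/-- The edge facts at the given group. -/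
theorem base_edge (hE : IsPushingUpSituation p S) (pr' : Proj p F S)
    (hnc : ¬ S ⊓ 𝐂(S) ≤ Subgroup.center G) {A : Subgroup G} (hA : IsLargeIn S A) (hAT : ¬ A ≤ pCore p G)
    (hJ : S ≤ 𝐂(centerThompsonAOf S)) (hpow : ∀ z ∈ S ⊓ 𝐂(S), z ^ p = 1) :
    Edge p (Fintype.card F) ⊤ S (pCore p G) (closureZ S) (closureZ S ⊓ Subgroup.center G) := by
  obtain ⟨P, hP⟩ := hE.2.1
  have hZS : S ⊓ 𝐂(S) ≤ S := inf_le_left
  obtain ⟨hVT, hTV⟩ := closure_facts hE hZS inf_le_right
  have hTS := pCore_le hE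
  haveI : (pCore p G).Normal := pCore_normal p G
  change closureZ S ≤ pCore p G at hVT
  change pCore p G ≤ 𝐂(closureZ S) at hTV
  obtain ⟨hl, hCU, hUc, hncf, heq⟩ := large_closure hE hZS inf_le_right hnc hJ pr'.quot P hP
  obtain ⟨-, -, hCA, -, hAc, -⟩ := natural_of_offender hE pr'.quot hnc hA hAT P hP
  have hCV : S ⊓ 𝐂(closureZ S) = pCore p G := inf_centralizer_closure hE hZS inf_le_right hnc
  change IsCentralizerLarge (Subgroup.center ↥S ⊔ (closureZ S).subgroupOf S) at hl
  change 𝐂(Subgroup.center ↥S ⊔ (closureZ S).subgroupOf S) = coreIn p S at hCU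
  set V := closureZ S with hVdef
  change ¬ fix V P ≤ Subgroup.center G at hncf
  change Nat.card V = Fintype.card F * Nat.card (fix V P) at heq
  change V ⊓ 𝐂(A) = fix V P at hCA
  change Nat.card A = Fintype.card F * Nat.card ↥(A ⊓ pCore p G) at hAc
  have hfix : fix V P = S ⊓ 𝐂(S) := by
    unfold fix
    rw [hP]
    exact le_antisymm (inf_le_inf_right _ (hVT.trans hTS)) (le_inf Subgroup.subset_normalClosure inf_le_right)
  rw [hfix] at hncf heq hCA
  have hVp : IsPGroup p V := (isPGroup_self hE).to_le (hVT.trans hTS)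
  have hVc : V ≤ 𝐂(V) := hVT.trans hTV
  have hgen : V ≤ Subgroup.normalClosure (fix V P : Set G) := by rw [hfix]; exact le_rfl
  have hncf' : ¬ fix V P ≤ Subgroup.center G := by rwa [hfix]
  have heq' : Nat.card V = pr'.quot.q * Nat.card (fix V P) := by rw [hfix]; exact heq
  have hZN : Nat.card ↥(S ⊓ 𝐂(S)) = Fintype.card F * Nat.card ↥(V ⊓ Subgroup.center G) := by
    have h := card_fix_normal hE pr'.quot hVp hVc P hncf' heq' hgen V le_rfl
      fun h => hncf' (le_trans (le_inf inf_le_left le_rfl) h)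
    rw [inf_eq_right.2 (fix_le V P), inf_eq_left.2 (inf_le_left : V ⊓ Subgroup.center G ≤ V), hfix] at h
    exact h
  have hfixed : ∀ v ∈ V, ∀ e ∈ S, e ∉ pCore p G → ⁅v, e⁆ ∈ V ⊓ Subgroup.center G → v ∈ 𝐂(S) := by
    intro v hv e he heT hc
    have h := mem_fix_of_commute hE pr'.quot hVp hVc P hncf' heq' hgen (R := P) (x := e) (w := v)
      (hP.ge he) (fun h1 => heT (inf_ker_le hE pr'.quot P ⟨hP.ge he, h1⟩)) hv (by
        have : e * v * e⁻¹ * v⁻¹ = ⁅v, e⁆⁻¹ := by rw [commutatorElement_def]; group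
        rw [this]; exact Subgroup.inv_mem _ hc.2)
    rw [hfix] at h
    exact h.2
  have hfixed₀ : ∀ v ∈ V, ∀ e ∈ S, e ∉ pCore p G → Commute e v → v ∈ 𝐂(S) := fun v hv e he heT hc =>
    hfixed v hv e he heT (by rw [(commutatorElement_eq_one_iff_commute.2 hc.symm)]; exact Subgroup.one_mem _)
  have hcardS := Proj.card_eq pr' hE
  have hpowV : ∀ v ∈ V, v ^ p = 1 := by
    let Ω : Subgroup G :=
      { carrier := {v | v ∈ V ∧ v ^ p = 1}
        one_mem' := ⟨V.one_mem, one_pow p⟩
        mul_mem' := fun {a b} ha hb => ⟨V.mul_mem ha.1 hb.1, by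
          rw [(mem_centralizer_commute (hVc ha.1) hb.1).mul_pow, ha.2, hb.2, one_mul]⟩
        inv_mem' := fun {a} ha => ⟨V.inv_mem ha.1, by rw [inv_pow, ha.2, inv_one]⟩ }
    haveI : Ω.Normal := ⟨fun v hv g => ⟨(inferInstance : V.Normal).conj_mem v hv.1 g, by
      rw [conj_pow, hv.2, mul_one, mul_inv_cancel]⟩⟩
    have hVΩ : V ≤ Ω := Subgroup.normalClosure_le_normal fun z hz =>
      ⟨Subgroup.subset_normalClosure hz, hpow z hz⟩
    exact fun v hv => (hVΩ hv).2
  have hVS : V ≤ S := hVT.trans hTS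
  have hZV : S ⊓ 𝐂(S) ≤ V := Subgroup.subset_normalClosure
  -- centralizer of T and the measure
  have hU : Subgroup.center ↥S ⊔ V.subgroupOf S = V.subgroupOf S := by
    refine sup_eq_right.2 fun z hz => hZV ⟨z.2, Subgroup.mem_centralizer_iff.2 fun s hs => ?_⟩
    exact congrArg Subtype.val (Subgroup.mem_center_iff.1 hz ⟨s, hs⟩)
  rw [hU] at hl hCU
  have hmax : maxCentralizerProduct ↥S = Nat.card (pCore p G) * Nat.card V := by
    rw [← hl, hCU, card_coreIn hE, CfsgLib.Coprime.card_subgroupOf hVS, mul_comm]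
  have hCT : S ⊓ 𝐂(pCore p G) = V := by
    have h1 : V ≤ S ⊓ 𝐂(pCore p G) := le_inf hVS (Subgroup.le_centralizer_iff.1 hTV)
    have h2 : Nat.card ↥(coreIn p S) * Nat.card 𝐂(coreIn p S) ≤ maxCentralizerProduct ↥S :=
      le_maxCentralizerProduct _
    have h3 : Nat.card ↥(S ⊓ 𝐂(pCore p G)) ≤ Nat.card 𝐂(coreIn p S) := by
      refine Nat.card_le_card_of_injective (fun x => ⟨⟨x.1, x.2.1⟩, Subgroup.mem_centralizer_iff.2 fun y hy =>
        Subtype.ext (Subgroup.mem_centralizer_iff.1 x.2.2 y hy)⟩) ?_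
      intro x y e
      exact Subtype.ext (congrArg (fun z : ↥(𝐂(coreIn p S)) => ((z : ↥S) : G)) e)
    rw [hmax, card_coreIn hE] at h2
    exact (Subgroup.eq_of_le_of_card_ge h1 (h3.trans (Nat.le_of_mul_le_mul_left h2 Nat.card_pos))).symm
  have hmeasure : ∀ Y ≤ S, Nat.card Y * Nat.card ↥(S ⊓ 𝐂(Y)) ≤ Nat.card (pCore p G) * Nat.card V := by
    intro Y hY
    rw [← hmax]
    refine le_trans (le_of_eq ?_) (le_maxCentralizerProduct (Y.subgroupOf S))
    rw [CfsgLib.Coprime.card_subgroupOf hY]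
    congr 1
    refine Nat.card_congr
      { toFun := fun x => ⟨⟨x.1, x.2.1⟩, Subgroup.mem_centralizer_iff.2 fun y hy =>
          Subtype.ext (Subgroup.mem_centralizer_iff.1 x.2.2 y hy)⟩
        invFun := fun x => ⟨x.1.1, x.1.2, Subgroup.mem_centralizer_iff.2 fun y hy =>
          congrArg Subtype.val (Subgroup.mem_centralizer_iff.1 x.2 ⟨y, hY hy⟩ hy)⟩
        left_inv := fun _ => rfl
        right_inv := fun _ => rfl }
  have hcomm : ⁅V, S⁆ ≤ S ⊓ 𝐂(S) := by
    have hAV : A ≤ 𝐍(V) := (le_top : A ≤ ⊤).trans (Subgroup.normalizer_eq_top_iff.2 inferInstance).ge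
    have hVe : IsElementaryAbelian p V := ⟨(comm_iff V).2 hVc, hpowV⟩
    have hAA : ⁅A, A⁆ = ⊥ := Subgroup.commutator_eq_bot_iff_le_centralizer.2 hA.comm
    have hfull : CfsgLib.Offender.measure V A = Nat.card ↥(A ⊓ pCore p G) * Nat.card V := by
      rw [CfsgLib.Offender.measure_def, hCA, hAc, heq]; ring
    have hbest : ∀ B : Subgroup G, B ≤ A → CfsgLib.Offender.measure V B ≤ CfsgLib.Offender.measure V A := by
      intro B hB
      by_cases hBT : B ≤ pCore p G
      · rw [hfull, CfsgLib.Offender.measure_def]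
        exact Nat.mul_le_mul (Subgroup.card_le_of_le (le_inf hB hBT)) (Subgroup.card_le_of_le inf_le_left)
      · rw [CfsgLib.Offender.measure_def, CfsgLib.Offender.measure_def, hCA]
        obtain ⟨b, hb, hbT⟩ := SetLike.not_le_iff_exists.1 hBT
        refine Nat.mul_le_mul (Subgroup.card_le_of_le hB) (Subgroup.card_le_of_le fun v hv => ?_)
        exact ⟨hVS hv.1, hfixed₀ v hv.1 b (hA.le (hB hb)) hbT (Subgroup.mem_centralizer_iff.1 hv.2 b hb)⟩
    obtain ⟨hW, hWm, hWf⟩ := CfsgLib.Offender.replacement hVe hAV (by rw [hAA]; exact bot_le) hbest (U := V) le_rfl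
    set W := ⁅V, A⁆
    have hWZ : W ≤ S ⊓ 𝐂(S) := by
      by_cases hT : A ⊓ 𝐂(W) ≤ pCore p G
      · have hVW : V ≤ W ⊔ (V ⊓ 𝐂(A)) := by
          rw [← hWf]
          exact le_inf le_rfl (fun v hv => cent_mono hT (Subgroup.le_centralizer_iff.1 hTV hv))
        have hWW : W ≤ ⁅W, A⁆ := by
          refine (Subgroup.commutator_le).2 fun v hv a ha => ?_
          obtain ⟨w, hw, c, hc, rfl⟩ := CfsgLib.Coprime.exists_mul_of_mem_sup
            (((hW.trans hVc).trans (cent_mono inf_le_left)).trans (Subgroup.centralizer_le_normalizer _)) (hVW hv)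
          have hca : ⁅c, a⁆ = 1 := commutatorElement_eq_one_iff_commute.2
            (Subgroup.mem_centralizer_iff.1 hc.2 a ha).symm
          rw [commutatorElement_mul_left_eq_conj_mul, hca]
          simp only [mul_one, mul_inv_cancel, one_mul]
          exact Subgroup.commutator_mem_commutator hw ha
        rw [CfsgLib.Offender.eq_bot_of_le_commutator hVp hAV hW
          (fun a ha => by
            obtain ⟨k, hk⟩ := isPGroup_self hE ⟨a, hA.le ha⟩
            refine ⟨k, ?_⟩
            have e : a ^ p ^ k = 1 := congrArg Subtype.val hk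
            rw [e]; exact Subgroup.one_mem _) hWW]
        exact bot_le
      · obtain ⟨a, ha, haT⟩ := SetLike.not_le_iff_exists.1 hT
        intro w hw
        refine ⟨hVS (hW hw), hfixed₀ w (hW hw) a (hA.le ha.1) haT ?_⟩
        exact (Subgroup.mem_centralizer_iff.1 ha.2 w hw).symm
    obtain ⟨-, -, -, hAT', -, -⟩ := natural_of_offender hE pr'.quot hnc hA hAT P hP
    conv_lhs => rw [← hAT']
    refine commutator_sup_le hWZ ?_ ?_
    · rw [Subgroup.commutator_eq_bot_iff_le_centralizer.2 (Subgroup.le_centralizer_iff.1 hTV)]; exact bot_le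
    · rw [hAT']
      exact (Subgroup.le_centralizer_iff.1 inf_le_right).trans (Subgroup.centralizer_le_normalizer _)
  have hspan : S ⊓ 𝐂(S) ≤ ⁅V, S⁆ ⊔ (V ⊓ Subgroup.center G) := by
    set N := V ⊓ Subgroup.center G with hN
    obtain ⟨R, hR⟩ := pr'.quot.exists_image_ne P
    obtain ⟨g, rfl⟩ := MulAction.exists_smul_eq G P R
    obtain ⟨z, hz, hzc⟩ := SetLike.not_le_iff_exists.1 hnc
    set w := g * z * g⁻¹
    have hw : w ∈ V := (inferInstance : V.Normal).conj_mem z (hZV hz) g
    have hwS : w ∉ 𝐂(S) := fun h => hzc (conj_mem_center_iff.1 (mem_center_of_two hE pr'.quot hR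
      (conj_mem_centralizer_smul (g := g) (by rw [hP]; exact hz.2)) (by rw [hP]; exact h)))
    -- the map s ↦ [w, s]
    have hQ : ∀ s : ↥S, ⁅w, (s : G)⁆ ∈ ⁅V, S⁆ := fun s => Subgroup.commutator_mem_commutator hw s.2
    let f : ↥S →* G ⧸ N :=
      MonoidHom.mk' (fun s => QuotientGroup.mk' N ⁅w, (s : G)⁆) fun a b => by
        rw [← map_mul]
        congr 1
        push_cast
        have hc := Subgroup.mem_centralizer_iff.1 (hcomm (hQ b)).2 (a : G) a.2
        rw [show ⁅w, (a : G) * (b : G)⁆ = ⁅w, (a : G)⁆ * ((a : G) * ⁅w, (b : G)⁆ * (a : G)⁻¹) by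
          simp only [commutatorElement_def]; group, hc, mul_inv_cancel_right]
    have hker : f.ker ≤ coreIn p S := by
      intro s hs
      by_contra hsT
      exact hwS (hfixed w hw s s.2 hsT ((QuotientGroup.eq_one_iff _).1 hs))
    have hrange : f.range ≤ (S ⊓ 𝐂(S)).map (QuotientGroup.mk' N) := by
      rintro _ ⟨s, rfl⟩
      exact ⟨_, hcomm (hQ s), rfl⟩
    have hc1 : Nat.card f.range * Nat.card f.ker = Nat.card S := by
      rw [mul_comm, ← Subgroup.index_ker]; exact Subgroup.card_mul_index _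
    have hNZ : N ≤ S ⊓ 𝐂(S) := le_inf (inf_le_left.trans hVS) (inf_le_right.trans (Subgroup.center_le_centralizer _))
    have hc2 : Nat.card ↥((S ⊓ 𝐂(S)).map (QuotientGroup.mk' N)) * Nat.card N = Nat.card ↥(S ⊓ 𝐂(S)) := by
      have := CfsgLib.Coprime.card_map_mul_inf_ker (QuotientGroup.mk' N) (S ⊓ 𝐂(S))
      rwa [QuotientGroup.ker_mk', inf_eq_left.2 hNZ] at this
    have hfeq : f.range = (S ⊓ 𝐂(S)).map (QuotientGroup.mk' N) := by
      refine Subgroup.eq_of_le_of_card_ge hrange ?_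
      refine Nat.le_of_mul_le_mul_right ?_ (Nat.mul_pos (Nat.card_pos (α := N)) (Nat.card_pos (α := f.ker)))
      calc Nat.card ↥((S ⊓ 𝐂(S)).map (QuotientGroup.mk' N)) * (Nat.card N * Nat.card f.ker)
          = Nat.card ↥(S ⊓ 𝐂(S)) * Nat.card f.ker := by rw [← hc2]; ring
        _ ≤ Fintype.card F * Nat.card N * Nat.card (pCore p G) := by
            rw [← card_coreIn hE, hZN]
            exact Nat.mul_le_mul_left _ (Subgroup.card_le_of_le hker)
        _ = _ := by
            rw [show Nat.card f.range * (Nat.card N * Nat.card f.ker) = Nat.card f.range * Nat.card f.ker * Nat.card N by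
              ring, hc1, hcardS]
            ring
    intro x hx
    obtain ⟨s, hs⟩ : QuotientGroup.mk' N x ∈ f.range := hfeq ▸ ⟨x, hx, rfl⟩
    have e : x = ⁅w, (s : G)⁆ * (⁅w, (s : G)⁆⁻¹ * x) := (mul_inv_cancel_left _ _).symm
    rw [e]
    exact Subgroup.mul_mem_sup (hQ s) (QuotientGroup.eq.1 hs)
  exact
    { isP := isPGroup_self hE
      T_le := hTS
      V_le := hVT
      nT := (le_top : S ≤ ⊤).trans (Subgroup.normalizer_eq_top_iff.2 inferInstance).ge
      nV := (le_top : S ≤ ⊤).trans (Subgroup.normalizer_eq_top_iff.2 inferInstance).ge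
      CV := hCV
      CT := hCT
      pow := hpowV
      comm := hcomm
      fixed₀ := hfixed₀
      two_le := Fintype.one_lt_card
      cardE := hcardS
      cardV := heq
      measure := hmeasure
      E_le := le_top
      H_nT := (Subgroup.normalizer_eq_top_iff.2 inferInstance).ge
      H_nV := (Subgroup.normalizer_eq_top_iff.2 inferInstance).ge
      N_eq := by rw [Subgroup.coe_top, Subgroup.centralizer_univ]
      cardZ := hZN
      fixed := hfixed
      span := hspan }

end Facts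

end CfsgLib.PushingUp
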