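/-
An abelian section U/W of normal subgroups as an additive module for the whole group.
-/
import Mathlib

set_option autoImplicit false

open scoped commutatorElement

namespace CfsgLib.PushingUp

variable {G : Type*} [Group G]

/-- The section `U / W`, realised as the image of `U` in `G ⧸ W`. -/
def Sec (U W : Subgroup G) [W.Normal] (_h : ⁅U, U⁆ ≤ W) : Type _ :=
  Additive ↥(U.map (QuotientGroup.mk' W))

variable {U W : Subgroup G} [hWn : W.Normal] {h : ⁅U, U⁆ ≤ W}

namespace Sec

/-- The class of an element of `U`. -/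
def mk (h : ⁅U, U⁆ ≤ W) (u : G) (hu : u ∈ U) : Sec U W h :=
  Additive.ofMul (⟨QuotientGroup.mk' W u, u, hu, rfl⟩ : ↥(U.map (QuotientGroup.mk' W)))

instance instAddCommGroup : AddCommGroup (Sec U W h) :=
  { (inferInstance : AddGroup (Additive ↥(U.map (QuotientGroup.mk' W)))) with
    add_comm := by
      rintro ⟨_, a, ha, rfl⟩ ⟨_, b, hb, rfl⟩
      refine congrArg Additive.ofMul (Subtype.ext ?_)
      show QuotientGroup.mk' W a * QuotientGroup.mk' W b = QuotientGroup.mk' W b * QuotientGroup.mk' W a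
      rw [← commutatorElement_eq_one_iff_mul_comm, ← map_commutatorElement]
      exact (QuotientGroup.eq_one_iff _).2 (h (Subgroup.commutator_mem_commutator ha hb)) }

instance instFinite [Finite G] : Finite (Sec U W h) :=
  inferInstanceAs (Finite (Additive ↥(U.map (QuotientGroup.mk' W))))

theorem surj (m : Sec U W h) : ∃ u hu, mk h u hu = m := by
  obtain ⟨_, u, hu, rfl⟩ := m
  exact ⟨u, hu, rfl⟩

theorem mk_eq_iff {u v : G} (hu : u ∈ U) (hv : v ∈ U) : mk h u hu = mk h v hv ↔ u⁻¹ * v ∈ W := by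
  show Additive.ofMul _ = Additive.ofMul _ ↔ _
  rw [Additive.ofMul.apply_eq_iff_eq, Subtype.ext_iff]
  exact QuotientGroup.eq

theorem mk_eq_zero {u : G} (hu : u ∈ U) : mk h u hu = 0 ↔ u ∈ W := by
  show Additive.ofMul _ = Additive.ofMul (1 : ↥(U.map (QuotientGroup.mk' W))) ↔ _
  rw [Additive.ofMul.apply_eq_iff_eq, Subtype.ext_iff]
  exact QuotientGroup.eq_one_iff u

theorem mk_mul {u v : G} (hu : u ∈ U) (hv : v ∈ U) :
    mk h (u * v) (U.mul_mem hu hv) = mk h u hu + mk h v hv :=
  congrArg Additive.ofMul (Subtype.ext (map_mul (QuotientGroup.mk' W) u v))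

theorem mk_congr {u v : G} (hu : u ∈ U) (e : u = v) : mk h u hu = mk h v (e ▸ hu) := by
  subst e; rfl

theorem mk_one : mk h 1 U.one_mem = 0 := (mk_eq_zero _).2 W.one_mem

theorem mk_inv {u : G} (hu : u ∈ U) : mk h u⁻¹ (U.inv_mem hu) = -mk h u hu := by
  refine eq_neg_of_add_eq_zero_left ?_
  rw [← mk_mul]
  exact (mk_eq_zero _).2 (by rw [inv_mul_cancel]; exact W.one_mem)

theorem mk_pow {u : G} (hu : u ∈ U) : ∀ k : ℕ, mk h (u ^ k) (U.pow_mem hu k) = k • mk h u hu
  | 0 => by
    rw [zero_nsmul]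
    exact (mk_eq_zero _).2 (by rw [pow_zero]; exact W.one_mem)
  | k + 1 => by
    rw [succ_nsmul, ← mk_pow hu k, ← mk_mul]
    exact mk_congr _ (pow_succ u k)

theorem card_mul [Finite G] (hWU : W ≤ U) : Nat.card (Sec U W h) * Nat.card W = Nat.card U := by
  have e : ((QuotientGroup.mk' W).comp U.subtype).range = U.map (QuotientGroup.mk' W) := by
    rw [MonoidHom.range_comp, Subgroup.range_subtype]
  have hc := Subgroup.card_mul_index ((QuotientGroup.mk' W).comp U.subtype).ker
  rw [Subgroup.index_ker, e] at hc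
  rw [← hc, mul_comm]
  refine congrArg (· * _) (Nat.card_congr ?_)
  exact
    { toFun := fun w => ⟨⟨w, hWU w.2⟩, (QuotientGroup.eq_one_iff _).2 w.2⟩
      invFun := fun u => ⟨u.1.1, (QuotientGroup.eq_one_iff _).1 u.2⟩
      left_inv := fun _ => rfl
      right_inv := fun _ => rfl }

variable [hUn : U.Normal]

/-- Conjugation on the section. -/
def conjFun (g : G) (m : Sec U W h) : Sec U W h :=
  Additive.ofMul
    (⟨QuotientGroup.mk' W g * (Additive.toMul (α := ↥(U.map (QuotientGroup.mk' W))) m).1 * (QuotientGroup.mk' W g)⁻¹,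
      (hUn.map _ (QuotientGroup.mk'_surjective W)).conj_mem _ (Additive.toMul (α := ↥(U.map (QuotientGroup.mk' W))) m).2 _⟩ :
      ↥(U.map (QuotientGroup.mk' W)))

theorem conjFun_mk (g : G) {u : G} (hu : u ∈ U) :
    conjFun g (mk h u hu) = mk h (g * u * g⁻¹) (hUn.conj_mem u hu g) :=
  congrArg Additive.ofMul (Subtype.ext (by
    show QuotientGroup.mk' W g * QuotientGroup.mk' W u * (QuotientGroup.mk' W g)⁻¹ = QuotientGroup.mk' W (g * u * g⁻¹)
    rw [map_mul, map_mul, map_inv]))

instance instAct : DistribMulAction G (Sec U W h) where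
  smul := conjFun
  one_smul m := by
    obtain ⟨u, hu, rfl⟩ := surj m
    show conjFun 1 _ = _
    rw [conjFun_mk]
    exact (mk_eq_iff _ _).2 (by simp [W.one_mem])
  mul_smul a b m := by
    obtain ⟨u, hu, rfl⟩ := surj m
    show conjFun (a * b) _ = conjFun a (conjFun b _)
    rw [conjFun_mk, conjFun_mk, conjFun_mk]
    exact mk_congr _ (by group)
  smul_zero a := by
    show conjFun a (0 : Sec U W h) = 0
    rw [← mk_one, conjFun_mk]
    exact (mk_eq_zero _).2 (by simp [W.one_mem])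
  smul_add a m m' := by
    obtain ⟨u, hu, rfl⟩ := surj m
    obtain ⟨v, hv, rfl⟩ := surj m'
    show conjFun a _ = conjFun a _ + conjFun a _
    rw [← mk_mul, conjFun_mk, conjFun_mk, conjFun_mk, ← mk_mul]
    exact mk_congr _ (by group)

theorem smul_mk (g : G) {u : G} (hu : u ∈ U) :
    g • mk h u hu = mk h (g * u * g⁻¹) (hUn.conj_mem u hu g) := conjFun_mk g hu

theorem comm_mem (g : G) {u : G} (hu : u ∈ U) : ⁅g, u⁆ ∈ U := by
  rw [commutatorElement_def]
  exact U.mul_mem (hUn.conj_mem u hu g) (U.inv_mem hu)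

theorem mk_comm (g : G) {u : G} (hu : u ∈ U) :
    mk h ⁅g, u⁆ (comm_mem g hu) = g • mk h u hu - mk h u hu := by
  rw [smul_mk, sub_eq_add_neg, ← mk_inv, ← mk_mul]
  exact mk_congr _ (commutatorElement_def g u)

theorem smul_eq_iff (g : G) {u : G} (hu : u ∈ U) :
    g • mk h u hu = mk h u hu ↔ ⁅g, u⁆ ∈ W := by
  rw [← sub_eq_zero, ← mk_comm, mk_eq_zero]

theorem smul_eq_iff' (g : G) {u : G} (hu : u ∈ U) :
    g • mk h u hu = mk h u hu ↔ ⁅u, g⁆ ∈ W := by
  rw [smul_eq_iff, ← commutatorElement_inv u g, inv_mem_iff]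

end Sec

end CfsgLib.PushingUp
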