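/-
Common tools for the two cases of the pushing-up theorem: the natural module on V/N, the kernel of the
representation, and natural sections.
-/
import Mathlib
import Cfsg.Agent.Lib.Coprime.Commutator
import Cfsg.Agent.Lib.PushingUp.Section
import Cfsg.Agent.Lib.PushingUp.Natural

set_option autoImplicit false
set_option linter.style.haveILetI false

open scoped commutatorElement MatrixGroups

namespace CfsgLib.PushingUp

open Cfsg CfsgLib.LocalEven.NaturalRecognition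

variable {G : Type*} [Group G]

local notation:max "𝐂(" R ")" => Subgroup.centralizer (SetLike.coe R)

local notation:max "𝐍(" R ")" => Subgroup.normalizer (SetLike.coe R)

/-- `x ∈ A` iff its class lies in a given additive subgroup of the section; then that has order `|A / W|`. -/
theorem Sec.card_of_iff [Finite G] {U W A : Subgroup G} [W.Normal] {h : ⁅U, U⁆ ≤ W} (hWA : W ≤ A) (hAU : A ≤ U)
    (X : AddSubgroup (Sec U W h)) (hX : ∀ u (hu : u ∈ U), Sec.mk h u hu ∈ X ↔ u ∈ A) :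
    Nat.card X * Nat.card W = Nat.card A := by
  have e := CfsgLib.Coprime.card_map_mul_inf_ker (QuotientGroup.mk' W) A
  rw [QuotientGroup.ker_mk', inf_eq_left.2 hWA] at e
  rw [← e]
  refine congrArg (· * _) (Nat.card_congr (Equiv.ofBijective
    (fun x : X => (⟨(Additive.toMul (α := ↥(U.map (QuotientGroup.mk' W))) x.1).1, by
      obtain ⟨u, hu, hx⟩ := Sec.surj x.1
      exact ⟨u, (hX u hu).1 (hx ▸ x.2), by rw [← hx]; rfl⟩⟩ : ↥(A.map (QuotientGroup.mk' W)))) ⟨?_, ?_⟩))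
  · intro x y hxy
    exact Subtype.ext (congrArg Additive.ofMul (Subtype.ext (Subtype.ext_iff.1 hxy :)))
  · rintro ⟨_, a, ha, rfl⟩
    exact ⟨⟨Sec.mk h a (hAU ha), (hX a _).2 ha⟩, rfl⟩

/-- `U / W` is a natural module for `ρ`. -/
def NatSec {F : Type} [Field F] (ρ : G →* SL(2, F)) (U W : Subgroup G) : Prop :=
  W ≤ U ∧ U.Normal ∧ W.Normal ∧ ∃ ψ : ↥U →* Multiplicative (Fin 2 → F), Function.Surjective ψ ∧
    (∀ u : ↥U, ψ u = 1 ↔ (u : G) ∈ W) ∧
    ∀ (g : G) (u v : ↥U), (v : G) = g * (u : G) * g⁻¹ →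
      Multiplicative.toAdd (ψ v) = (ρ g).1.mulVec (Multiplicative.toAdd (ψ u))

theorem natSec_of_sec {F : Type} [Field F] (ρ : G →* SL(2, F)) {U W : Subgroup G} [hU : U.Normal] [hW : W.Normal]
    {h : ⁅U, U⁆ ≤ W} (hWU : W ≤ U) (ψ : Sec U W h ≃+ (Fin 2 → F))
    (hψ : ∀ g (m : Sec U W h), ψ (g • m) = (ρ g).1.mulVec (ψ m)) : NatSec ρ U W := by
  refine ⟨hWU, hU, hW, MonoidHom.mk' (fun u => Multiplicative.ofAdd (ψ (Sec.mk h u.1 u.2))) ?_, ?_, ?_, ?_⟩
  · intro a b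
    show Multiplicative.ofAdd (ψ (Sec.mk h (a.1 * b.1) _)) = _
    rw [Sec.mk_mul, map_add, ofAdd_add]
  · intro v
    obtain ⟨u, hu, e⟩ := Sec.surj (ψ.symm v.toAdd)
    refine ⟨⟨u, hu⟩, ?_⟩
    show Multiplicative.ofAdd (ψ (Sec.mk h u hu)) = v
    rw [e, AddEquiv.apply_symm_apply, ofAdd_toAdd]
  · intro u
    show Multiplicative.ofAdd (ψ (Sec.mk h u.1 u.2)) = 1 ↔ _
    rw [ofAdd_eq_one, EmbeddingLike.map_eq_zero_iff]
    exact Sec.mk_eq_zero u.2
  · intro g u v e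
    show ψ (Sec.mk h v.1 v.2) = (ρ g).1.mulVec (ψ (Sec.mk h u.1 u.2))
    rw [← hψ, Sec.smul_mk]
    exact congrArg ψ (Sec.mk_congr _ e)

/-- The action of `G` on `A` modulo `B` is hypercentral. -/
def Hyper (A B : Subgroup G) : Prop := ∃ k : ℕ, iterCommutator A ⊤ k ≤ B

theorem mem_of_coprime [Finite G] {p : ℕ} [Fact p.Prime] {C T : Subgroup G} [C.Normal] (hT : IsPGroup p T)
    (htop : C ⊔ T = ⊤) {x : G} (hx : Nat.Coprime (orderOf x) p) : x ∈ C := by
  have hp' : IsPGroup p (G ⧸ C) := by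
    intro y
    obtain ⟨g, rfl⟩ := QuotientGroup.mk'_surjective C y
    obtain ⟨c, hc, t, ht, rfl⟩ := Subgroup.mem_sup_of_normal_left.1 (htop.ge (Subgroup.mem_top g))
    obtain ⟨k, hk⟩ := hT ⟨t, ht⟩
    refine ⟨k, ?_⟩
    rw [map_mul, show QuotientGroup.mk' C c = 1 from (QuotientGroup.eq_one_iff c).2 hc, one_mul, ← map_pow]
    rw [show t ^ p ^ k = 1 from congrArg Subtype.val hk, map_one]
  obtain ⟨k, hk⟩ := hp' (QuotientGroup.mk' C x)
  refine (QuotientGroup.eq_one_iff x).1 (orderOf_eq_one_iff.1 ?_)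
  refine Nat.eq_one_of_dvd_coprimes (hx.pow_right k) (orderOf_map_dvd (QuotientGroup.mk' C) x) ?_
  exact orderOf_dvd_of_pow_eq_one hk

/-- An element of order prime to `p` trivial on a series is trivial. -/
theorem commute_of_series [Finite G] {p : ℕ} [hp : Fact p.Prime] {A B : Subgroup G} (hA : IsPGroup p A)
    (hBA : B ≤ A) {x : G} (hx : Nat.Coprime (orderOf x) p) (hn : x ∈ 𝐍(A)) (hB : x ∈ 𝐂(B))
    (hAB : ∀ a ∈ A, ⁅x, a⁆ ∈ B) : x ∈ 𝐂(A) := by
  have hK : ∀ a ∈ A, a⁻¹ * (x * a * x⁻¹) ∈ B := fun a ha => by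
    have h2 := hAB a⁻¹ (A.inv_mem ha)
    have e : a⁻¹ * (x * a * x⁻¹) = ⁅x, a⁻¹⁆⁻¹ := by rw [commutatorElement_def]; group
    rw [e]; exact B.inv_mem h2
  let H : Submonoid G :=
    { carrier := {y | y ∈ 𝐍(A) ∧ y ∈ 𝐂(B) ∧ ∀ a ∈ A, a⁻¹ * (y * a * y⁻¹) ∈ B}
      one_mem' := ⟨Subgroup.one_mem _, Subgroup.one_mem _, fun a _ => by simp [B.one_mem]⟩
      mul_mem' := fun {y z} hy hz => ⟨Subgroup.mul_mem _ hy.1 hz.1, Subgroup.mul_mem _ hy.2.1 hz.2.1, fun a ha => by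
        have h1 := hz.2.2 a ha
        have h2 := hy.2.2 a ha
        have e : a⁻¹ * (y * z * a * (y * z)⁻¹) = a⁻¹ * (y * a * y⁻¹) * (y * (a⁻¹ * (z * a * z⁻¹)) * y⁻¹) := by group
        rw [e, ← Subgroup.mem_centralizer_iff.1 hy.2.1 _ h1, mul_inv_cancel_right]
        exact B.mul_mem h2 h1⟩ }
  have hz : ∀ y ∈ Subgroup.zpowers x, y ∈ H := fun y hy =>
    (Submonoid.powers_le.2 (show x ∈ H from ⟨hn, hB, hK⟩)) (mem_powers_iff_mem_zpowers.2 hy)
  have hcop : (Nat.card (Subgroup.zpowers x)).Coprime (Nat.card A) := by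
    obtain ⟨e, he⟩ := IsPGroup.iff_card.1 hA
    rw [Nat.card_zpowers, he]
    exact hx.pow_right e
  exact CfsgLib.Coprime.le_centralizer_of_trivial_on_series (Subgroup.zpowers x) A (fun y hy => (hz y hy).1)
    hcop (Or.inr (by
      haveI := hA.isNilpotent
      infer_instance)) B hBA (fun y hy => (hz y hy).2.1) (fun y hy => (hz y hy).2.2) (Subgroup.mem_zpowers x)

variable [Finite G] {p : ℕ} [hp : Fact p.Prime] {F : Type} [Field F] [Fintype F] {S : Subgroup G}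

/-- Data for the recognition lemma shared by all sections in `O_p(G)`. -/
theorem proj_data (hE : IsPushingUpSituation p S) (pr' : Proj p F S) {h₀ : G}
    (hh₀ : pr'.φ h₀ = Elation.pr F (wel 1)) {U W : Subgroup G} [U.Normal] [W.Normal] {h : ⁅U, U⁆ ≤ W}
    (hT : ∀ t ∈ pCore p G, ∀ u ∈ U, ⁅t, u⁆ ∈ W)
    (hfix : ∀ u ∈ U, (∀ g : G, ⁅g, u⁆ ∈ W) → u ∈ W)
    (hquad : ∀ s ∈ S, ∀ u ∈ U, ∀ s' ∈ S, ⁅s', ⁅s, u⁆⁆ ∈ W) {A : Subgroup G} (hWA : W ≤ A) (hAU : A ≤ U)
    (hA : ∀ u ∈ U, (∀ s ∈ S, ⁅s, u⁆ ∈ W) ↔ u ∈ A)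
    (hcardA : Nat.card A = Fintype.card F * Nat.card W) (hWU : W ≤ U)
    (hcardU : Nat.card U = Fintype.card F * Fintype.card F * Nat.card W) :
    Elation.Data (Sec U W h) pr'.φ S h₀ p := by
  have htriv : ∀ t ∈ pCore p G, ∀ m : Sec U W h, t • m = m := by
    intro t ht m
    obtain ⟨u, hu, rfl⟩ := Sec.surj m
    exact (Sec.smul_eq_iff t hu).2 (hT t ht u hu)
  refine ⟨pr'.up_mem, pr'.up_surj, hh₀, Proj.gen pr' hE, ?_, ?_, ?_, ?_, ?_, ?_⟩
  · intro s hs hφ
    obtain ⟨P, hP⟩ := hE.2.1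
    exact htriv s (inf_ker_le hE pr'.quot P ⟨hP.ge hs, hφ⟩)
  · exact fun k hk i hpow => htriv k (Proj.ker_mem pr' hE hk hpow)
  · intro m hm
    obtain ⟨u, hu, rfl⟩ := Sec.surj m
    exact (Sec.mk_eq_zero hu).2 (hfix u hu fun g => (Sec.smul_eq_iff g hu).1 (hm g))
  · intro s hs m s' hs'
    obtain ⟨u, hu, rfl⟩ := Sec.surj m
    rw [← Sec.mk_comm]
    exact (Sec.smul_eq_iff s' _).2 (hquad s hs u hu s' hs')
  · have e := Sec.card_of_iff hWA hAU (Elation.fixPts (Sec U W h) S) fun u hu => ?_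
    · rw [hcardA] at e
      rw [Nat.card_eq_fintype_card (α := F)]
      exact Nat.eq_of_mul_eq_mul_right Nat.card_pos e
    · rw [← hA u hu]
      exact ⟨fun hm s hs => (Sec.smul_eq_iff s hu).1 (hm s hs), fun hm s hs => (Sec.smul_eq_iff s hu).2 (hm s hs)⟩
  · have e := Sec.card_mul (h := h) hWU
    rw [hcardU] at e
    rw [Nat.card_eq_fintype_card (α := F)]
    exact Nat.eq_of_mul_eq_mul_right Nat.card_pos e

/-- The natural module `V / N`. -/
theorem vn_data (hE : IsPushingUpSituation p S) (pr' : Proj p F S) {h₀ : G}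
    (hh₀ : pr'.φ h₀ = Elation.pr F (wel 1)) {T V N : Subgroup G} [V.Normal] [N.Normal] (hT : T = pCore p G)
    (hb : Edge p (Fintype.card F) ⊤ S T V N) (h : ⁅V, V⁆ ≤ N) :
    Elation.Data (Sec V N h) pr'.φ S h₀ p := by
  subst hT
  have hN : N = V ⊓ Subgroup.center G := by
    rw [hb.N_eq, Subgroup.coe_top, Subgroup.centralizer_univ]
  have hZV := hb.Z_le
  have hNZ : N ≤ S ⊓ 𝐂(S) := by
    rw [hN]
    exact le_inf (inf_le_left.trans hb.V_le_E) (inf_le_right.trans (Subgroup.center_le_centralizer _))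
  have hcent : ∀ z ∈ S ⊓ 𝐂(S), ∀ s ∈ S, ⁅s, z⁆ ∈ N := fun z hz s hs => by
    rw [commutatorElement_eq_one_iff_commute.2 (Subgroup.mem_centralizer_iff.1 hz.2 s hs)]
    exact N.one_mem
  refine proj_data hE pr' hh₀ (A := S ⊓ 𝐂(S)) ?_ ?_ ?_ hNZ hZV ?_ hb.cardZ (hN ▸ inf_le_left) ?_
  · intro t ht u hu
    rw [commutatorElement_eq_one_iff_commute.2 (Subgroup.mem_centralizer_iff.1 (hb.V_cent hu) t ht)]
    exact N.one_mem
  · intro u hu hg
    rw [hN]
    refine ⟨hu, ?_⟩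
    obtain ⟨k, hk⟩ : ∃ k : G, S ⊔ S.map (MulAut.conj k).toMonoidHom = ⊤ := by
      obtain ⟨P, rfl⟩ := hE.2.1
      obtain ⟨R, hR⟩ := pr'.quot.exists_image_ne P
      obtain ⟨k, rfl⟩ := MulAction.exists_smul_eq G P R
      exact ⟨k, sup_eq_top hE pr'.quot P (k • P) (Ne.symm hR)⟩
    have hnot := hb.not_le
    obtain ⟨s, hs, hsT⟩ := SetLike.not_le_iff_exists.1 hnot
    have h1 : u ∈ 𝐂(S) := hb.fixed u hu s hs hsT (by
      rw [← commutatorElement_inv s u]; exact N.inv_mem (hg s))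
    have h2 : k⁻¹ * u * k ∈ 𝐂(S) := by
      refine hb.fixed _ ?_ s hs hsT ?_
      · simpa using (inferInstance : V.Normal).conj_mem u hu k⁻¹
      · have e : ⁅k⁻¹ * u * k, s⁆ = k⁻¹ * ⁅k * s * k⁻¹, u⁆⁻¹ * k := by
          simp only [commutatorElement_def]; group
        rw [e]
        simpa using (inferInstance : N.Normal).conj_mem _ (N.inv_mem (hg (k * s * k⁻¹))) k⁻¹
    have hle : S ⊔ S.map (MulAut.conj k).toMonoidHom ≤ Subgroup.centralizer ({u} : Set G) := by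
      refine sup_le (fun x hx => Subgroup.mem_centralizer_singleton_iff.2 (Subgroup.mem_centralizer_iff.1 h1 x hx)) ?_
      rintro _ ⟨x, hx, rfl⟩
      refine Subgroup.mem_centralizer_singleton_iff.2 ?_
      have e := Subgroup.mem_centralizer_iff.1 h2 x hx
      calc k * x * k⁻¹ * u = k * (x * (k⁻¹ * u * k)) * k⁻¹ := by group
        _ = _ := by rw [e]; show k * (k⁻¹ * u * k * x) * k⁻¹ = u * (k * x * k⁻¹); group
    rw [hk] at hle
    exact Subgroup.mem_center_iff.2 fun g => Subgroup.mem_centralizer_singleton_iff.1 (hle (Subgroup.mem_top g))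
  · intro s hs u hu s' hs'
    refine hcent _ ?_ s' hs'
    rw [← commutatorElement_inv u s]
    exact Subgroup.inv_mem _ (hb.comm (Subgroup.commutator_mem_commutator hu hs))
  · intro u hu
    refine ⟨fun hf => ⟨hb.V_le_E hu, ?_⟩, fun hz s hs => hcent u hz s hs⟩
    obtain ⟨s, hs, hsT⟩ := SetLike.not_le_iff_exists.1 hb.not_le
    exact hb.fixed u hu s hs hsT (by rw [← commutatorElement_inv s u]; exact N.inv_mem (hf s hs))
  · rw [hb.cardV, hb.cardZ]; ring

/-- The kernel is `O_p(G)`. -/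
theorem ker_eq_core {F' : Type*} [Group F'] (hE : IsPushingUpSituation p S) (ρ : G →* F')
    (hT : ∀ t ∈ pCore p G, ρ t = 1)
    (h : ∀ x : G, ρ x = 1 → Nat.Coprime (orderOf x) p → x ∈ 𝐂(pCore p G)) : ρ.ker = pCore p G := by
  refine le_antisymm ?_ (fun t ht => hT t ht)
  refine CfsgLib.PCore.le_pCore ρ.normal_ker fun g => ?_
  obtain ⟨i, m, hm, hord⟩ := Nat.exists_eq_pow_mul_and_not_dvd (orderOf_pos g).ne' p hp.out.ne_one
  refine ⟨i, ?_⟩
  set x : G := (g : G) ^ p ^ i with hxdef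
  have hxm : x ^ m = 1 := by
    rw [hxdef, ← pow_mul, ← hord]
    exact_mod_cast congrArg Subtype.val (pow_orderOf_eq_one g)
  have hcop : Nat.Coprime (orderOf x) p :=
    Nat.Coprime.coprime_dvd_left (orderOf_dvd_of_pow_eq_one hxm) ((hp.out.coprime_iff_not_dvd.2 hm).symm)
  have hxT : x ∈ pCore p G :=
    centralizer_pCore_le hE (h x (by rw [hxdef, map_pow, show ρ (g : G) = 1 from g.2, one_pow]) hcop)
  obtain ⟨j, hj⟩ := CfsgLib.PCore.pCore_isPGroup (⟨x, hxT⟩ : ↥(pCore p G))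
  have hx1 : x = 1 := by
    refine orderOf_eq_one_iff.1 (Nat.eq_one_of_dvd_coprimes (hcop.pow_right j) dvd_rfl ?_)
    exact orderOf_dvd_of_pow_eq_one (congrArg Subtype.val hj)
  exact Subtype.ext (by rw [Subgroup.coe_pow, Subgroup.coe_one, ← hxdef]; exact hx1)

/-- An automorphism-invariant subgroup of `S` meeting `Z(S)` only in central elements is trivial. -/
theorem eq_bot_of_hd (hE : IsPushingUpSituation p S) (hd : HD S) {D : Subgroup G} (hDS : D ≤ S)
    (hinv : AutInv S D) (hn : S ≤ 𝐍(D)) (hc : D ⊓ (S ⊓ 𝐂(S)) ≤ Subgroup.center G) : D = ⊥ := by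
  refine eq_bot_of_inf_center (isPGroup_self hE) hDS hn ?_
  by_contra hne
  exact hd _ (inf_le_left.trans hDS) hne (autInv_inf hinv (autInv_centralizer (autInv_self S) le_rfl))
    (normal_of_le_center hc)

omit [Finite G] in
theorem lowerCentral_facts (S : Subgroup G) (n : ℕ) :
    S.lowerCentralSeries n ≤ S ∧ AutInv S (S.lowerCentralSeries n) ∧ S ≤ 𝐍(S.lowerCentralSeries n) := by
  refine ⟨?_, ?_, S.self_le_normalizer_lowerCentralSeries n⟩
  · exact S.lowerCentralSeries_antitone (Nat.zero_le n)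
  · induction n with
    | zero => exact autInv_self S
    | succ n ih => exact autInv_commutator ih (S.lowerCentralSeries_antitone (Nat.zero_le n))

/-- The subgroup generated by the `N`-th powers of `S`. -/
def powGen (S : Subgroup G) (N : ℕ) : Subgroup G := Subgroup.closure {y | ∃ x ∈ S, y = x ^ N}

omit [Finite G] in
theorem powGen_facts (S : Subgroup G) (N : ℕ) :
    powGen S N ≤ S ∧ AutInv S (powGen S N) ∧ S ≤ 𝐍(powGen S N) := by
  have hsub : {y | ∃ x ∈ S, y = x ^ N} ⊆ (S : Set G) := by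
    rintro _ ⟨x, hx, rfl⟩; exact S.pow_mem hx N
  refine ⟨(Subgroup.closure_le _).2 hsub, autInv_closure hsub ?_, ?_⟩
  · rintro α y ⟨x, hx, e⟩
    refine ⟨_, (α ⟨x, hx⟩).2, ?_⟩
    rw [show y = (⟨x, hx⟩ : ↥S) ^ N from Subtype.ext e, map_pow]
    rfl
  · refine Subgroup.le_normalizer_iff.2 fun s hs k hk => ?_
    have hle : powGen S N ≤ (powGen S N).comap (MulAut.conj s).toMonoidHom := by
      refine (Subgroup.closure_le _).2 ?_
      rintro _ ⟨x, hx, rfl⟩
      show s * x ^ N * s⁻¹ ∈ powGen S N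
      rw [← conj_pow]
      exact Subgroup.subset_closure ⟨_, S.mul_mem (S.mul_mem hs hx) (S.inv_mem hs), rfl⟩
    exact hle hk

omit [Finite G] in
theorem exponent_dvd_of_powGen {S : Subgroup G} {N : ℕ} (h : powGen S N = ⊥) : Monoid.exponent ↥S ∣ N :=
  Monoid.exponent_dvd_of_forall_pow_eq_one fun x => Subtype.ext (by
    have hx : (x : G) ^ N ∈ powGen S N := Subgroup.subset_closure ⟨x, x.2, rfl⟩
    rw [h, Subgroup.mem_bot] at hx
    rw [Subgroup.coe_pow, hx, Subgroup.coe_one])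

end CfsgLib.PushingUp
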