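/-
Case I of the pushing-up theorem: a conjugate of the small member of the large pair is not contained in O_p(G).
-/
import Mathlib
import Cfsg.Agent.Lib.PushingUp.CaseCommon

set_option autoImplicit false
set_option linter.style.haveILetI false

open scoped commutatorElement MatrixGroups

namespace CfsgLib.PushingUp

open Cfsg CfsgLib.LocalEven.NaturalRecognition

variable {G : Type*} [Group G]

local notation:max "𝐂(" R ")" => Subgroup.centralizer (SetLike.coe R)

local notation:max "𝐍(" R ")" => Subgroup.normalizer (SetLike.coe R)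

/-- The conclusion in case I. -/
def OutI (p : ℕ) (F : Type) [Field F] (S : Subgroup G) : Prop :=
  S.lowerCentralSeries 2 = ⊥ ∧ S.lowerCentralSeries 1 ≠ ⊥ ∧
    (p = 2 → Monoid.exponent ↥S = 4) ∧ (p ≠ 2 → Monoid.exponent ↥S = p) ∧
    ∃ (ρ : G →* SL(2, F)) (V N L : Subgroup G), Function.Surjective ρ ∧ ρ.ker = pCore p G ∧ NatSec ρ V N ∧
      Hyper N ⊥ ∧ Hyper (pCore p G) V ∧ V ≤ pCore p G ∧ V ≤ 𝐂(pCore p G) ∧ (∀ v ∈ V, v ^ p = 1) ∧
      N ≤ Subgroup.center G ∧ L.Normal ∧ L ⊔ pCore p G = ⊤ ∧ ⁅pCore p G, L⁆ ≤ V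

/-- Powers of a product when the commutator commutes with both factors. -/
theorem mul_pow_of_comm {a b c : G} (hba : b * a = c * (a * b)) (hca : Commute c a) (hcb : Commute c b) :
    ∀ n : ℕ, (a * b) ^ n = c ^ (n.choose 2) * (a ^ n * b ^ n) := by
  have hbn : ∀ n : ℕ, b ^ n * a = c ^ n * (a * b ^ n) := by
    intro n
    induction n with
    | zero => simp
    | succ n ih =>
      calc b ^ (n + 1) * a = b ^ n * (b * a) := by rw [pow_succ, mul_assoc]
        _ = b ^ n * c * a * b := by rw [hba]; group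
        _ = c * (b ^ n * a) * b := by rw [← (hcb.pow_right n).eq]; group
        _ = c * c ^ n * (a * (b ^ n * b)) := by rw [ih]; group
        _ = _ := by rw [← pow_succ', ← pow_succ]
  intro n
  induction n with
  | zero => simp
  | succ n ih =>
    calc (a * b) ^ (n + 1) = c ^ (n.choose 2) * a ^ n * (b ^ n * a) * b := by rw [pow_succ, ih]; group
      _ = c ^ (n.choose 2) * (a ^ n * c ^ n) * a * b ^ n * b := by rw [hbn]; group
      _ = c ^ (n.choose 2) * (c ^ n * a ^ n) * a * b ^ n * b := by rw [(hca.pow_pow n n).eq]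
      _ = c ^ (n.choose 2) * c ^ n * ((a ^ n * a) * (b ^ n * b)) := by group
      _ = _ := by rw [← pow_add, ← pow_succ, ← pow_succ, Nat.choose_succ_succ n 1, Nat.choose_one_right, add_comm (n.choose 2)]

variable [Finite G] {p : ℕ} [hp : Fact p.Prime] {F : Type} [Field F] [Fintype F] {S : Subgroup G}

/-- The configuration of case I. -/
theorem caseOne_cfg (hE : IsPushingUpSituation p S) (pr' : Proj p F S) {T V N : Subgroup G} [V.Normal]
    [N.Normal] (hT : T = pCore p G) (hb : Edge p (Fintype.card F) ⊤ S T V N) {q' : ℕ} {T' V' : Subgroup G}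
    (hs : Side p q' S T' V') (hV' : ¬ V' ≤ T) :
    ∃ (L : Subgroup G) (ρ : G →* SL(2, F)), Function.Surjective ρ ∧ ρ.ker = pCore p G ∧ NatSec ρ V N ∧
      L.Normal ∧ L ⊔ pCore p G = ⊤ ∧ V' ≤ L ∧ V' ⊔ pCore p G = S ∧
      pCore p G = V ⊔ (pCore p G ⊓ 𝐂(L)) := by
  subst hT
  set T := pCore p G with hTdef
  haveI : T.Normal := pCore_normal p G
  haveI : CharP F p := charP_of_card_eq_prime_pow pr'.hF
  set q := Fintype.card F with hq
  have hTS : T ≤ S := pCore_le hE
  have hVS := hb.V_le_E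
  have hV'S := hs.V_le_E
  have hN : N = V ⊓ Subgroup.center G := by rw [hb.N_eq, Subgroup.coe_top, Subgroup.centralizer_univ]
  have hNc : N ≤ Subgroup.center G := hN ▸ inf_le_right
  have hncV : ¬ V ≤ 𝐂(V') := fun h => hV' (by
    rw [← hb.CV]; exact le_inf hV'S (Subgroup.le_centralizer_iff.1 h))
  obtain ⟨-, hVT', hV'T, eV, eV', hR, hVSc⟩ := hb.toSide.crit hs hVS hV'S hncV
  set Z := S ⊓ 𝐂(S) with hZ
  rw [le_inf_iff] at hR
  replace hR : ⁅V, V'⁆ ≤ Z := hR.1
  have hVcomm : V ≤ 𝐂(V) := hb.V_comm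
  have hV'comm : V' ≤ 𝐂(V') := hs.V_comm
  obtain ⟨h₀, hh₀⟩ := pr'.surj (Elation.pr F (wel 1))
  have hgen : S ⊔ S.map (MulAut.conj h₀).toMonoidHom = ⊤ := by
    obtain ⟨s, hs1, hsφ⟩ := pr'.up_surj 1
    refine Proj.gen pr' hE h₀ ⟨s, hs1, fun t e => ?_⟩
    rw [map_mul, map_mul, map_inv, hh₀, hsφ, ← map_inv, ← map_mul, ← map_mul,
      Elation.conj_wel_up one_ne_zero] at e
    have := Elation.entry_eq_zero e (Elation.entry_up t)
    rw [Elation.entry_lo] at this
    simp at this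
  -- L
  set V'h := V'.map (MulAut.conj h₀).toMonoidHom with hV'h
  set L := V' ⊔ V'h with hL
  have hTh : T.map (MulAut.conj h₀).toMonoidHom = T :=
    Subgroup.mem_normalizer_iff_map_conj_eq.1
      ((Subgroup.normalizer_eq_top_iff.2 (inferInstance : T.Normal)).ge (Subgroup.mem_top h₀))
  have hLT : L ⊔ T = ⊤ := by
    rw [eq_top_iff, ← hgen]
    refine sup_le ?_ ?_
    · rw [← hV'T]; exact sup_le_sup_right le_sup_left _
    · rw [← hV'T, Subgroup.map_sup, hTh]; exact sup_le_sup_right le_sup_right _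
  have hTnL : T ≤ 𝐍(L) := by
    refine Subgroup.le_normalizer_iff.2 fun t ht y hy => ?_
    have hle : L ≤ L.comap (MulAut.conj t).toMonoidHom := by
      refine sup_le (fun v hv => Subgroup.mem_sup_left ((Subgroup.mem_normalizer_iff.1 (hs.nV (hTS ht)) v).1 hv)) ?_
      rintro _ ⟨v, hv, rfl⟩
      refine Subgroup.mem_sup_right ?_
      have ht' : h₀⁻¹ * t * h₀ ∈ T := by simpa using (inferInstance : T.Normal).conj_mem t ht h₀⁻¹
      refine ⟨(h₀⁻¹ * t * h₀) * v * (h₀⁻¹ * t * h₀)⁻¹, (Subgroup.mem_normalizer_iff.1 (hs.nV (hTS ht')) v).1 hv, ?_⟩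
      show h₀ * _ * h₀⁻¹ = t * (h₀ * v * h₀⁻¹) * t⁻¹
      group
    exact hle hy
  haveI hLn : L.Normal := by
    rw [← Subgroup.normalizer_eq_top_iff, eq_top_iff, ← hLT]
    exact sup_le Subgroup.le_normalizer hTnL
  set M := T ⊓ 𝐂(L) with hM
  haveI hMn : M.Normal := by rw [hM]; infer_instance
  -- orders
  set D := T ⊓ 𝐂(V') with hD
  have hDT' : D = T ⊓ T' := by
    rw [hD, ← hs.CV, ← inf_assoc, inf_eq_left.2 hTS]
  have hTdec : T = V ⊔ D := by
    refine le_antisymm (fun x hx => ?_) (sup_le hb.V_le inf_le_left)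
    obtain ⟨v, hv, t, ht, rfl⟩ := CfsgLib.Coprime.exists_mul_of_mem_sup (hVS.trans hs.nT)
      (hVT'.ge (hTS hx))
    refine Subgroup.mul_mem_sup hv ?_
    rw [hDT']
    exact ⟨by simpa using T.mul_mem (T.inv_mem (hb.V_le hv)) hx, ht⟩
  have hcardD : Nat.card T = q * Nat.card D := by
    have e := CfsgLib.Coprime.card_sup_mul_card_inf (H := V) (N := D)
      (hVS.trans (by
        rw [hDT']
        refine (Subgroup.le_normalizer_iff (H := S) (K := T ⊓ T')).2 fun a ha k hk => ?_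
        exact ⟨(Subgroup.mem_normalizer_iff.1 (hb.nT ha) k).1 hk.1,
          (Subgroup.mem_normalizer_iff.1 (hs.nT ha) k).1 hk.2⟩))
    rw [← hTdec] at e
    have hinf : D ⊓ V = Z := by
      rw [hDT', inf_right_comm, inf_eq_right.2 hb.V_le, eV]
    rw [hinf, hb.cardV] at e
    exact Nat.eq_of_mul_eq_mul_right (Nat.card_pos (α := Z)) (by rw [e]; ring)
  set Dh := T ⊓ 𝐂(V'h) with hDh
  have hcardDh : Nat.card Dh = Nat.card D := by
    rw [← Subgroup.card_map_of_injective (f := (MulAut.conj h₀).toMonoidHom) (MulAut.conj h₀).injective (K := D), hD,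
      Subgroup.map_inf _ _ _ (show Function.Injective (MulAut.conj h₀).toMonoidHom from (MulAut.conj h₀).injective),
      CfsgLib.LocalEvenSix.centralizer_map_mulEquiv (MulAut.conj h₀) V', hTh]
  have hMeq : M = D ⊓ Dh := by
    rw [hM, hL, CfsgLib.ChermakDelgado.centralizer_sup, hD, hDh]
    exact le_antisymm (le_inf (le_inf inf_le_left (inf_le_right.trans inf_le_left))
      (le_inf inf_le_left (inf_le_right.trans inf_le_right)))
      (le_inf (inf_le_left.trans inf_le_left) (le_inf (inf_le_left.trans inf_le_right) (inf_le_right.trans inf_le_right)))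
  have hcardM : Nat.card T ≤ q * q * Nat.card M := by
    have h1 := CfsgLib.Offender.card_mul_card_le (R := T) (S := D) (T := Dh) inf_le_left inf_le_left
    rw [hcardDh, ← hMeq, hcardD] at h1
    rw [hcardD]
    have h2 : Nat.card D ≤ q * Nat.card M := by
      refine Nat.le_of_mul_le_mul_left ?_ (Nat.card_pos (α := D))
      calc Nat.card D * Nat.card D ≤ q * Nat.card D * Nat.card M := h1
        _ = _ := by ring
    rw [mul_assoc]
    exact Nat.mul_le_mul_left _ h2
  have hcentral : ∀ {z : G}, z ∈ 𝐂(L) → z ∈ 𝐂(T) → z ∈ Subgroup.center G := by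
    intro z h1 h2
    have hle : L ⊔ T ≤ Subgroup.centralizer ({z} : Set G) :=
      sup_le (fun x hx => Subgroup.mem_centralizer_singleton_iff.2 (Subgroup.mem_centralizer_iff.1 h1 x hx))
        (fun x hx => Subgroup.mem_centralizer_singleton_iff.2 (Subgroup.mem_centralizer_iff.1 h2 x hx))
    rw [hLT] at hle
    exact Subgroup.mem_center_iff.2 fun g => Subgroup.mem_centralizer_singleton_iff.1 (hle (Subgroup.mem_top g))
  have hVM : M ⊓ V = N := by
    refine le_antisymm (fun v hv => ?_) ?_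
    · rw [hN]; exact ⟨hv.2, hcentral hv.1.2 (hb.V_cent hv.2)⟩
    · rw [hN]
      exact le_inf (le_inf (inf_le_left.trans hb.V_le) (inf_le_right.trans (Subgroup.center_le_centralizer _))) inf_le_left
  have hTVM : T = V ⊔ M := by
    refine (Subgroup.eq_of_le_of_card_ge (sup_le hb.V_le inf_le_left) ?_).symm
    have e := CfsgLib.Coprime.card_sup_mul_card_inf (H := V) (N := M)
      ((le_top : V ≤ ⊤).trans (Subgroup.normalizer_eq_top_iff.2 hMn).ge)
    rw [hVM, hb.cardV, hb.cardZ] at e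
    refine Nat.le_of_mul_le_mul_right ?_ (Nat.card_pos (α := N))
    calc Nat.card T * Nat.card N ≤ q * q * Nat.card M * Nat.card N := Nat.mul_le_mul_right _ hcardM
      _ = Nat.card ↥(V ⊔ M) * Nat.card N := by rw [e]; ring
  -- the module
  have hVV : ⁅V, V⁆ ≤ N := by rw [Subgroup.commutator_eq_bot_iff_le_centralizer.2 hVcomm]; exact bot_le
  have hdata := vn_data hE pr' hh₀ rfl hb hVV
  obtain ⟨ρ, ψ, hρ, hψ, -, hker, -, -, -, -⟩ := hdata.exists_equiv
  have hker' : ρ.ker = T := by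
    refine ker_eq_core hE ρ (fun t ht => (hker t).2 fun m => ?_) fun x hx hcop => ?_
    · obtain ⟨u, hu, rfl⟩ := Sec.surj m
      refine (Sec.smul_eq_iff t hu).2 ?_
      rw [commutatorElement_eq_one_iff_commute.2 (Subgroup.mem_centralizer_iff.1 (hb.V_cent hu) t ht)]
      exact N.one_mem
    · have hxV : x ∈ 𝐂(V) := by
        refine commute_of_series (hb.isP.to_le hVS) (B := N) (hN ▸ inf_le_left) hcop
          ((Subgroup.normalizer_eq_top_iff.2 inferInstance).ge (Subgroup.mem_top x))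
          (Subgroup.mem_centralizer_iff.2 fun z hz => (Subgroup.mem_center_iff.1 (hNc hz) x).symm) fun v hv => ?_
        exact (Sec.smul_eq_iff x hv).1 ((hker x).1 hx (Sec.mk hVV v hv))
      have hxM : x ∈ 𝐂(M) := by
        refine mem_of_coprime (C := 𝐂(M)) (hb.isP.to_le hTS) ?_ hcop
        rw [eq_top_iff, ← hLT]
        exact sup_le_sup_right (Subgroup.le_centralizer_iff.1 inf_le_right) _
      show x ∈ 𝐂(T)
      rw [hTVM, CfsgLib.ChermakDelgado.centralizer_sup]
      exact ⟨hxV, hxM⟩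
  exact ⟨L, ρ, hρ, hker', natSec_of_sec ρ (hN ▸ inf_le_left) ψ hψ, hLn, hLT, le_sup_left, hV'T, hTVM⟩

theorem caseOne (hE : IsPushingUpSituation p S) (hd : HD S) (pr' : Proj p F S) {T V N : Subgroup G} [V.Normal]
    [N.Normal] (hT : T = pCore p G) (hb : Edge p (Fintype.card F) ⊤ S T V N) {q' : ℕ} {T' V' : Subgroup G}
    (hs : Side p q' S T' V') (hV' : ¬ V' ≤ T) : OutI p F S := by
  subst hT
  set T := pCore p G with hTdef
  haveI : T.Normal := pCore_normal p G
  haveI : CharP F p := charP_of_card_eq_prime_pow pr'.hF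
  set q := Fintype.card F with hq
  have hTS : T ≤ S := pCore_le hE
  have hVS := hb.V_le_E
  have hV'S := hs.V_le_E
  have hN : N = V ⊓ Subgroup.center G := by rw [hb.N_eq, Subgroup.coe_top, Subgroup.centralizer_univ]
  have hNc : N ≤ Subgroup.center G := hN ▸ inf_le_right
  have hncV : ¬ V ≤ 𝐂(V') := fun h => hV' (by
    rw [← hb.CV]; exact le_inf hV'S (Subgroup.le_centralizer_iff.1 h))
  obtain ⟨-, hVT', hV'T, eV, eV', hR, hVSc⟩ := hb.toSide.crit hs hVS hV'S hncV
  set Z := S ⊓ 𝐂(S) with hZ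
  rw [le_inf_iff] at hR
  replace hR : ⁅V, V'⁆ ≤ Z := hR.1
  have hVcomm : V ≤ 𝐂(V) := hb.V_comm
  have hV'comm : V' ≤ 𝐂(V') := hs.V_comm
  obtain ⟨L, ρ, hρ, hker', hnat, hLn, hLT, hV'L, -, hTVM⟩ := caseOne_cfg hE pr' rfl hb hs hV'
  haveI := hLn
  set M := T ⊓ 𝐂(L) with hM
  haveI hMn : M.Normal := by rw [hM]; infer_instance
  replace hTVM : T = V ⊔ M := hTVM
  replace hLT : L ⊔ T = ⊤ := hLT
  have hcentral : ∀ {z : G}, z ∈ 𝐂(L) → z ∈ 𝐂(T) → z ∈ Subgroup.center G := by
    intro z h1 h2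
    have hle : L ⊔ T ≤ Subgroup.centralizer ({z} : Set G) :=
      sup_le (fun x hx => Subgroup.mem_centralizer_singleton_iff.2 (Subgroup.mem_centralizer_iff.1 h1 x hx))
        (fun x hx => Subgroup.mem_centralizer_singleton_iff.2 (Subgroup.mem_centralizer_iff.1 h2 x hx))
    rw [hLT] at hle
    exact Subgroup.mem_center_iff.2 fun g => Subgroup.mem_centralizer_singleton_iff.1 (hle (Subgroup.mem_top g))
  have hVM : M ⊓ V = N := by
    refine le_antisymm (fun v hv => ?_) ?_
    · rw [hN]; exact ⟨hv.2, hcentral hv.1.2 (hb.V_cent hv.2)⟩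
    · rw [hN]
      exact le_inf (le_inf (inf_le_left.trans hb.V_le) (inf_le_right.trans (Subgroup.center_le_centralizer _))) inf_le_left
  set W := V' ⊔ V with hW
  have hSWM : S = W ⊔ M := by rw [hW, sup_assoc, ← hTVM, hV'T]
  have hMW : M ≤ 𝐂(W) := by
    rw [hW, CfsgLib.ChermakDelgado.centralizer_sup]
    exact le_inf (inf_le_right.trans (Subgroup.centralizer_le (SetLike.coe_subset_coe.2 hV'L)))
      (inf_le_left.trans hb.T_cent)
  have hZc : S ≤ 𝐂(Z) := Subgroup.le_centralizer_iff.1 inf_le_right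
  have hnormM : ∀ {X : Subgroup G}, X.Normal → S ≤ 𝐍(X) := fun h =>
    (le_top : S ≤ ⊤).trans (Subgroup.normalizer_eq_top_iff.2 h).ge
  have hZn : S ≤ 𝐍(Z) := hZc.trans (Subgroup.centralizer_le_normalizer _)
  have hWW : ⁅W, W⁆ ≤ Z := by
    have h1 : ⁅V', W⁆ ≤ Z := commutator_sup_le
      (by rw [Subgroup.commutator_eq_bot_iff_le_centralizer.2 hV'comm]; exact bot_le)
      (by rw [Subgroup.commutator_comm]; exact hR)
      ((sup_le hV'S hVS).trans hZn)
    have h2 : ⁅V, W⁆ ≤ Z := commutator_sup_le hR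
      (by rw [Subgroup.commutator_eq_bot_iff_le_centralizer.2 hVcomm]; exact bot_le)
      ((sup_le hV'S hVS).trans hZn)
    rw [hW, Subgroup.commutator_comm]
    exact commutator_sup_le (by rw [Subgroup.commutator_comm]; exact h1) (by rw [Subgroup.commutator_comm]; exact h2)
      ((sup_le hV'S hVS).trans hZn)
  set M2 := ⁅M, M⁆ with hM2
  set R := Z ⊔ M2 with hRdef
  haveI : M2.Normal := by rw [hM2]; infer_instance
  have hRn : S ≤ 𝐍(R) := fun x hx => Subgroup.le_normalizer_iff.2 (fun s hs' k hk => by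
    have hle : R ≤ R.comap (MulAut.conj s).toMonoidHom := sup_le
      (fun z hz => Subgroup.mem_sup_left ((Subgroup.mem_normalizer_iff.1 (hZn hs') z).1 hz))
      (fun z hz => Subgroup.mem_sup_right ((inferInstance : M2.Normal).conj_mem z hz s))
    exact hle hk) hx
  have hWMbot : ⁅W, M⁆ = ⊥ :=
    Subgroup.commutator_eq_bot_iff_le_centralizer.2 (Subgroup.le_centralizer_iff.1 hMW)
  have hWS : W ≤ S := sup_le hV'S hVS
  have hMS : M ≤ S := inf_le_left.trans hTS
  have hS2 : ⁅S, S⁆ ≤ R := by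
    have h1 : ⁅W, S⁆ ≤ R := by
      conv_lhs => rw [hSWM]
      exact commutator_sup_le (hWW.trans le_sup_left) (by rw [hWMbot]; exact bot_le) (hSWM ▸ hRn)
    have h2 : ⁅M, S⁆ ≤ R := by
      conv_lhs => rw [hSWM]
      exact commutator_sup_le (by rw [Subgroup.commutator_comm, hWMbot]; exact bot_le) le_sup_right (hSWM ▸ hRn)
    calc ⁅S, S⁆ = ⁅S, W ⊔ M⁆ := by rw [← hSWM]
      _ ≤ R := commutator_sup_le (by rw [Subgroup.commutator_comm]; exact h1)
        (by rw [Subgroup.commutator_comm]; exact h2) (hSWM ▸ hRn)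
  have hM3S : ⁅⁅S, S⁆, S⁆ ≤ ⁅M2, M⁆ := by
    haveI : (⁅M2, M⁆).Normal := by infer_instance
    refine (Subgroup.commutator_mono hS2 le_rfl).trans ?_
    rw [Subgroup.commutator_comm]
    refine commutator_sup_le ?_ ?_ ((sup_le inf_le_left ((Subgroup.commutator_le_self M).trans hMS)).trans
      (hnormM inferInstance))
    · rw [Subgroup.commutator_eq_bot_iff_le_centralizer.2 hZc]; exact bot_le
    · rw [Subgroup.commutator_comm]
      conv_lhs => rw [hSWM]
      refine commutator_sup_le ?_ le_rfl (hSWM ▸ hnormM inferInstance)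
      rw [Subgroup.commutator_eq_bot_iff_le_centralizer.2 ((Subgroup.commutator_le_self M).trans hMW)]
      exact bot_le
  have hM3M : ⁅M2, M⁆ ≤ M := (Subgroup.commutator_le_sup _ _).trans (sup_le (Subgroup.commutator_le_self M) le_rfl)
  have hsmall : ∀ D' : Subgroup G, D' ≤ S → AutInv S D' → S ≤ 𝐍(D') → D' ≤ M → D' = ⊥ := fun D' h1 h2 h3 h4 =>
    eq_bot_of_hd hE hd h1 h2 h3 fun z hz => hcentral (h4 hz.1).2
      (Subgroup.centralizer_le (SetLike.coe_subset_coe.2 hTS) hz.2.2)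
  obtain ⟨l1, l2, l3⟩ := lowerCentral_facts S 2
  have hclass : S.lowerCentralSeries 2 = ⊥ := hsmall _ l1 l2 l3 (hM3S.trans hM3M)
  have hna : S.lowerCentralSeries 1 ≠ ⊥ := by
    intro h1
    refine hncV ?_
    rw [← Subgroup.commutator_eq_bot_iff_le_centralizer, eq_bot_iff, ← h1]
    exact Subgroup.commutator_mono hVS hV'S
  -- exponent
  have hpowS : ∀ x ∈ S, ∀ n : ℕ, (p ∣ n.choose 2 ∧ p ∣ n) → x ^ n ∈ M := by
    intro x hx n ⟨hn2, hn⟩
    obtain ⟨w, hw, m, hm, rfl⟩ := CfsgLib.Coprime.exists_mul_of_mem_sup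
      (hWS.trans (hnormM hMn)) (hSWM.le hx)
    have hwm : Commute w m := Subgroup.mem_centralizer_iff.1 (hMW hm) w hw
    rw [hwm.mul_pow]
    obtain ⟨a, ha, b, hb', rfl⟩ := CfsgLib.Coprime.exists_mul_of_mem_sup (hV'S.trans hb.nV) hw
    have hc : ⁅b, a⁆ ∈ Z := hR (Subgroup.commutator_mem_commutator hb' ha)
    have hcS := fun y (hy : y ∈ S) => (Subgroup.mem_centralizer_iff.1 hc.2 y hy).symm
    have e := mul_pow_of_comm (a := a) (b := b) (c := ⁅b, a⁆)
      (by rw [commutatorElement_def]; group) (hcS a (hV'S ha)) (hcS b (hVS hb')) n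
    obtain ⟨k, rfl⟩ := hn
    obtain ⟨j, hj⟩ := hn2
    rw [e, hj, pow_mul, pow_mul a, pow_mul b, hs.pow a ha, hb.pow b hb', hb.pow _ (hb.Z_le hc), one_pow, one_pow,
      one_mul, one_mul, one_mul]
    exact M.pow_mem hm _
  have hexp : ∀ n : ℕ, (p ∣ n.choose 2 ∧ p ∣ n) → Monoid.exponent ↥S ∣ n := fun n hn => by
    obtain ⟨e1, e2, e3⟩ := powGen_facts S n
    refine exponent_dvd_of_powGen (hsmall _ e1 e2 e3 ((Subgroup.closure_le _).2 ?_))
    rintro _ ⟨x, hx, rfl⟩
    exact hpowS x hx n hn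
  have hne1 : Monoid.exponent ↥S ≠ 1 := by
    intro h1
    haveI := Monoid.exp_eq_one_iff.1 h1
    refine hna (eq_bot_iff.2 ?_)
    refine Subgroup.commutator_le.2 fun a ha b hb' => ?_
    have hab : (⟨a, ha⟩ : ↥S) * ⟨b, hb'⟩ = ⟨b, hb'⟩ * ⟨a, ha⟩ := Subsingleton.elim _ _
    rw [Subgroup.mem_bot, commutatorElement_eq_one_iff_mul_comm]
    exact congrArg Subtype.val hab
  have hexp2 : p = 2 → Monoid.exponent ↥S = 4 := by
    intro hp2
    subst hp2
    have h4 : Monoid.exponent ↥S ∣ 2 ^ 2 := hexp 4 ⟨by decide, by decide⟩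
    obtain ⟨i, hi, hi'⟩ := (Nat.dvd_prime_pow Nat.prime_two).1 h4
    interval_cases i
    · exact absurd hi' hne1
    · refine absurd ?_ hna
      refine eq_bot_iff.2 (Subgroup.commutator_le.2 fun a ha b hb' => ?_)
      have hab : (⟨a, ha⟩ : ↥S) * ⟨b, hb'⟩ = ⟨b, hb'⟩ * ⟨a, ha⟩ :=
        mul_comm_of_exponent_two (by rw [hi', pow_one]) _ _
      rw [Subgroup.mem_bot, commutatorElement_eq_one_iff_mul_comm]
      exact congrArg Subtype.val hab
    · exact hi'
  have hexpp : p ≠ 2 → Monoid.exponent ↥S = p := by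
    intro hp2
    have h1 : p ∣ p.choose 2 := hp.out.dvd_choose_self two_ne_zero (lt_of_le_of_ne hp.out.two_le (Ne.symm hp2))
    exact ((Nat.dvd_prime hp.out).1 (hexp p ⟨h1, dvd_rfl⟩)).resolve_left hne1
  have hTL : ⁅T, L⁆ ≤ V := by
    rw [Subgroup.commutator_comm, hTVM]
    refine commutator_sup_le (Subgroup.commutator_le_right L V) ?_ ((sup_le hVS hMS).trans hb.nV)
    rw [Subgroup.commutator_eq_bot_iff_le_centralizer.2 (Subgroup.le_centralizer_iff.1 inf_le_right)]
    exact bot_le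
  have hTn : ∀ {X : Subgroup G}, X.Normal → T ≤ 𝐍(X) := fun h => hTS.trans (hnormM h)
  have htopn : ∀ {X : Subgroup G}, X.Normal → L ⊔ T ≤ 𝐍(X) := fun h =>
    (le_top : L ⊔ T ≤ ⊤).trans (Subgroup.normalizer_eq_top_iff.2 h).ge
  have hhyp : Hyper T V := by
    refine ⟨2, ?_⟩
    show ⁅⁅T, (⊤ : Subgroup G)⁆, (⊤ : Subgroup G)⁆ ≤ V
    have hVM2 : (V ⊔ M2).Normal := inferInstance
    have h1 : ⁅T, (⊤ : Subgroup G)⁆ ≤ V ⊔ M2 := by
      rw [← hLT]
      refine commutator_sup_le (hTL.trans le_sup_left) ?_ (htopn hVM2)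
      have hVT0 : ⁅V, T⁆ = ⊥ := Subgroup.commutator_eq_bot_iff_le_centralizer.2 hb.V_cent
      have hMT : ⁅M, T⁆ ≤ V ⊔ M2 := by
        conv_lhs => rw [hTVM]
        refine commutator_sup_le ?_ le_sup_right ((sup_le hVS hMS).trans (hnormM hVM2))
        rw [Subgroup.commutator_comm]
        exact (Subgroup.commutator_mono le_rfl (inf_le_left : M ≤ T)).trans (hVT0.le.trans bot_le)
      calc ⁅T, T⁆ = ⁅T, V ⊔ M⁆ := by rw [← hTVM]
        _ ≤ _ := commutator_sup_le (by rw [Subgroup.commutator_comm, hVT0]; exact bot_le)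
          (by rw [Subgroup.commutator_comm]; exact hMT) ((sup_le hVS hMS).trans (hnormM hVM2))
    refine (Subgroup.commutator_mono h1 le_rfl).trans ?_
    rw [Subgroup.commutator_comm]
    refine commutator_sup_le (Subgroup.commutator_le_right _ V) ?_
      ((le_top : V ⊔ M2 ≤ ⊤).trans (Subgroup.normalizer_eq_top_iff.2 inferInstance).ge)
    rw [Subgroup.commutator_comm, ← hLT]
    refine commutator_sup_le ?_ ?_ (htopn inferInstance)
    · rw [Subgroup.commutator_eq_bot_iff_le_centralizer.2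
        ((Subgroup.commutator_le_self M).trans inf_le_right)]
      exact bot_le
    · conv_lhs => rw [hTVM]
      refine commutator_sup_le ?_ ?_ ((sup_le hVS hMS).trans hb.nV)
      · rw [Subgroup.commutator_eq_bot_iff_le_centralizer.2
          (((Subgroup.commutator_le_self M).trans inf_le_left).trans hb.T_cent)]
        exact bot_le
      · refine ((Subgroup.commutator_mono (Subgroup.commutator_mono hMS hMS) hMS).trans ?_ : ⁅M2, M⁆ ≤ V)
        show S.lowerCentralSeries 2 ≤ V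
        rw [hclass]
        exact bot_le
  exact ⟨hclass, hna, hexp2, hexpp, ρ, V, N, L, hρ, hker', hnat,
    ⟨1, (Subgroup.commutator_top_right_eq_bot_iff_le_center.2 hNc).le⟩, hhyp, hb.V_le, hb.V_cent, hb.pow, hNc,
    hLn, hLT, hTL⟩

end CfsgLib.PushingUp
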