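/-
Case II of the pushing-up theorem: the two halves of a critical configuration of length two and the second
noncentral section U/V.
-/
import Mathlib
import Cfsg.Agent.Lib.PushingUp.CaseCommon

set_option autoImplicit false
set_option linter.style.haveILetI false
set_option linter.unusedSectionVars false

open scoped commutatorElement MatrixGroups

namespace CfsgLib.PushingUp

open Cfsg CfsgLib.LocalEven.NaturalRecognition

variable {G : Type*} [Group G]

local notation:max "𝐂(" R ")" => Subgroup.centralizer (SetLike.coe R)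

local notation:max "𝐍(" R ")" => Subgroup.normalizer (SetLike.coe R)

theorem le_normalizer_sup {A B C : Subgroup G} (hB : A ≤ 𝐍(B)) (hC : A ≤ 𝐍(C)) : A ≤ 𝐍(B ⊔ C) := by
  refine Subgroup.le_normalizer_iff.2 fun a ha x hx => ?_
  have hle : B ⊔ C ≤ (B ⊔ C).comap (MulAut.conj a).toMonoidHom := sup_le
    (fun b hb => Subgroup.mem_sup_left ((Subgroup.mem_normalizer_iff.1 (hB ha) b).1 hb))
    (fun c hc => Subgroup.mem_sup_right ((Subgroup.mem_normalizer_iff.1 (hC ha) c).1 hc))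
  exact hle hx

theorem le_normalizer_inf' {A B C : Subgroup G} (hB : A ≤ 𝐍(B)) (hC : A ≤ 𝐍(C)) : A ≤ 𝐍(B ⊓ C) := by
  refine Subgroup.le_normalizer_iff.2 fun a ha x hx => ?_
  exact ⟨(Subgroup.mem_normalizer_iff.1 (hB ha) x).1 hx.1, (Subgroup.mem_normalizer_iff.1 (hC ha) x).1 hx.2⟩

theorem le_normalizer_of_normal {X : Subgroup G} (h : X.Normal) (A : Subgroup G) : A ≤ 𝐍(X) :=
  (le_top : A ≤ ⊤).trans (Subgroup.normalizer_eq_top_iff.2 h).ge

/-- One half of a configuration of length two: the edge `E` at the centre, the neighbour `(Tm, Vm)` across it,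
and the small member `B` of the vertex at distance two. -/
structure Half (p q : ℕ) (H₀ T V E Tm Vm B : Subgroup G) : Prop where
  mid : Side p q E T V
  side : Side p q E Tm Vm
  Vm_le : Vm ≤ T
  B_le : B ≤ E
  sup_B : B ⊔ T = E
  B_comm : B ≤ 𝐂(B)
  B_pow : ∀ b ∈ B, b ^ p = 1
  B_Vm : B ≤ 𝐂(Vm)
  B_Tm : ⁅B, Tm⁆ ≤ E ⊓ 𝐂(E)
  Tm_dec : Tm ≤ V ⊔ (Tm ⊓ 𝐂(B))
  not_normal : ¬ H₀ ≤ 𝐍(V ⊔ Vm)

namespace Half

variable [Finite G] {p q : ℕ} {T V E Tm Vm B : Subgroup G} (H : Half p q ⊤ T V E Tm Vm B) [hTn : T.Normal]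
  [hVn : V.Normal]

include H

theorem ne : T ≠ Tm := by
  intro h
  have hV : Vm = V := by rw [← H.side.CT, ← h, H.mid.CT]
  refine H.not_normal ?_
  rw [hV, sup_idem]; exact le_normalizer_of_normal hVn _

theorem V_le : V ≤ Tm := by
  rw [← H.side.CV]
  exact le_inf H.mid.V_le_E (Subgroup.le_centralizer_iff.1 (H.Vm_le.trans H.mid.T_cent))

theorem lam_le : V ⊔ Vm ≤ T := sup_le H.mid.V_le H.Vm_le

theorem lam_le_inf : V ⊔ Vm ≤ T ⊓ Tm :=
  sup_le (le_inf H.mid.V_le H.V_le) (le_inf H.Vm_le H.side.V_le)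

theorem lam_eq : E ⊓ 𝐂(T ⊓ Tm) = V ⊔ Vm := (H.mid.twin H.side H.ne).2.1

theorem card_T : Nat.card T = q * Nat.card ↥(T ⊓ Tm) := (H.mid.twin H.side H.ne).2.2.1

theorem card_lam : Nat.card ↥(V ⊔ Vm) = q * Nat.card V := by
  have e := (H.mid.twin H.side H.ne).2.2.2
  rw [H.side.cardV] at e
  exact Nat.eq_of_mul_eq_mul_right (Nat.card_pos (α := ↥(E ⊓ 𝐂(E)))) (by rw [e]; ring)

theorem nLam : E ≤ 𝐍(V ⊔ Vm) := le_normalizer_sup H.mid.nV H.side.nV

theorem nI : E ≤ 𝐍(T ⊓ Tm) := le_normalizer_inf' H.mid.nT H.side.nT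

theorem lam_comm : ⁅V ⊔ Vm, E⁆ ≤ E ⊓ 𝐂(E) := by
  rw [Subgroup.commutator_comm]
  refine commutator_sup_le ?_ ?_ ((sup_le H.mid.V_le_E H.side.V_le_E).trans
    ((Subgroup.le_centralizer_iff.1 inf_le_right).trans (Subgroup.centralizer_le_normalizer _)))
  · rw [Subgroup.commutator_comm]; exact H.mid.comm
  · rw [Subgroup.commutator_comm]; exact H.side.comm

/-- Elements of `T` central modulo the centre of `E` are moved by `E` into `V ⊔ Vm`. -/
theorem comm_half {Y : Subgroup G} (hY : Y ≤ T) (hc : ⁅Y, T⁆ ≤ E ⊓ 𝐂(E)) : ⁅Y, E⁆ ≤ V ⊔ Vm := by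
  conv_lhs => rw [← H.sup_B]
  refine commutator_sup_le ?_ ?_ (H.sup_B.le.trans H.nLam)
  · rw [Subgroup.commutator_le]
    intro y hy b hb
    rw [← H.lam_eq]
    have hyE := H.mid.T_le (hY hy)
    have hbE := H.B_le hb
    refine ⟨?_, Subgroup.mem_centralizer_iff.2 fun i hi => ?_⟩
    · rw [commutatorElement_def]
      exact E.mul_mem (E.mul_mem (E.mul_mem hyE hbE) (E.inv_mem hyE)) (E.inv_mem hbE)
    have c1 : ⁅i, y⁆ ∈ E ⊓ 𝐂(E) := by
      rw [← commutatorElement_inv y i]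
      exact Subgroup.inv_mem _ (hc (Subgroup.commutator_mem_commutator hy hi.1))
    have c2 : ⁅i, b⁆ ∈ E ⊓ 𝐂(E) := by
      rw [← commutatorElement_inv b i]
      exact Subgroup.inv_mem _ (H.B_Tm (Subgroup.commutator_mem_commutator hb hi.2))
    have hk : ∀ {c : G}, c ∈ E ⊓ 𝐂(E) → ∀ z ∈ E, c * z = z * c := fun hc' z hz =>
      (Subgroup.mem_centralizer_iff.1 hc'.2 z hz).symm
    have e1 : i * y * i⁻¹ = ⁅i, y⁆ * y := by rw [commutatorElement_def]; group
    have e2 : i * b * i⁻¹ = ⁅i, b⁆ * b := by rw [commutatorElement_def]; group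
    have e3 : i * ⁅y, b⁆ * i⁻¹ = ⁅y, b⁆ := by
      rw [show i * ⁅y, b⁆ * i⁻¹ = ⁅i * y * i⁻¹, i * b * i⁻¹⁆ by simp only [commutatorElement_def]; group, e1, e2]
      rw [commutatorElement_mul_left_eq_conj_mul, commutatorElement_mul_right_eq_mul_conj]
      have f1 : ⁅y, ⁅i, b⁆⁆ = 1 := commutatorElement_eq_one_iff_mul_comm.2 (hk c2 y hyE).symm
      have f2 : ∀ z ∈ E, ⁅⁅i, y⁆, z⁆ = 1 := fun z hz => commutatorElement_eq_one_iff_mul_comm.2 (hk c1 z hz)
      have hm : ∀ z ∈ E, ∀ c, c ∈ E ⊓ 𝐂(E) → c * z * c⁻¹ = z := fun z hz c hc' => by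
        rw [hk hc' z hz, mul_inv_cancel_right]
      have hyb : ⁅y, b⁆ ∈ E := by
        rw [commutatorElement_def]
        exact E.mul_mem (E.mul_mem (E.mul_mem hyE hbE) (E.inv_mem hyE)) (E.inv_mem hbE)
      have hw : ⁅i, b⁆ * ⁅y, b⁆ * ⁅i, b⁆⁻¹ = ⁅y, b⁆ := hm _ hyb _ c2
      simp only [f1, one_mul, mul_one, f2 _ (E.mul_mem c2.1 hbE)]
      rw [show ⁅i, y⁆ * (⁅i, b⁆ * ⁅y, b⁆ * ⁅i, b⁆⁻¹) * ⁅i, y⁆⁻¹ = ⁅y, b⁆ by rw [hw]; exact hm _ hyb _ c1]
    calc i * ⁅y, b⁆ = (i * ⁅y, b⁆ * i⁻¹) * i := by group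
      _ = _ := by rw [e3]
  · exact hc.trans (H.mid.Z_le.trans le_sup_left)

theorem cent {a t : G} (ha : a ∈ V ⊔ Vm) (haV : a ∉ V) (ht : t ∈ T) (hc : Commute t a) : t ∈ Tm :=
  H.mid.twin_cent H.side ha haV ht hc

theorem normal_of_I (h : (T ⊓ Tm).Normal) : False := by
  refine H.not_normal (le_normalizer_of_normal ?_ _)
  haveI := h
  have e : T ⊓ 𝐂(T ⊓ Tm) = V ⊔ Vm := by
    refine le_antisymm ?_ (le_inf H.lam_le (H.lam_eq.ge.trans inf_le_right))
    rw [← H.lam_eq]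
    exact inf_le_inf_right _ H.mid.T_le
  rw [← e]
  infer_instance

end Half

/-- A critical configuration of length two around the base vertex. -/
structure Two {p : ℕ} {F : Type} [Field F] [Fintype F] {S : Subgroup G} (pr' : Proj p F S) (T V : Subgroup G)
    (h : G) (Tm Vm B Tp Vp B' : Subgroup G) : Prop where
  map_h : pr'.φ h = Elation.pr F (wel 1)
  left : Half p (Fintype.card F) ⊤ T V S Tm Vm B
  right : Half p (Fintype.card F) ⊤ T V (S.map (MulAut.conj h).toMonoidHom) Tp Vp B'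
  crit : ¬ Vm ≤ 𝐂(Vp)

namespace Two

variable [Finite G] {p : ℕ} [hp : Fact p.Prime] {F : Type} [Field F] [Fintype F] {S : Subgroup G}
  {pr' : Proj p F S} {T V N : Subgroup G} {h : G} {Tm Vm B Tp Vp B' : Subgroup G}
  (C : Two pr' T V h Tm Vm B Tp Vp B') (hE : IsPushingUpSituation p S) (hT : T = pCore p G)
  (hb : Edge p (Fintype.card F) ⊤ S T V N) [hTn : T.Normal] [hVn : V.Normal] [hNn : N.Normal]

local notation "E'" => Subgroup.map (MulEquiv.toMonoidHom (MulAut.conj h)) S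

include C hE in
theorem gen : S ⊔ E' = ⊤ := by
  obtain ⟨s, hs1, hsφ⟩ := pr'.up_surj 1
  refine Proj.gen pr' hE h ⟨s, hs1, fun t e => ?_⟩
  rw [map_mul, map_mul, map_inv, C.map_h, hsφ, ← map_inv, ← map_mul, ← map_mul,
    Elation.conj_wel_up one_ne_zero] at e
  have := Elation.entry_eq_zero e (Elation.entry_up t)
  rw [Elation.entry_lo] at this
  simp at this

include C hE in
theorem mem_center {z : G} (h1 : z ∈ 𝐂(S)) (h2 : z ∈ 𝐂(E')) : z ∈ Subgroup.center G := by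
  have hle : S ⊔ E' ≤ Subgroup.centralizer ({z} : Set G) :=
    sup_le (fun x hx => Subgroup.mem_centralizer_singleton_iff.2 (Subgroup.mem_centralizer_iff.1 h1 x hx))
      (fun x hx => Subgroup.mem_centralizer_singleton_iff.2 (Subgroup.mem_centralizer_iff.1 h2 x hx))
  rw [C.gen hE] at hle
  exact Subgroup.mem_center_iff.2 fun g => Subgroup.mem_centralizer_singleton_iff.1 (hle (Subgroup.mem_top g))

include C hE in
theorem normal_of {X : Subgroup G} (h1 : S ≤ 𝐍(X)) (h2 : E' ≤ 𝐍(X)) : X.Normal := by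
  rw [← Subgroup.normalizer_eq_top_iff, eq_top_iff, ← C.gen hE]
  exact sup_le h1 h2

omit hp in
include hb in
theorem N_eq : N = V ⊓ Subgroup.center G := by
  rw [hb.N_eq, Subgroup.coe_top, Subgroup.centralizer_univ]

omit hp in
include C hb in
theorem N_le : N ≤ S ⊓ 𝐂(S) ∧ N ≤ E' ⊓ 𝐂(E') :=
  ⟨N_eq hb ▸ le_inf (inf_le_left.trans C.left.mid.V_le_E) (inf_le_right.trans (Subgroup.center_le_centralizer _)),
    N_eq hb ▸ le_inf (inf_le_left.trans C.right.mid.V_le_E) (inf_le_right.trans (Subgroup.center_le_centralizer _))⟩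

include C hE hb in
theorem basic :
    ⁅Vm, Vp⁆ ≤ N ∧ Vm ⊔ Tp = E' ∧ Vp ⊔ Tm = S ∧ Vm ⊓ Tp ≤ V ∧ Vp ⊓ Tm ≤ V := by
  obtain ⟨-, f1, f2, e1, e2, hR, -⟩ := C.left.side.crit C.right.side (C.left.Vm_le.trans C.right.mid.T_le)
    (C.right.Vm_le.trans C.left.mid.T_le) C.crit
  refine ⟨?_, f1, f2, ?_, ?_⟩
  · intro x hx
    rw [N_eq hb]
    exact ⟨C.left.mid.Z_le (hR hx).1, C.mem_center hE (hR hx).1.2 (hR hx).2.2⟩
  · rw [e1]; exact C.left.mid.Z_le
  · rw [e2]; exact C.right.mid.Z_le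

include C hE hb in
theorem decomp : T = Vm ⊔ (T ⊓ Tp) ∧ T = Vp ⊔ (T ⊓ Tm) := by
  obtain ⟨-, f1, f2, -, -⟩ := C.basic hE hb
  constructor
  · refine le_antisymm (fun x hx => ?_) (sup_le C.left.Vm_le inf_le_left)
    obtain ⟨v, hv, t, ht, rfl⟩ := CfsgLib.Coprime.exists_mul_of_mem_sup
      ((C.left.Vm_le.trans C.right.mid.T_le).trans C.right.side.nT) (f1.ge (C.right.mid.T_le hx))
    exact Subgroup.mul_mem_sup hv ⟨by simpa using T.mul_mem (T.inv_mem (C.left.Vm_le hv)) hx, ht⟩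
  · refine le_antisymm (fun x hx => ?_) (sup_le C.right.Vm_le inf_le_left)
    obtain ⟨v, hv, t, ht, rfl⟩ := CfsgLib.Coprime.exists_mul_of_mem_sup
      ((C.right.Vm_le.trans C.left.mid.T_le).trans C.left.side.nT) (f2.ge (C.left.mid.T_le hx))
    exact Subgroup.mul_mem_sup hv ⟨by simpa using T.mul_mem (T.inv_mem (C.right.Vm_le hv)) hx, ht⟩

/-- The second member of the series. -/
def bigU (V Vm Vp : Subgroup G) : Subgroup G := (V ⊔ Vm) ⊔ (V ⊔ Vp)

local notation "U" => bigU V Vm Vp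
local notation "Λ" => (V ⊔ Vm)
local notation "Λ'" => (V ⊔ Vp)

omit hp in
include C in
theorem U_le : U ≤ T := sup_le C.left.lam_le C.right.lam_le

include C hE hb in
theorem comm_T : ⁅U, T⁆ ≤ N ∧ ⁅Vm, S⁆ ≤ N ∧ ⁅Vp, E'⁆ ≤ N := by
  obtain ⟨hR, -⟩ := C.basic hE hb
  obtain ⟨d1, d2⟩ := C.decomp hE hb
  have nN : ∀ A : Subgroup G, A ≤ 𝐍(N) := fun A => le_normalizer_of_normal hNn A
  have hm : ⁅Vm, T⁆ ≤ N := by
    conv_lhs => rw [d2]
    refine commutator_sup_le hR ?_ (nN _)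
    rw [Subgroup.commutator_eq_bot_iff_le_centralizer.2
      (C.left.side.V_cent.trans (Subgroup.centralizer_le (SetLike.coe_subset_coe.2 inf_le_right)))]
    exact bot_le
  have hp' : ⁅Vp, T⁆ ≤ N := by
    conv_lhs => rw [d1]
    refine commutator_sup_le (by rw [Subgroup.commutator_comm]; exact hR) ?_ (nN _)
    rw [Subgroup.commutator_eq_bot_iff_le_centralizer.2
      (C.right.side.V_cent.trans (Subgroup.centralizer_le (SetLike.coe_subset_coe.2 inf_le_right)))]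
    exact bot_le
  have hv : ⁅V, T⁆ ≤ N := by
    rw [Subgroup.commutator_eq_bot_iff_le_centralizer.2 hb.V_cent]; exact bot_le
  refine ⟨?_, ?_, ?_⟩
  · rw [Subgroup.commutator_comm, bigU]
    refine commutator_sup_le ?_ ?_ (nN _)
    · exact commutator_sup_le (by rw [Subgroup.commutator_comm]; exact hv)
        (by rw [Subgroup.commutator_comm]; exact hm) (nN _)
    · exact commutator_sup_le (by rw [Subgroup.commutator_comm]; exact hv)
        (by rw [Subgroup.commutator_comm]; exact hp') (nN _)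
  · conv_lhs => rw [← C.left.sup_B]
    refine commutator_sup_le ?_ hm (nN _)
    rw [Subgroup.commutator_eq_bot_iff_le_centralizer.2 (Subgroup.le_centralizer_iff.1 C.left.B_Vm)]
    exact bot_le
  · conv_lhs => rw [← C.right.sup_B]
    refine commutator_sup_le ?_ hp' (nN _)
    rw [Subgroup.commutator_eq_bot_iff_le_centralizer.2 (Subgroup.le_centralizer_iff.1 C.right.B_Vm)]
    exact bot_le

include C hE hb in
theorem comm_edges : ⁅U, S⁆ ≤ Λ ∧ ⁅U, E'⁆ ≤ Λ' :=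
  ⟨C.left.comm_half C.U_le ((C.comm_T hE hb).1.trans (C.N_le hb).1),
    C.right.comm_half C.U_le ((C.comm_T hE hb).1.trans (C.N_le hb).2)⟩

include C hE hb in
theorem U_normal : (U).Normal := by
  obtain ⟨h1, h2⟩ := C.comm_edges hE hb
  exact C.normal_of hE (Subgroup.le_normalizer_iff_commutator_le_left.2 (h1.trans le_sup_left))
    (Subgroup.le_normalizer_iff_commutator_le_left.2 (h2.trans le_sup_right))

include C hE in
theorem lam_inf : Λ ⊓ Λ' = V := by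
  refine le_antisymm (fun a ha => ?_) (le_inf le_sup_left le_sup_left)
  by_contra haV
  have hJI : T ⊓ Tp ≤ Tm := fun t ht => C.left.cent ha.1 haV ht.1 (by
    exact Subgroup.mem_centralizer_iff.1 (C.right.lam_eq.ge ha.2).2 t ht)
  have hIJ : T ⊓ Tm ≤ Tp := fun t ht => C.right.cent ha.2 haV ht.1 (by
    exact Subgroup.mem_centralizer_iff.1 (C.left.lam_eq.ge ha.1).2 t ht)
  have he : T ⊓ Tm = T ⊓ Tp := le_antisymm (le_inf inf_le_left hIJ) (le_inf inf_le_left hJI)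
  refine C.left.normal_of_I (C.normal_of hE C.left.nI ?_)
  rw [he]; exact C.right.nI

include C hE in
theorem fixed_mem {c : G} (hc : c ∈ Λ') (hg : ∀ g : G, ⁅g, c⁆ ∈ V) : c ∈ V := by
  by_contra hcV
  have hJ : ∀ t, t ∈ T ⊓ Tp ↔ t ∈ T ∧ Commute t c := fun t =>
    ⟨fun ht => ⟨ht.1, Subgroup.mem_centralizer_iff.1 (C.right.lam_eq.ge hc).2 t ht⟩,
      fun ht => ⟨ht.1, C.right.cent hc hcV ht.1 ht.2⟩⟩
  refine C.right.normal_of_I ⟨fun t ht g => ?_⟩
  rw [hJ] at ht ⊢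
  refine ⟨hTn.conj_mem t ht.1 g, ?_⟩
  have hv := hg g
  have h1 : Commute (g * t * g⁻¹) (g * c * g⁻¹) := by
    show g * t * g⁻¹ * (g * c * g⁻¹) = g * c * g⁻¹ * (g * t * g⁻¹)
    calc g * t * g⁻¹ * (g * c * g⁻¹) = g * (t * c) * g⁻¹ := by group
      _ = g * (c * t) * g⁻¹ := by rw [ht.2.eq]
      _ = _ := by group
  have h2 : Commute (g * t * g⁻¹) (⁅g, c⁆⁻¹) :=
    Commute.inv_right (show Commute (g * t * g⁻¹) ⁅g, c⁆ from
      Subgroup.mem_centralizer_iff.1 (C.left.mid.V_cent hv) _ (hTn.conj_mem t ht.1 g))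
  have h3 := h2.mul_right h1
  rwa [show ⁅g, c⁆⁻¹ * (g * c * g⁻¹) = c by rw [commutatorElement_def]; group] at h3

include C hE hb in
theorem U_facts :
    Nat.card U = Fintype.card F * Fintype.card F * Nat.card V ∧
    (∀ u ∈ U, (∀ g : G, ⁅g, u⁆ ∈ V) → u ∈ V) ∧
    (∀ u ∈ U, (∀ s ∈ S, ⁅s, u⁆ ∈ V) ↔ u ∈ Λ) ∧
    (∀ s ∈ S, ∀ u ∈ U, ⁅s, u⁆ ∈ Λ) ∧ (∀ s ∈ S, ∀ a ∈ Λ, ⁅s, a⁆ ∈ S ⊓ 𝐂(S)) := by
  obtain ⟨h1, h2⟩ := C.comm_edges hE hb
  have hinf := C.lam_inf hE
  have hsub : ∀ s ∈ S, ∀ a ∈ Λ, ⁅s, a⁆ ∈ S ⊓ 𝐂(S) := fun s hs a ha => by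
    rw [← commutatorElement_inv a s]
    exact Subgroup.inv_mem _ (C.left.lam_comm (Subgroup.commutator_mem_commutator ha hs))
  have hsub' : ∀ s ∈ E', ∀ a ∈ Λ', ⁅s, a⁆ ∈ V := fun s hs a ha => by
    rw [← commutatorElement_inv a s]
    exact Subgroup.inv_mem _ (C.right.mid.Z_le (C.right.lam_comm (Subgroup.commutator_mem_commutator ha hs)))
  have hfix : ∀ u ∈ U, (∀ s ∈ S, ⁅s, u⁆ ∈ V) → u ∈ Λ := by
    intro u hu hf
    obtain ⟨a, ha, c, hc, rfl⟩ := CfsgLib.Coprime.exists_mul_of_mem_sup (H := Λ) (N := Λ')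
      ((C.left.lam_le.trans C.right.mid.T_le).trans C.right.nLam) hu
    have hcS : ∀ s ∈ S, ⁅s, c⁆ ∈ V := fun s hs => by
      have h3 := hf s hs
      rw [commutatorElement_mul_right_eq_mul_conj] at h3
      have h4 : ⁅s, a⁆ ∈ V := C.left.mid.Z_le (hsub s hs a ha)
      have h5 : a * ⁅s, c⁆ * a⁻¹ ∈ V :=
        (Subgroup.mul_mem_cancel_left _ h4).1 (by simpa [mul_assoc] using h3)
      have h7 := hVn.conj_mem _ h5 a⁻¹
      simpa [mul_assoc] using h7
    refine (Subgroup.mul_mem_cancel_right _ (Subgroup.mem_sup_left (C.fixed_mem hE hc fun g => ?_))).2 ha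
    let K : Subgroup G :=
      { carrier := {g | ⁅g, c⁆ ∈ V}
        one_mem' := by
          show ⁅(1 : G), c⁆ ∈ V
          rw [commutatorElement_one_left]; exact V.one_mem
        mul_mem' := fun {x y} hx hy => by
          show ⁅x * y, c⁆ ∈ V
          rw [commutatorElement_mul_left_eq_conj_mul]
          exact V.mul_mem (hVn.conj_mem _ hy x) hx
        inv_mem' := fun {x} hx => by
          show ⁅x⁻¹, c⁆ ∈ V
          rw [commutatorElement_inv_left]
          have h8 := hVn.conj_mem _ (V.inv_mem hx) x⁻¹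
          rw [commutatorElement_inv, inv_inv] at h8
          exact h8 }
    have hK : S ⊔ E' ≤ K := sup_le hcS (fun s hs => hsub' s hs c hc)
    rw [C.gen hE] at hK
    exact hK (Subgroup.mem_top g)
  refine ⟨?_, ?_, fun u hu => ⟨hfix u hu, fun ha s hs => C.left.mid.Z_le (hsub s hs u ha)⟩, ?_, hsub⟩
  · have e := CfsgLib.Coprime.card_sup_mul_card_inf (H := Λ) (N := Λ')
      ((C.left.lam_le.trans C.right.mid.T_le).trans C.right.nLam)
    rw [inf_comm, hinf, C.left.card_lam, C.right.card_lam] at e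
    exact Nat.eq_of_mul_eq_mul_right (Nat.card_pos (α := V)) (by rw [bigU, e]; ring)
  · intro u hu hg
    obtain ⟨a, ha, c, hc, rfl⟩ := CfsgLib.Coprime.exists_mul_of_mem_sup (H := Λ) (N := Λ')
      ((C.left.lam_le.trans C.right.mid.T_le).trans C.right.nLam) hu
    have hu' : a * c ∈ Λ := hfix _ hu fun s _ => hg s
    have hcL : c ∈ Λ := (Subgroup.mul_mem_cancel_left _ ha).1 hu'
    have hcV : c ∈ V := by
      rw [← hinf]; exact ⟨hcL, hc⟩
    refine (Subgroup.mul_mem_cancel_right _ hcV).2 ?_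
    -- `a` is fixed modulo `V` by `E'` as well
    have haG : ∀ g ∈ E', ⁅g, a⁆ ∈ Λ' := fun g hg' => by
      rw [← commutatorElement_inv a g]
      exact Subgroup.inv_mem _ (h2 (Subgroup.commutator_mem_commutator (Subgroup.mem_sup_left ha) hg'))
    have hga : ∀ g : G, ⁅g, a⁆ ∈ V := fun g => by
      have h3 := hg g
      rw [commutatorElement_mul_right_eq_mul_conj] at h3
      have h4 : a * ⁅g, c⁆ * a⁻¹ ∈ V := hVn.conj_mem _ (by
        rw [commutatorElement_def]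
        exact V.mul_mem (hVn.conj_mem c hcV g) (V.inv_mem hcV)) a
      exact (Subgroup.mul_mem_cancel_right _ h4).1 (by simpa [mul_assoc] using h3)
    by_contra haV
    have hI : ∀ t, t ∈ T ⊓ Tm ↔ t ∈ T ∧ Commute t a := fun t =>
      ⟨fun ht => ⟨ht.1, Subgroup.mem_centralizer_iff.1 (C.left.lam_eq.ge ha).2 t ht⟩,
        fun ht => ⟨ht.1, C.left.cent ha haV ht.1 ht.2⟩⟩
    refine C.left.normal_of_I ⟨fun t ht g => ?_⟩
    rw [hI] at ht ⊢
    refine ⟨hTn.conj_mem t ht.1 g, ?_⟩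
    have h1' : Commute (g * t * g⁻¹) (g * a * g⁻¹) := by
      show g * t * g⁻¹ * (g * a * g⁻¹) = g * a * g⁻¹ * (g * t * g⁻¹)
      calc g * t * g⁻¹ * (g * a * g⁻¹) = g * (t * a) * g⁻¹ := by group
        _ = g * (a * t) * g⁻¹ := by rw [ht.2.eq]
        _ = _ := by group
    have h2' : Commute (g * t * g⁻¹) (⁅g, a⁆⁻¹) :=
      Commute.inv_right (show Commute (g * t * g⁻¹) ⁅g, a⁆ from
        Subgroup.mem_centralizer_iff.1 (C.left.mid.V_cent (hga g)) _ (hTn.conj_mem t ht.1 g))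
    have h3' := h2'.mul_right h1'
    rwa [show ⁅g, a⁆⁻¹ * (g * a * g⁻¹) = a by rw [commutatorElement_def]; group] at h3'
  · intro s hs u hu
    rw [← commutatorElement_inv u s]
    exact Subgroup.inv_mem _ (h1 (Subgroup.commutator_mem_commutator hu hs))

/-- The common centralizer of the three small members. -/
def bigK (T Tm Tp : Subgroup G) : Subgroup G := (T ⊓ Tm) ⊓ (T ⊓ Tp)

local notation "K" => bigK T Tm Tp

include C hE hb in
theorem K_facts : (K).Normal ∧ T = U ⊔ K ∧ U ⊓ K = V ∧ K ≤ 𝐂(U) := by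
  haveI hUn := C.U_normal hE hb
  have hKc : K ≤ 𝐂(U) := by
    rw [bigK, bigU, CfsgLib.ChermakDelgado.centralizer_sup]
    exact le_inf (inf_le_left.trans (Subgroup.le_centralizer_iff.1 (C.left.lam_eq.ge.trans inf_le_right)))
      (inf_le_right.trans (Subgroup.le_centralizer_iff.1 (C.right.lam_eq.ge.trans inf_le_right)))
  have hKeq : K = T ⊓ 𝐂(U) := by
    refine le_antisymm (le_inf (inf_le_left.trans inf_le_left) hKc) fun t ht => ?_
    obtain ⟨ht, htU⟩ := ht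
    refine ⟨⟨ht, ?_⟩, ht, ?_⟩
    · rw [← C.left.side.CV]
      exact ⟨C.left.mid.T_le ht, Subgroup.centralizer_le (SetLike.coe_subset_coe.2
        ((le_sup_right : Vm ≤ V ⊔ Vm).trans le_sup_left)) htU⟩
    · rw [← C.right.side.CV]
      exact ⟨C.right.mid.T_le ht, Subgroup.centralizer_le (SetLike.coe_subset_coe.2
        ((le_sup_right : Vp ≤ V ⊔ Vp).trans le_sup_right)) htU⟩
  haveI hKn : (K).Normal := by rw [hKeq]; infer_instance
  obtain ⟨-, -, -, e1, e2⟩ := C.basic hE hb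
  have hUI : U ⊓ (T ⊓ Tm) ≤ Λ := by
    rintro x ⟨hx, hxI⟩
    obtain ⟨a, ha, c, hc, rfl⟩ := CfsgLib.Coprime.exists_mul_of_mem_sup (H := Λ) (N := Λ')
      ((C.left.lam_le.trans C.right.mid.T_le).trans C.right.nLam) hx
    refine (Subgroup.mul_mem_cancel_right _ ?_).2 ha
    have hcI : c ∈ T ⊓ Tm := (Subgroup.mul_mem_cancel_left _ (C.left.lam_le_inf ha)).1 hxI
    obtain ⟨v, hv, w, hw, rfl⟩ := CfsgLib.Coprime.exists_mul_of_mem_sup (H := V) (N := Vp)
      (C.right.mid.V_le_E.trans C.right.side.nV) hc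
    refine Subgroup.mem_sup_left (V.mul_mem hv (e2 ⟨hw, ?_⟩))
    exact (Subgroup.mul_mem_cancel_left _ (C.left.V_le hv)).1 hcI.2
  have hUJ : U ⊓ (T ⊓ Tp) ≤ Λ' := by
    rintro x ⟨hx, hxI⟩
    obtain ⟨a, ha, c, hc, rfl⟩ := CfsgLib.Coprime.exists_mul_of_mem_sup (H := Λ) (N := Λ')
      ((C.left.lam_le.trans C.right.mid.T_le).trans C.right.nLam) hx
    refine (Subgroup.mul_mem_cancel_left _ ?_).2 hc
    have haI : a ∈ T ⊓ Tp := (Subgroup.mul_mem_cancel_right _ (C.right.lam_le_inf hc)).1 hxI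
    obtain ⟨v, hv, w, hw, rfl⟩ := CfsgLib.Coprime.exists_mul_of_mem_sup (H := V) (N := Vm)
      (C.left.mid.V_le_E.trans C.left.side.nV) ha
    refine Subgroup.mem_sup_left (V.mul_mem hv (e1 ⟨hw, ?_⟩))
    exact (Subgroup.mul_mem_cancel_left _ (C.right.V_le hv)).1 haI.2
  have hUK : U ⊓ K = V := by
    refine le_antisymm ?_ (le_inf ((le_sup_left : V ≤ V ⊔ Vm).trans le_sup_left)
      (le_inf (le_sup_left.trans C.left.lam_le_inf) (le_sup_left.trans C.right.lam_le_inf)))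
    rintro x ⟨hx, hxK⟩
    rw [← C.lam_inf hE]
    exact ⟨hUI ⟨hx, hxK.1⟩, hUJ ⟨hx, hxK.2⟩⟩
  refine ⟨hKn, ?_, hUK, hKc⟩
  refine (Subgroup.eq_of_le_of_card_ge (sup_le C.U_le (inf_le_left.trans inf_le_left)) ?_).symm
  obtain ⟨hU, -⟩ := C.U_facts hE hb
  have e := CfsgLib.Coprime.card_sup_mul_card_inf (H := U) (N := K) (le_normalizer_of_normal hKn _)
  rw [inf_comm, hUK, hU] at e
  have h1 := CfsgLib.Offender.card_mul_card_le (R := T) (S := T ⊓ Tm) (T := T ⊓ Tp) inf_le_left inf_le_left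
  have hi := C.left.card_T
  have hj := C.right.card_T
  have hk : (T ⊓ Tm) ⊓ (T ⊓ Tp) = K := rfl
  rw [hk] at h1
  have hTK : Nat.card T ≤ Fintype.card F * Fintype.card F * Nat.card K := by
    refine Nat.le_of_mul_le_mul_left ?_ (Nat.card_pos (α := T))
    calc Nat.card T * Nat.card T
        = Fintype.card F * Fintype.card F * (Nat.card ↥(T ⊓ Tm) * Nat.card ↥(T ⊓ Tp)) := by
          nth_rewrite 1 [hi]; nth_rewrite 1 [hj]; ring
      _ ≤ Fintype.card F * Fintype.card F * (Nat.card T * Nat.card K) := Nat.mul_le_mul_left _ h1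
      _ = _ := by ring
  refine Nat.le_of_mul_le_mul_right ?_ (Nat.card_pos (α := V))
  calc Nat.card T * Nat.card V ≤ Fintype.card F * Fintype.card F * Nat.card K * Nat.card V :=
        Nat.mul_le_mul_right _ hTK
    _ = Nat.card ↥(U ⊔ K) * Nat.card V := by rw [e]; ring

end Two

end CfsgLib.PushingUp
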