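/-
Case II of the pushing-up theorem: the module U/N, its rigidity for p ≠ 3 and the structure for p = 3.
-/
import Mathlib
import Cfsg.Agent.Lib.PushingUp.CaseTwoBasic

set_option autoImplicit false
set_option linter.style.haveILetI false
set_option linter.unusedSectionVars false

open scoped commutatorElement MatrixGroups

namespace CfsgLib.PushingUp

open Cfsg CfsgLib.LocalEven.NaturalRecognition

variable {G : Type*} [Group G]

local notation:max "𝐂(" R ")" => Subgroup.centralizer (SetLike.coe R)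

local notation:max "𝐍(" R ")" => Subgroup.normalizer (SetLike.coe R)

/-- The conclusion in case II. -/
def OutII (p : ℕ) (F : Type) [Field F] (S : Subgroup G) : Prop :=
  p = 3 ∧ S.lowerCentralSeries 3 = ⊥ ∧ S.lowerCentralSeries 2 ≠ ⊥ ∧ Monoid.exponent ↥S = 9 ∧
    ∃ (ρ : G →* SL(2, F)) (U V N : Subgroup G), Function.Surjective ρ ∧ ρ.ker = pCore p G ∧ NatSec ρ V N ∧
      NatSec ρ U V ∧ Hyper N ⊥ ∧ Hyper (pCore p G) U ∧ U ≤ pCore p G

theorem sq_four {R : Type*} [Ring R] (n : R) (h : n ^ 3 = 0) :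
    ((1 + n) ^ 4 - 1) ^ 2 = (16 : ℕ) • n ^ 2 := by
  have h4 : n ^ 4 = 0 := by rw [pow_succ, h, zero_mul]
  have e : (1 + n) ^ 4 - 1 = 4 • n + 6 • n ^ 2 := by
    have : (1 + n) ^ 4 - 1 = 4 • n + 6 • n ^ 2 + 4 • n ^ 3 + n ^ 4 := by noncomm_ring
    rw [this, h, h4]; simp
  rw [e]
  have : (4 • n + 6 • n ^ 2) ^ 2 = (16 : ℕ) • n ^ 2 + 48 • n ^ 3 + 36 • n ^ 4 := by noncomm_ring
  rw [this, h, h4]; simp

namespace Two

variable [Finite G] {p : ℕ} [hp : Fact p.Prime] {F : Type} [Field F] [Fintype F] {S : Subgroup G}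
  {pr' : Proj p F S} {T V N : Subgroup G} {h : G} {Tm Vm B Tp Vp B' : Subgroup G}
  (C : Two pr' T V h Tm Vm B Tp Vp B') (hE : IsPushingUpSituation p S) (hT : T = pCore p G)
  (hb : Edge p (Fintype.card F) ⊤ S T V N) [hTn : T.Normal] [hVn : V.Normal] [hNn : N.Normal]

local notation "E'" => Subgroup.map (MulEquiv.toMonoidHom (MulAut.conj h)) S
local notation "U" => bigU V Vm Vp
local notation "Λ" => (V ⊔ Vm)
local notation "Λ'" => (V ⊔ Vp)
local notation "K" => bigK T Tm Tp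

include C hE hT hb in
theorem modules :
    ∃ ρ : G →* SL(2, F), Function.Surjective ρ ∧ ρ.ker = T ∧ NatSec ρ V N ∧ NatSec ρ U V ∧
      (∀ s ∈ S, ∃ t, ρ s = up t) ∧
      ∀ (c : F), c ≠ 0 → ∀ g, ρ g = wel c * wel (-1) → ∀ k : ℕ, (k : F) = c →
        (∀ z ∈ S ⊓ 𝐂(S), (g * z * g⁻¹)⁻¹ * z ^ k ∈ N) ∧ (∀ y ∈ Λ', y⁻¹ * (g * y * g⁻¹) ^ k ∈ V) := by
  haveI : CharP F p := charP_of_card_eq_prime_pow pr'.hF
  haveI hUn := C.U_normal hE hb
  obtain ⟨hUT, -, -⟩ := C.comm_T hE hb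
  obtain ⟨hKn, hTUK, -, hKc⟩ := C.K_facts hE hb
  have hNV : N ≤ V := (N_eq hb).le.trans inf_le_left
  have hVV : ⁅V, V⁆ ≤ N := by rw [Subgroup.commutator_eq_bot_iff_le_centralizer.2 hb.V_comm]; exact bot_le
  have hUU : ⁅U, U⁆ ≤ V := ((Subgroup.commutator_mono le_rfl C.U_le).trans hUT).trans hNV
  obtain ⟨hcardU, hfixG, hfixS, hquad, hquad'⟩ := C.U_facts hE hb
  have hd1 := vn_data hE pr' C.map_h hT hb hVV
  have hd2 : Elation.Data (Sec U V hUU) pr'.φ S h p := by
    refine proj_data hE pr' C.map_h (A := Λ) ?_ hfixG ?_ le_sup_left le_sup_left hfixS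
      (by rw [C.left.card_lam]) (le_sup_left.trans le_sup_left) hcardU
    · intro t ht u hu
      rw [← commutatorElement_inv u t]
      exact V.inv_mem (hNV (hUT (Subgroup.commutator_mem_commutator hu (hT ▸ ht))))
    · intro s hs u hu s' hs'
      exact C.left.mid.Z_le (hquad' s' hs' _ (hquad s hs u hu))
  obtain ⟨ρ, ψ₁, hρ, hψ₁, -, hker, hρS, hρR, hX₁, -⟩ := hd1.exists_equiv
  obtain ⟨ρ', ψ₂, -, hψ₂, -, hker', hρS', hρR', -, hY₂⟩ := hd2.exists_equiv
  have hlomem : ∀ x ∈ E', ∃ t, pr'.φ x = Elation.pr F (lo t) := by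
    rintro _ ⟨s, hs, rfl⟩
    obtain ⟨t, ht⟩ := pr'.up_mem s hs
    refine ⟨-(t / 1 ^ 2), ?_⟩
    show pr'.φ (h * s * h⁻¹) = _
    rw [map_mul, map_mul, map_inv, C.map_h, ht, ← map_inv, ← map_mul, ← map_mul,
      Elation.conj_wel_up one_ne_zero]
  have hρρ : ρ' = ρ := by
    have hle : S ⊔ E' ≤ ρ'.eqLocus ρ := by
      refine sup_le (fun s hs => ?_) (fun x hx => ?_)
      · obtain ⟨t, ht⟩ := pr'.up_mem s hs
        exact (hρS' s hs t ht).trans (hρS s hs t ht).symm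
      · obtain ⟨t, ht⟩ := hlomem x hx
        exact (hρR' x hx t ht).trans (hρR x hx t ht).symm
    rw [C.gen hE] at hle
    exact MonoidHom.ext fun g => hle (Subgroup.mem_top g)
  subst hρρ
  have hK : ρ'.ker = T := by
    rw [hT]
    refine ker_eq_core hE ρ' (fun t ht => (hker t).2 fun m => ?_) fun x hx hcop => ?_
    · obtain ⟨u, hu, rfl⟩ := Sec.surj m
      refine (Sec.smul_eq_iff t hu).2 ?_
      rw [commutatorElement_eq_one_iff_commute.2 (Subgroup.mem_centralizer_iff.1 (hb.V_cent hu) t (hT ▸ ht))]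
      exact N.one_mem
    · rw [← hT]
      have hTp : IsPGroup p T := hb.isP.to_le hb.T_le
      have hn : ∀ {X : Subgroup G}, X.Normal → x ∈ 𝐍(X) := fun h =>
        (Subgroup.normalizer_eq_top_iff.2 h).ge (Subgroup.mem_top x)
      have hxV : x ∈ 𝐂(V) := by
        refine commute_of_series (hTp.to_le hb.V_le) (B := N) hNV hcop (hn hVn)
          (Subgroup.mem_centralizer_iff.2 fun z hz => (Subgroup.mem_center_iff.1 (by
            rw [N_eq hb] at hz; exact hz.2) x).symm) fun v hv => ?_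
        exact (Sec.smul_eq_iff x hv).1 ((hker x).1 hx (Sec.mk hVV v hv))
      have hxU : x ∈ 𝐂(U) := by
        refine commute_of_series (hTp.to_le C.U_le) (B := V) (le_sup_left.trans le_sup_left) hcop (hn hUn) hxV
          fun v hv => ?_
        exact (Sec.smul_eq_iff x hv).1 ((hker' x).1 hx (Sec.mk hUU v hv))
      have hxK : x ∈ 𝐂(K) := by
        refine commute_of_series (hTp.to_le (inf_le_left.trans inf_le_left)) (B := V)
          (le_inf (le_sup_left.trans C.left.lam_le_inf) (le_sup_left.trans C.right.lam_le_inf)) hcop (hn hKn) hxV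
          fun k hk => ?_
        let P : Subgroup G :=
          { carrier := {g | ∀ k ∈ K, ⁅g, k⁆ ∈ V}
            one_mem' := fun k _ => by rw [commutatorElement_one_left]; exact V.one_mem
            mul_mem' := fun {a b} ha hb' k hk => by
              rw [commutatorElement_mul_left_eq_conj_mul]
              exact V.mul_mem (hVn.conj_mem _ (hb' k hk) a) (ha k hk)
            inv_mem' := fun {a} ha k hk => by
              rw [commutatorElement_inv_left]
              have h8 := hVn.conj_mem _ (V.inv_mem (ha k hk)) a⁻¹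
              rw [commutatorElement_inv, inv_inv] at h8
              exact h8 }
        haveI : P.Normal := ⟨fun g hg a k hk => by
          have e : ⁅a * g * a⁻¹, k⁆ = a * ⁅g, a⁻¹ * k * a⁆ * a⁻¹ := by simp only [commutatorElement_def]; group
          rw [e]
          exact hVn.conj_mem _ (hg _ (by simpa using hKn.conj_mem k hk a⁻¹)) a⟩
        have hBP : B ≤ P := fun b hb' k hk => C.left.mid.Z_le
          (C.left.B_Tm (Subgroup.commutator_mem_commutator hb' hk.1.2))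
        have hB'P : B' ≤ P := fun b hb' k hk => C.right.mid.Z_le
          (C.right.B_Tm (Subgroup.commutator_mem_commutator hb' hk.2.2))
        have hPT : P ⊔ T = ⊤ := by
          rw [eq_top_iff, ← C.gen hE]
          refine sup_le ?_ ?_
          · rw [← C.left.sup_B]; exact sup_le_sup_right hBP _
          · rw [← C.right.sup_B]; exact sup_le_sup_right hB'P _
        exact mem_of_coprime (C := P) hTp hPT hcop k hk
      rw [hTUK, CfsgLib.ChermakDelgado.centralizer_sup]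
      exact ⟨hxU, hxK⟩
  refine ⟨ρ', hρ, hK, natSec_of_sec ρ' hNV ψ₁ hψ₁, natSec_of_sec ρ' (le_sup_left.trans le_sup_left) ψ₂ hψ₂,
    fun s hs => ?_, fun c hc g hg k hk => ⟨fun z hz => ?_, fun y hy => ?_⟩⟩
  · obtain ⟨t, ht⟩ := pr'.up_mem s hs
    exact ⟨t, hρS s hs t ht⟩
  · have hzV : z ∈ V := hb.Z_le hz
    rw [← Sec.mk_eq_iff (h := hVV) (hVn.conj_mem z hzV g) (V.pow_mem hzV k), Sec.mk_pow hzV, ← Sec.smul_mk g hzV]
    refine ψ₁.injective ?_
    have h0 : ψ₁ (Sec.mk hVV z hzV) 1 = 0 := (hX₁ _).1 fun s hs => (Sec.smul_eq_iff s hzV).2 (by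
      rw [commutatorElement_eq_one_iff_commute.2 (Subgroup.mem_centralizer_iff.1 hz.2 s hs)]
      exact N.one_mem)
    rw [hψ₁, map_nsmul, hg, val_mul, wel_coe hc, wel_coe (neg_ne_zero.2 one_ne_zero)]
    ext i
    fin_cases i <;> simp [Matrix.mulVec, dotProduct, Fin.sum_univ_two, Matrix.mul_apply, h0, hk]
  · have hyU : y ∈ U := Subgroup.mem_sup_right hy
    rw [← Sec.mk_eq_iff (h := hUU) hyU ((U).pow_mem (hUn.conj_mem y hyU g) k),
      Sec.mk_pow (hUn.conj_mem y hyU g), ← Sec.smul_mk g hyU]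
    refine ψ₂.injective ?_
    have h0 : ψ₂ (Sec.mk hUU y hyU) 0 = 0 := (hY₂ _).1 fun s hs => by
      rw [Sec.smul_mk h⁻¹ hyU]
      refine (Sec.smul_eq_iff s _).2 ?_
      have hsy : ⁅h * s * h⁻¹, y⁆ ∈ V := by
        rw [← commutatorElement_inv y]
        exact V.inv_mem (C.right.mid.Z_le
          (C.right.lam_comm (Subgroup.commutator_mem_commutator hy (⟨s, hs, rfl⟩ : h * s * h⁻¹ ∈ E'))))
      have e : ⁅s, h⁻¹ * y * h⁻¹⁻¹⁆ = h⁻¹ * ⁅h * s * h⁻¹, y⁆ * h⁻¹⁻¹ := by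
        simp only [commutatorElement_def]; group
      rw [e]
      exact hVn.conj_mem _ hsy h⁻¹
    rw [map_nsmul, hψ₂, hg, val_mul, wel_coe hc, wel_coe (neg_ne_zero.2 one_ne_zero)]
    ext i
    fin_cases i
    · simp [Matrix.mulVec, dotProduct, Fin.sum_univ_two, Matrix.mul_apply, h0]
    · simp [Matrix.mulVec, dotProduct, Fin.sum_univ_two, Matrix.mul_apply, h0, ← hk]
      rw [← mul_assoc, mul_inv_cancel₀ (by rw [hk]; exact hc), one_mul]

include C hE hb in
theorem sec_facts (hUN : ⁅U, U⁆ ≤ N) [(U).Normal] {s : G} (hs : s ∈ S) :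
    (∀ (u : G) (hu : u ∈ U), u ∈ Λ → s • s • Sec.mk hUN u hu - s • Sec.mk hUN u hu =
      s • Sec.mk hUN u hu - Sec.mk hUN u hu) ∧
    (∀ m : Sec U N hUN, p • m = 0) := by
  obtain ⟨hcardU, -, -, hquad, hquad'⟩ := C.U_facts hE hb
  refine ⟨fun u hu huL => ?_, ?_⟩
  · rw [← smul_sub, ← Sec.mk_comm, Sec.smul_eq_iff]
    rw [commutatorElement_eq_one_iff_commute.2 (Subgroup.mem_centralizer_iff.1 (hquad' s hs u huL).2 s hs)]
    exact N.one_mem
  · intro m
    obtain ⟨u, hu, rfl⟩ := Sec.surj m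
    let Ω : Subgroup G :=
      { carrier := {u | ∃ hu : u ∈ U, p • Sec.mk hUN u hu = 0}
        one_mem' := ⟨(U).one_mem, by rw [Sec.mk_one, nsmul_zero]⟩
        mul_mem' := fun {a b} ⟨ha, ha'⟩ ⟨hb', hb''⟩ => ⟨(U).mul_mem ha hb', by
          rw [Sec.mk_mul ha hb', nsmul_add, ha', hb'', add_zero]⟩
        inv_mem' := fun {a} ⟨ha, ha'⟩ => ⟨(U).inv_mem ha, by rw [Sec.mk_inv ha, neg_nsmul, ha', neg_zero]⟩ }
    have hgen : ∀ X : Subgroup G, X ≤ U → (∀ x ∈ X, x ^ p = 1) → X ≤ Ω := fun X hX hXp x hx => by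
      refine ⟨hX hx, ?_⟩
      rw [← Sec.mk_pow (hX hx)]
      exact (Sec.mk_eq_zero _).2 (by rw [hXp x hx]; exact N.one_mem)
    have hle : U ≤ Ω := sup_le
      (sup_le (hgen V (le_sup_left.trans le_sup_left) C.left.mid.pow)
        (hgen Vm (le_sup_right.trans le_sup_left) C.left.side.pow))
      (sup_le (hgen V (le_sup_left.trans le_sup_left) C.left.mid.pow)
        (hgen Vp (le_sup_right.trans le_sup_right) C.right.side.pow))
    obtain ⟨_, h'⟩ := hle hu
    exact h'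

include C hE hT hb in
/-- For `p ≠ 3` the small member at distance one is only moved into the opposite one. -/
theorem quad_zero (hp3 : p ≠ 3) : ∀ s ∈ S, ∀ y ∈ Vp, ⁅s, ⁅s, y⁆⁆ ∈ N := by
  intro s hs y hy
  haveI : CharP F p := charP_of_card_eq_prime_pow pr'.hF
  haveI hUn := C.U_normal hE hb
  obtain ⟨hUT, -, -⟩ := C.comm_T hE hb
  have hUN : ⁅U, U⁆ ≤ N := (Subgroup.commutator_mono le_rfl C.U_le).trans hUT
  have hyL : y ∈ Λ' := Subgroup.mem_sup_right hy
  have hyU : y ∈ U := Subgroup.mem_sup_right hyL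
  obtain ⟨hcardU, -, -, hquad, hquad'⟩ := C.U_facts hE hb
  obtain ⟨hlin, hexp⟩ := C.sec_facts hE hb hUN hs
  have hN : N = V ⊓ Subgroup.center G := N_eq hb
  set m := Sec.mk hUN y hyU with hm
  have hgoal : ⁅s, ⁅s, y⁆⁆ ∈ N ↔ s • (s • m - m) - (s • m - m) = 0 := by
    rw [hm, ← Sec.mk_comm s hyU, ← Sec.mk_comm s (Sec.comm_mem s hyU), Sec.mk_eq_zero]
  rw [hgoal]
  have htriv : ∀ t ∈ T, ∀ x : Sec U N hUN, t • x = x := by
    intro t ht x
    obtain ⟨u, hu, rfl⟩ := Sec.surj x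
    exact (Sec.smul_eq_iff' t hu).2 (hUT (Subgroup.commutator_mem_commutator hu ht))
  rcases hp.out.eq_two_or_odd with hp2 | hodd
  · have hs2 : s * s ∈ T := by
      obtain ⟨t, ht⟩ := pr'.up_mem s hs
      obtain ⟨P, hP⟩ := hE.2.1
      rw [hT]
      refine inf_ker_le hE pr'.quot P ⟨hP.ge (S.mul_mem hs hs), ?_⟩
      show pr'.φ (s * s) = 1
      subst hp2
      rw [map_mul, ht, ← map_mul, ← up_add, CharTwo.add_self_eq_zero, up_zero, map_one]
    rw [smul_sub, ← mul_smul, htriv _ hs2]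
    have h2 := hexp (m - s • m)
    rw [hp2, two_nsmul] at h2
    rw [sub_eq_add_neg (m - s • m), neg_sub]
    exact h2
  · obtain ⟨ρ, hρ, hker, -, -, hρS, hscal⟩ := C.modules hE hT hb
    have hp2 : p ≠ 2 := by intro e; subst e; simp at hodd
    have h2 : (2 : F) ≠ 0 := Ring.two_ne_zero (by rw [ringChar.eq F p]; exact hp2)
    obtain ⟨g, hg⟩ := hρ (wel 2 * wel (-1))
    obtain ⟨hz, hy'⟩ := hscal 2 h2 g hg 2 (by norm_num)
    obtain ⟨t, ht⟩ := hρS s hs
    let A : G →* AddMonoid.End (Sec U N hUN) := DistribMulAction.toAddMonoidEnd G (Sec U N hUN)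
    set n : AddMonoid.End (Sec U N hUN) := A s - 1 with hn
    have hA : ∀ a x, A a x = a • x := fun _ _ => rfl
    have hnx : ∀ x, n x = s • x - x := fun x => rfl
    have hnL : ∀ u (hu : u ∈ U), u ∈ Λ → n (n (Sec.mk hUN u hu)) = 0 := fun u hu huL => by
      rw [hnx, hnx, smul_sub, hlin u hu huL, sub_self]
    have hn3 : n ^ 3 = 0 := AddMonoidHom.ext fun x => by
      obtain ⟨u, hu, rfl⟩ := Sec.surj x
      show n (n (n (Sec.mk hUN u hu))) = 0
      rw [hnx (Sec.mk hUN u hu), ← Sec.mk_comm]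
      exact hnL _ _ (hquad s hs u hu)
    have hconj : A g * A s = A s ^ 4 * A g := by
      have hmem : (s ^ 4)⁻¹ * (g * s * g⁻¹) ∈ ρ.ker := by
        rw [MonoidHom.mem_ker, map_mul, map_inv, map_mul, map_mul, map_inv, map_pow, hg, ht]
        have e : (wel 2 * wel (-1)) * up t * (wel 2 * wel (-1))⁻¹ = up (4 * t) := by
          rw [show (wel (2 : F) * wel (-1)) * up t * (wel 2 * wel (-1))⁻¹ =
            wel 2 * (wel (-1) * up t * (wel (-1))⁻¹) * (wel 2)⁻¹ by group,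
            Elation.conj_wel_up (neg_ne_zero.2 one_ne_zero)]
          rw [mul_inv_eq_iff_eq_mul, up_mul_wel h2]
          congr 2
          field_simp
          norm_num
        have e4 : up t ^ 4 = up (4 * t) := by
          rw [show (4 : ℕ) = 2 + 2 from rfl, pow_add, pow_two, ← up_add, ← up_add]
          congr 1; ring
        rw [e, e4, inv_mul_cancel]
      rw [hker] at hmem
      refine AddMonoidHom.ext fun x => ?_
      rw [← map_pow, ← map_mul, ← map_mul]
      show (g * s) • x = (s ^ 4 * g) • x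
      rw [show g * s = s ^ 4 * ((s ^ 4)⁻¹ * (g * s * g⁻¹)) * g by group, mul_smul, mul_smul,
        htriv _ hmem, ← mul_smul]
    have hgn : A g * n ^ 2 = (16 : ℕ) • (n ^ 2 * A g) := by
      have e : A g * n = ((1 + n) ^ 4 - 1) * A g := by
        rw [hn, add_sub_cancel, mul_sub, sub_mul, hconj, mul_one, one_mul]
      calc A g * n ^ 2 = A g * n * n := by rw [pow_two, mul_assoc]
        _ = ((1 + n) ^ 4 - 1) * A g * n := congrArg (· * n) e
        _ = ((1 + n) ^ 4 - 1) * (A g * n) := mul_assoc _ _ _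
        _ = ((1 + n) ^ 4 - 1) ^ 2 * A g := by rw [e, ← mul_assoc, ← pow_two]
        _ = _ := by rw [sq_four n hn3, smul_mul_assoc]
    set X := n (n m) with hX
    show s • (s • m - m) - (s • m - m) = 0
    rw [← hnx, ← hnx, ← hX]
    have e1 : g • X = (16 : ℕ) • n (n (g • m)) := DFunLike.congr_fun hgn m
    have hXz : g • X = (2 : ℕ) • X := by
      rw [hX, hnx m, ← Sec.mk_comm s hyU, hnx, ← Sec.mk_comm]
      have hzz : ⁅s, ⁅s, y⁆⁆ ∈ S ⊓ 𝐂(S) := hquad' s hs _ (hquad s hs y hyU)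
      rw [Sec.smul_mk, ← Sec.mk_pow, Sec.mk_eq_iff]
      exact hz _ hzz
    have hgm : (2 : ℕ) • n (n (g • m)) = X := by
      rw [hX, ← sub_eq_zero, ← map_nsmul n, ← map_nsmul n, ← map_sub n, ← map_sub n, hm, Sec.smul_mk,
        ← Sec.mk_pow, sub_eq_add_neg, ← Sec.mk_inv, ← Sec.mk_mul]
      refine hnL _ _ (Subgroup.mem_sup_left ?_)
      have h3 := hy' y hyL
      have h4 := hVn.conj_mem _ h3 y
      simpa [mul_assoc] using h4
    have h12 : (12 : ℕ) • X = 0 := by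
      have e2 : (2 : ℕ) • (2 : ℕ) • X = (16 : ℕ) • X := by
        rw [← hXz, e1, ← mul_nsmul, mul_comm, mul_nsmul, hgm]
      rw [← mul_nsmul] at e2
      have e3 : (16 : ℕ) • X = (2 * 2 : ℕ) • X + (12 : ℕ) • X := by rw [← add_nsmul]
      rw [e2] at e3
      exact left_eq_add.1 e3
    have hd := addOrderOf_dvd_of_nsmul_eq_zero h12
    have hd' := addOrderOf_dvd_of_nsmul_eq_zero (hexp X)
    have hco : Nat.Coprime p 12 := by
      rw [hp.out.coprime_iff_not_dvd, show (12 : ℕ) = 2 ^ 2 * 3 from rfl]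
      intro hdd
      rcases hp.out.dvd_mul.1 hdd with h5 | h5
      · exact hp2 ((Nat.prime_dvd_prime_iff_eq hp.out Nat.prime_two).1 (hp.out.dvd_of_dvd_pow h5))
      · exact hp3 ((Nat.prime_dvd_prime_iff_eq hp.out Nat.prime_three).1 h5)
    exact AddMonoid.addOrderOf_eq_one_iff.1 (Nat.eq_one_of_dvd_coprimes hco hd' hd)

include C hE hb in
theorem comm_le_of_quad (hq : ∀ s ∈ S, ∀ y ∈ Vp, ⁅s, ⁅s, y⁆⁆ ∈ N) : ⁅Vp, S⁆ ≤ Vm := by
  rw [Subgroup.commutator_comm, Subgroup.commutator_le]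
  intro s hs y hy
  obtain ⟨hUT, hmS, -⟩ := C.comm_T hE hb
  have hyU : y ∈ U := Subgroup.mem_sup_right (Subgroup.mem_sup_right hy)
  have hNm : N ≤ Vm := (C.N_le hb).1.trans C.left.side.Z_le
  by_cases hsT : s ∈ T
  · rw [← commutatorElement_inv y s]
    exact Vm.inv_mem (hNm (hUT (Subgroup.commutator_mem_commutator hyU hsT)))
  obtain ⟨-, -, -, hquad, -⟩ := C.U_facts hE hb
  obtain ⟨a, ha, v, hv, e⟩ := CfsgLib.Coprime.exists_mul_of_mem_sup (H := Vm) (N := V)
    ((le_top : Vm ≤ ⊤).trans (Subgroup.normalizer_eq_top_iff.2 hVn).ge) (sup_comm V Vm ▸ hquad s hs y hyU)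
  rw [e]
  refine Vm.mul_mem ha (C.left.side.Z_le ⟨C.left.mid.V_le_E hv, hb.fixed v hv s hs hsT ?_⟩)
  have h1 := hq s hs y hy
  rw [e, commutatorElement_mul_right_eq_mul_conj] at h1
  have h2 : ⁅s, a⁆ ∈ N := by
    rw [← commutatorElement_inv a s]
    exact N.inv_mem (hmS (Subgroup.commutator_mem_commutator ha hs))
  have h3 : a * ⁅s, v⁆ * a⁻¹ ∈ N := (Subgroup.mul_mem_cancel_left _ h2).1 (by simpa [mul_assoc] using h1)
  have h4 := hNn.conj_mem _ h3 a⁻¹
  rw [← commutatorElement_inv s v]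
  exact N.inv_mem (by simpa [mul_assoc] using h4)

set_option maxHeartbeats 1000000 in
include C hE hT hb in
theorem struct (hd : HD S) (hne : ¬ ⁅Vp, S⁆ ≤ Vm) : OutII p F S := by
  have hp3 : p = 3 := by
    by_contra hp3
    exact hne (C.comm_le_of_quad hE hb (C.quad_zero hE hT hb hp3))
  subst hp3
  haveI hUn := C.U_normal hE hb
  obtain ⟨hKn, hTUK, -, hKU⟩ := C.K_facts hE hb
  obtain ⟨hUT, hmS, -⟩ := C.comm_T hE hb
  obtain ⟨hUS, -⟩ := C.comm_edges hE hb
  obtain ⟨hcardU, -, -, hquad, hquad'⟩ := C.U_facts hE hb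
  haveI := hKn
  set Z := S ⊓ 𝐂(S) with hZ
  have hN : N = V ⊓ Subgroup.center G := N_eq hb
  have hTS : T ≤ S := hb.T_le
  have hKT : K ≤ T := inf_le_left.trans inf_le_left
  have hUle : U ≤ S := C.U_le.trans hTS
  have hKle : K ≤ S := hKT.trans hTS
  have hBle := C.left.B_le
  have hLn : S ≤ 𝐍(Λ) := C.left.nLam
  have hZcS : S ≤ 𝐂(Z) := Subgroup.le_centralizer_iff.1 inf_le_right
  have hZn : S ≤ 𝐍(Z) := hZcS.trans (Subgroup.centralizer_le_normalizer _)
  have hBK : ⁅B, K⁆ ≤ Z :=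
    (Subgroup.commutator_mono le_rfl (inf_le_left.trans inf_le_right)).trans C.left.B_Tm
  have hB'K : ⁅B', K⁆ ≤ E' ⊓ 𝐂(E') :=
    (Subgroup.commutator_mono le_rfl (inf_le_right.trans inf_le_right)).trans C.right.B_Tm
  have hSdec : S = B ⊔ (U ⊔ K) := by rw [← hTUK, C.left.sup_B]
  have hUK0 : ⁅U, K⁆ = ⊥ := Subgroup.commutator_eq_bot_iff_le_centralizer.2 (Subgroup.le_centralizer_iff.1 hKU)
  have hcT : ∀ {X R : Subgroup G}, ⁅X, U⁆ ≤ R → ⁅X, K⁆ ≤ R → U ⊔ K ≤ 𝐍(R) → ⁅X, T⁆ ≤ R := fun a b c =>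
    (Subgroup.commutator_mono le_rfl hTUK.le).trans (commutator_sup_le a b c)
  -- derived subgroup
  set K2 := ⁅K, K⁆ with hK2
  set R := Λ ⊔ K2 with hR
  haveI : K2.Normal := by rw [hK2]; infer_instance
  have hRn : S ≤ 𝐍(R) := le_normalizer_sup hLn (le_normalizer_of_normal inferInstance _)
  have hNR : N ≤ R := hN ▸ inf_le_left.trans (le_sup_left.trans le_sup_left)
  have hdec : ∀ {X : Subgroup G}, S ≤ 𝐍(X) → B ⊔ (U ⊔ K) ≤ 𝐍(X) := fun h => hSdec ▸ h
  have hdec' : ∀ {X : Subgroup G}, S ≤ 𝐍(X) → U ⊔ K ≤ 𝐍(X) := fun h => (sup_le hUle hKle).trans h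
  have hUB : ⁅U, B⁆ ≤ Λ := (Subgroup.commutator_mono le_rfl hBle).trans hUS
  have hS2 : ⁅S, S⁆ ≤ R := by
    have hB : ⁅B, S⁆ ≤ R := by
      conv_lhs => rw [hSdec]
      refine commutator_sup_le ?_ (commutator_sup_le ?_ ?_ (hdec' hRn)) (hdec hRn)
      · rw [Subgroup.commutator_eq_bot_iff_le_centralizer.2 C.left.B_comm]; exact bot_le
      · rw [Subgroup.commutator_comm]; exact hUB.trans le_sup_left
      · exact hBK.trans ((C.left.mid.Z_le).trans (le_sup_left.trans le_sup_left))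
    have hK' : ⁅K, S⁆ ≤ R := by
      conv_lhs => rw [hSdec]
      refine commutator_sup_le ?_ (commutator_sup_le ?_ le_sup_right (hdec' hRn)) (hdec hRn)
      · rw [Subgroup.commutator_comm]; exact hBK.trans ((C.left.mid.Z_le).trans (le_sup_left.trans le_sup_left))
      · rw [Subgroup.commutator_comm, hUK0]; exact bot_le
    calc ⁅S, S⁆ = ⁅S, B ⊔ (U ⊔ K)⁆ := by rw [← hSdec]
      _ ≤ R := commutator_sup_le (by rw [Subgroup.commutator_comm]; exact hB)
        (commutator_sup_le (by rw [Subgroup.commutator_comm]; exact hUS.trans le_sup_left)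
          (by rw [Subgroup.commutator_comm]; exact hK') (hdec' hRn)) (hdec hRn)
  -- elements of K' commute with B and B'
  have hK2c : ∀ {E : Subgroup G} {X : Subgroup G}, X ≤ E → ⁅X, K⁆ ≤ E ⊓ 𝐂(E) → K ≤ E → K2 ≤ 𝐂(X) := by
    intro E X hXE hXK hKE
    rw [hK2, Subgroup.commutator_le]
    intro k hk k' hk'
    refine Subgroup.mem_centralizer_iff.2 fun b hb' => ?_
    have hb0 : ∀ k ∈ K, ∃ c, c ∈ E ⊓ 𝐂(E) ∧ b * k * b⁻¹ = c * k := fun k hk =>
      ⟨⁅b, k⁆, hXK (Subgroup.commutator_mem_commutator hb' hk), by rw [commutatorElement_def]; group⟩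
    obtain ⟨c, hc, ec⟩ := hb0 k hk
    obtain ⟨d, hd', ed⟩ := hb0 k' hk'
    have hkE := hKE hk
    have hk'E := hKE hk'
    have cc : ∀ z ∈ E, Commute c z := fun z hz => (Subgroup.mem_centralizer_iff.1 hc.2 z hz).symm
    have dd : ∀ z ∈ E, Commute d z := fun z hz => (Subgroup.mem_centralizer_iff.1 hd'.2 z hz).symm
    have e : b * ⁅k, k'⁆ * b⁻¹ = ⁅k, k'⁆ := by
      rw [conjugate_commutatorElement, ec, ed, commutatorElement_mul_left_eq_conj_mul,
        commutatorElement_mul_right_eq_mul_conj]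
      have f1 : ⁅k, d⁆ = 1 := commutatorElement_eq_one_iff_commute.2 (dd k hkE).symm
      have f2 : ⁅c, d * k'⁆ = 1 := commutatorElement_eq_one_iff_commute.2 (cc _ (E.mul_mem hd'.1 hk'E))
      have hkk : ⁅k, k'⁆ ∈ E := by
        rw [commutatorElement_def]
        exact E.mul_mem (E.mul_mem (E.mul_mem hkE hk'E) (E.inv_mem hkE)) (E.inv_mem hk'E)
      simp only [f1, f2, one_mul, mul_one]
      rw [show c * (d * ⁅k, k'⁆ * d⁻¹) * c⁻¹ = ⁅k, k'⁆ by
        rw [(dd _ hkk).eq, mul_inv_cancel_right, (cc _ hkk).eq, mul_inv_cancel_right]]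
    calc b * ⁅k, k'⁆ = (b * ⁅k, k'⁆ * b⁻¹) * b := by group
      _ = _ := by rw [e]
  have hK2B : K2 ≤ 𝐂(B) := hK2c hBle hBK hKle
  have hKle' : K ≤ E' := hKT.trans C.right.mid.T_le
  have hK2B' : K2 ≤ 𝐂(B') := hK2c C.right.B_le hB'K hKle'
  have hcent : ∀ z, z ∈ Z → z ∈ 𝐂(B') → z ∈ Subgroup.center G := by
    intro z hz hzB
    refine C.mem_center hE hz.2 ?_
    rw [← C.right.sup_B, CfsgLib.ChermakDelgado.centralizer_sup]
    exact ⟨hzB, Subgroup.centralizer_le (SetLike.coe_subset_coe.2 hTS) hz.2⟩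
  set K3 := ⁅K2, K⁆ with hK3
  set K4 := ⁅K3, K⁆ with hK4
  have hK2K : K2 ≤ K := Subgroup.commutator_le_self K
  have hK3K2 : K3 ≤ K2 := Subgroup.commutator_le_left K2 K
  have hK4K3 : K4 ≤ K3 := by
    haveI : K3.Normal := by rw [hK3]; infer_instance
    exact Subgroup.commutator_le_left K3 K
  haveI : K3.Normal := by rw [hK3]; infer_instance
  haveI : K4.Normal := by rw [hK4]; infer_instance
  have hstep : ∀ X Y : Subgroup G, X ≤ K2 → Y.Normal → ⁅X, K⁆ ≤ Y → ⁅X, S⁆ ≤ Y := by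
    intro X Y hX hY hXK
    conv_lhs => rw [hSdec]
    refine commutator_sup_le ?_ (commutator_sup_le ?_ hXK (le_normalizer_of_normal hY _)) (le_normalizer_of_normal hY _)
    · rw [Subgroup.commutator_eq_bot_iff_le_centralizer.2 (hX.trans hK2B)]; exact bot_le
    · rw [Subgroup.commutator_eq_bot_iff_le_centralizer.2 ((hX.trans hK2K).trans hKU)]; exact bot_le
  have hS3 : ⁅⁅S, S⁆, S⁆ ≤ Z ⊔ K3 := by
    refine (Subgroup.commutator_mono hS2 le_rfl).trans ?_
    rw [Subgroup.commutator_comm]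
    refine commutator_sup_le ?_ ?_ ((sup_le (C.left.lam_le.trans hTS) (hK2K.trans hKle)).trans
      (le_normalizer_sup hZn (le_normalizer_of_normal inferInstance _)))
    · rw [Subgroup.commutator_comm]; exact C.left.lam_comm.trans le_sup_left
    · rw [Subgroup.commutator_comm]; exact (hstep K2 K3 le_rfl inferInstance le_rfl).trans le_sup_right
  have hS4 : ⁅⁅⁅S, S⁆, S⁆, S⁆ ≤ K4 := by
    refine (Subgroup.commutator_mono hS3 le_rfl).trans ?_
    rw [Subgroup.commutator_comm]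
    refine commutator_sup_le ?_ ?_ (le_normalizer_of_normal inferInstance _)
    · rw [Subgroup.commutator_eq_bot_iff_le_centralizer.2 hZcS]; exact bot_le
    · rw [Subgroup.commutator_comm]; exact hstep K3 K4 hK3K2 inferInstance le_rfl
  have hclass : S.lowerCentralSeries 3 = ⊥ := by
    obtain ⟨l1, l2, l3⟩ := lowerCentral_facts S 3
    refine eq_bot_of_hd hE hd l1 l2 l3 fun z hz => hcent z hz.2 ?_
    exact hK2B' (hK3K2 (hK4K3 (hS4 hz.1)))
  -- exponent divides 9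
  have hLp : ∀ a ∈ Λ, a ^ 3 = 1 := by
    intro a ha
    obtain ⟨v, hv, w, hw, rfl⟩ := CfsgLib.Coprime.exists_mul_of_mem_sup (H := V) (N := Vm)
      (C.left.mid.V_le_E.trans C.left.side.nV) ha
    have hvw : Commute v w := Subgroup.mem_centralizer_iff.1
      (C.left.side.V_cent hw) v (C.left.V_le hv)
    rw [hvw.mul_pow, C.left.mid.pow v hv, C.left.side.pow w hw, one_mul]
  have hU3 : ∀ u ∈ U, u ^ 3 ∈ N := by
    intro u hu
    have hUN : ⁅U, U⁆ ≤ N := (Subgroup.commutator_mono le_rfl C.U_le).trans hUT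
    have h1 := (C.sec_facts hE hb hUN (S.one_mem)).2 (Sec.mk hUN u hu)
    rw [← Sec.mk_pow hu, Sec.mk_eq_zero] at h1
    exact h1
  set M := Λ ⊔ K with hM
  have hMn : S ≤ 𝐍(M) := le_normalizer_sup hLn (le_normalizer_of_normal hKn _)
  have hBTM : ⁅B, T⁆ ≤ M := by
    conv_lhs => rw [hTUK]
    refine commutator_sup_le ?_ (hBK.trans ((C.left.mid.Z_le).trans (le_sup_left.trans le_sup_left))) (hdec' hMn)
    rw [Subgroup.commutator_comm]; exact hUB.trans le_sup_left
  have hcube : ∀ x ∈ S, x ^ 3 ∈ M := by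
    intro x hx
    obtain ⟨b, hb', t, ht, rfl⟩ := CfsgLib.Coprime.exists_mul_of_mem_sup (hBle.trans hb.nT) (C.left.sup_B.ge hx)
    obtain ⟨u, hu, k, hk, rfl⟩ := CfsgLib.Coprime.exists_mul_of_mem_sup (le_normalizer_of_normal hKn U)
      (hTUK.le ht)
    have hcomm : ⁅b, u * k⁆ ∈ M := hBTM (Subgroup.commutator_mem_commutator hb' ht)
    haveI : (M.subgroupOf S).Normal := Subgroup.normal_subgroupOf_of_le_normalizer hMn
    let π := QuotientGroup.mk' (M.subgroupOf S)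
    have hπ : ∀ a : ↥S, π a = 1 ↔ (a : G) ∈ M := fun a => QuotientGroup.eq_one_iff a
    set B0 : ↥S := ⟨b, hBle hb'⟩
    set T0 : ↥S := ⟨u * k, hTS ht⟩
    have hc : Commute (π B0) (π T0) := by
      rw [← commutatorElement_eq_one_iff_commute, ← map_commutatorElement]
      exact (hπ _).2 hcomm
    show ((⟨b * (u * k), hx⟩ : ↥S) ^ 3 : ↥S).1 ∈ M
    rw [← hπ, show (⟨b * (u * k), hx⟩ : ↥S) = B0 * T0 from rfl, map_pow, map_mul, hc.mul_pow, ← map_pow, ← map_pow,
      show B0 ^ 3 = 1 from Subtype.ext (C.left.B_pow b hb'), map_one, one_mul, hπ]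
    show (u * k) ^ 3 ∈ M
    have huk : Commute u k := Subgroup.mem_centralizer_iff.1 (hKU hk) u hu
    rw [huk.mul_pow]
    exact M.mul_mem (Subgroup.mem_sup_left (le_sup_left (a := V) ((hN.le.trans inf_le_left) (hU3 u hu))))
      (Subgroup.mem_sup_right ((K).pow_mem hk 3))
  have hkc : ∀ k ∈ K, ∀ b ∈ B', b * k ^ 3 = k ^ 3 * b := by
    intro k hk b hb'
    have hc := hB'K (Subgroup.commutator_mem_commutator hb' hk)
    have hck : Commute ⁅b, k⁆ k := (Subgroup.mem_centralizer_iff.1 hc.2 k (hKle' hk)).symm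
    have e : b * k ^ 3 * b⁻¹ = k ^ 3 := by
      rw [← conj_pow, show b * k * b⁻¹ = ⁅b, k⁆ * k by rw [commutatorElement_def]; group, hck.mul_pow,
        C.right.mid.pow _ (C.right.mid.Z_le hc), one_mul]
    calc b * k ^ 3 = b * k ^ 3 * b⁻¹ * b := by group
      _ = _ := by rw [e]
  have hexp9 : Monoid.exponent ↥S ∣ 9 := by
    obtain ⟨e1, e2, e3⟩ := powGen_facts S 9
    refine exponent_dvd_of_powGen (eq_bot_of_hd hE hd e1 e2 e3 fun z hz => hcent z hz.2 ?_)
    have hle : powGen S 9 ≤ 𝐂(B') := by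
      refine (Subgroup.closure_le _).2 ?_
      rintro _ ⟨x, hx, rfl⟩
      obtain ⟨a, ha, k, hk, e⟩ := CfsgLib.Coprime.exists_mul_of_mem_sup (le_normalizer_of_normal hKn Λ) (hcube x hx)
      have hak : Commute a k := Subgroup.mem_centralizer_iff.1 (hKU hk) a (Subgroup.mem_sup_left ha)
      refine Subgroup.mem_centralizer_iff.2 fun b hb' => ?_
      rw [show x ^ 9 = (x ^ 3) ^ 3 by rw [← pow_mul], e, hak.mul_pow, hLp a ha, one_mul]
      exact hkc k hk b hb'
    exact hle hz.1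
  -- exact exponent and class
  obtain ⟨b, hb', w, hw, hbw⟩ : ∃ b ∈ B, ∃ w ∈ Vp, ⁅b, ⁅b, w⁆⁆ ∉ N := by
    by_contra hno
    push Not at hno
    refine hne (C.comm_le_of_quad hE hb fun s hs y hy => ?_)
    obtain ⟨b, hb', t, ht, rfl⟩ := CfsgLib.Coprime.exists_mul_of_mem_sup (hBle.trans hb.nT) (C.left.sup_B.ge hs)
    have hUN : ⁅U, U⁆ ≤ N := (Subgroup.commutator_mono le_rfl C.U_le).trans hUT
    have hyU : y ∈ U := Subgroup.mem_sup_right (Subgroup.mem_sup_right hy)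
    have htriv : ∀ x : Sec U N hUN, t • x = x := fun x => by
      obtain ⟨u, hu, rfl⟩ := Sec.surj x
      exact (Sec.smul_eq_iff' t hu).2 (hUT (Subgroup.commutator_mem_commutator hu ht))
    have h1 := hno b hb' y hy
    rw [← Sec.mk_eq_zero (h := hUN) (Sec.comm_mem b (Sec.comm_mem b hyU)), Sec.mk_comm b (Sec.comm_mem b hyU),
      Sec.mk_comm b hyU] at h1
    rw [← Sec.mk_eq_zero (h := hUN) (Sec.comm_mem (b * t) (Sec.comm_mem (b * t) hyU)),
      Sec.mk_comm (b * t) (Sec.comm_mem (b * t) hyU), Sec.mk_comm (b * t) hyU]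
    simpa [mul_smul, htriv] using h1
  have hγ : S.lowerCentralSeries 2 ≠ ⊥ := by
    intro h1
    refine hbw ?_
    have hw' : w ∈ S := hTS (C.right.Vm_le hw)
    have h2 : ⁅b, ⁅b, w⁆⁆ ∈ S.lowerCentralSeries 2 := by
      rw [Subgroup.lowerCentralSeries_succ, Subgroup.lowerCentralSeries_succ, Subgroup.commutator_comm]
      exact Subgroup.commutator_mem_commutator (hBle hb') (Subgroup.commutator_mem_commutator (hBle hb') hw')
    rw [h1, Subgroup.mem_bot] at h2
    rw [h2]; exact N.one_mem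
  have hexp : Monoid.exponent ↥S = 9 := by
    have hdiv : Monoid.exponent ↥S ∣ 3 ^ 2 := hexp9
    obtain ⟨i, hi, hi'⟩ := (Nat.dvd_prime_pow Nat.prime_three).1 hdiv
    rcases Nat.lt_or_ge i 2 with hlt | hge
    · exfalso
      have h3 : Monoid.exponent ↥S ∣ 3 := by
        rw [hi']; exact (pow_dvd_pow 3 (by omega : i ≤ 1)).trans (by rw [pow_one])
      have hwU : w ∈ U := Subgroup.mem_sup_right (Subgroup.mem_sup_right hw)
      have hbwS : b⁻¹ * w ∈ S := S.mul_mem (S.inv_mem (hBle hb')) (hTS (C.right.Vm_le hw))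
      have hpow : (b⁻¹ * w) ^ 3 = 1 :=
        congrArg Subtype.val (Monoid.exponent_dvd_iff_forall_pow_eq_one.1 h3 ⟨_, hbwS⟩)
      have hb3 : b ^ 3 = 1 := C.left.B_pow b hb'
      have e1 : (b⁻¹ * w) ^ 3 = (b⁻¹ * w * b) * (b⁻¹ * b⁻¹ * w * (b * b)) * w := by
        have hb4 : b⁻¹ * b⁻¹ = b := by
          rw [← mul_inv_rev, inv_eq_iff_mul_eq_one, ← hb3, pow_succ, pow_two]
        calc (b⁻¹ * w) ^ 3 = (b⁻¹ * w * b) * (b⁻¹ * b⁻¹ * w * (b * b)) * ((b * b)⁻¹ * b⁻¹) * w := by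
              rw [pow_succ, pow_two]; group
          _ = _ := by
            rw [show (b * b)⁻¹ * b⁻¹ = (b ^ 3)⁻¹ by group, hb3, inv_one, mul_one]
      have hUN : ⁅U, U⁆ ≤ N := (Subgroup.commutator_mono le_rfl C.U_le).trans hUT
      refine hbw ?_
      rw [← Sec.mk_eq_zero (h := hUN) (Sec.comm_mem b (Sec.comm_mem b hwU)), Sec.mk_comm b (Sec.comm_mem b hwU),
        Sec.mk_comm b hwU]
      set m := Sec.mk hUN w hwU
      have hb2 : b⁻¹ * b⁻¹ = b := by
        rw [← mul_inv_rev, inv_eq_iff_mul_eq_one, ← hb3, pow_succ, pow_two]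
      have hbinv : b⁻¹ = b * b := by rw [inv_eq_iff_mul_eq_one, ← hb3, pow_succ', pow_two]
      have hm0 : b • b • m + b • m + m = 0 := by
        have h5 : b⁻¹ * w * b ∈ U := by simpa using hUn.conj_mem w hwU b⁻¹
        have h6 : b⁻¹ * b⁻¹ * w * (b * b) ∈ U := by simpa [mul_assoc] using hUn.conj_mem w hwU (b⁻¹ * b⁻¹)
        have h4 : Sec.mk hUN _ ((U).mul_mem ((U).mul_mem h5 h6) hwU) = (0 : Sec U N hUN) :=
          (Sec.mk_eq_zero _).2 (by rw [← e1, hpow]; exact N.one_mem)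
        rw [Sec.mk_mul ((U).mul_mem h5 h6) hwU, Sec.mk_mul h5 h6] at h4
        rw [← h4, ← mul_smul, Sec.smul_mk, Sec.smul_mk]
        refine congrArg₂ (· + ·) (congrArg₂ (· + ·) ?_ ?_) rfl
        · exact Sec.mk_congr _ (by rw [← hbinv]; group)
        · exact Sec.mk_congr _ (by rw [hb2]; conv_rhs => rw [← hbinv])
      have h3m : (3 : ℕ) • (b • m) = 0 := by
        have := (C.sec_facts hE hb hUN (S.one_mem)).2 (b • m)
        exact this
      have e5 : b • (b • m - m) - (b • m - m) = (b • b • m + b • m + m) - (3 : ℕ) • (b • m) := by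
        rw [smul_sub, succ_nsmul, two_nsmul]; abel
      rw [e5, hm0, h3m, sub_self]
    · rw [hi', show i = 2 by omega]; norm_num
  -- series
  obtain ⟨ρ, hρ, hker, hVNs, hUVs, -, -⟩ := C.modules hE hT hb
  refine ⟨rfl, hclass, hγ, hexp, ρ, U, V, N, hρ, hT ▸ hker, hVNs, hUVs,
    ⟨1, (Subgroup.commutator_top_right_eq_bot_iff_le_center.2 (hN.le.trans inf_le_right)).le⟩, ⟨3, ?_⟩, hT ▸ C.U_le⟩
  show ⁅⁅⁅pCore 3 G, (⊤ : Subgroup G)⁆, (⊤ : Subgroup G)⁆, (⊤ : Subgroup G)⁆ ≤ U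
  rw [← hT]
  have htop : (⊤ : Subgroup G) = (B ⊔ B') ⊔ T := by
    rw [← C.gen hE]
    refine le_antisymm (sup_le ?_ ?_) (sup_le (sup_le ?_ ?_) (hTS.trans le_sup_left))
    · conv_lhs => rw [← C.left.sup_B]
      exact sup_le_sup_right le_sup_left _
    · conv_lhs => rw [← C.right.sup_B]
      exact sup_le_sup_right le_sup_right _
    · exact hBle.trans le_sup_left
    · exact C.right.B_le.trans le_sup_right
  have htopn : ∀ {X : Subgroup G}, X.Normal → (B ⊔ B') ⊔ T ≤ 𝐍(X) := fun h => le_normalizer_of_normal h _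
  have hnn : ∀ {X : Subgroup G}, X.Normal → ∀ A, A ≤ 𝐍(X) := fun h A => le_normalizer_of_normal h A
  have c0 : ⁅T, (⊤ : Subgroup G)⁆ ≤ U ⊔ K2 := by
    have n0 : (U ⊔ K2).Normal := inferInstance
    have hTX : ∀ X : Subgroup G, ⁅X, K⁆ ≤ V → ⁅T, X⁆ ≤ U ⊔ K2 := by
      intro X hX
      rw [Subgroup.commutator_comm]
      exact hcT ((Subgroup.commutator_le_right X U).trans le_sup_left)
        (hX.trans ((le_sup_left.trans le_sup_left : V ≤ U).trans le_sup_left)) (hnn n0 _)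
    rw [htop]
    refine commutator_sup_le (commutator_sup_le (hTX B (hBK.trans C.left.mid.Z_le))
      (hTX B' (hB'K.trans C.right.mid.Z_le)) (hnn n0 _)) ?_ (htopn n0)
    have hKT2 : ⁅T, K⁆ ≤ U ⊔ K2 := by
      rw [Subgroup.commutator_comm]
      exact hcT (by rw [Subgroup.commutator_comm, hUK0]; exact bot_le) le_sup_right (hnn n0 _)
    exact hcT ((Subgroup.commutator_le_right T U).trans le_sup_left) hKT2 (hnn n0 _)
  have step : ∀ X Y : Subgroup G, X ≤ K2 → Y.Normal → ⁅X, K⁆ ≤ Y → ⁅U ⊔ X, (⊤ : Subgroup G)⁆ ≤ U ⊔ Y := by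
    intro X Y hX hY hXK
    have n0 : (U ⊔ Y).Normal := inferInstance
    rw [Subgroup.commutator_comm]
    refine commutator_sup_le ((Subgroup.commutator_le_right _ U).trans le_sup_left) ?_ (hnn n0 _)
    rw [Subgroup.commutator_comm, htop]
    refine commutator_sup_le (commutator_sup_le ?_ ?_ (hnn n0 _)) ?_ (htopn n0)
    · rw [Subgroup.commutator_eq_bot_iff_le_centralizer.2 (hX.trans hK2B)]; exact bot_le
    · rw [Subgroup.commutator_eq_bot_iff_le_centralizer.2 (hX.trans hK2B')]; exact bot_le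
    · refine hcT ?_ (hXK.trans le_sup_right) (hnn n0 _)
      rw [Subgroup.commutator_eq_bot_iff_le_centralizer.2 ((hX.trans hK2K).trans hKU)]; exact bot_le
  refine (Subgroup.commutator_mono ((Subgroup.commutator_mono c0 le_rfl).trans
    (step K2 K3 le_rfl inferInstance le_rfl)) le_rfl).trans ((step K3 K4 hK3K2 inferInstance le_rfl).trans ?_)
  refine sup_le le_rfl (le_trans ?_ bot_le)
  rw [← hclass, hK4, hK3, hK2, Subgroup.lowerCentralSeries_succ, Subgroup.lowerCentralSeries_succ,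
    Subgroup.lowerCentralSeries_succ, Subgroup.lowerCentralSeries_zero]
  exact Subgroup.commutator_mono (Subgroup.commutator_mono (Subgroup.commutator_mono hKle hKle) hKle) hKle

end Two

end CfsgLib.PushingUp
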