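/-
The coset graph of G and N(S) in an ambient group: critical walks have length one or two, and what a critical walk
of either length gives at one vertex.
-/
import Mathlib
import Cfsg.Agent.Lib.PushingUp.CaseTwoBasic

set_option autoImplicit false
set_option linter.style.haveILetI false
set_option linter.unusedSectionVars false

open scoped commutatorElement

namespace CfsgLib.PushingUp

variable {Ω : Type*} [Group Ω]

local notation:max "𝐂(" R ")" => Subgroup.centralizer (SetLike.coe R)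

local notation:max "𝐍(" R ")" => Subgroup.normalizer (SetLike.coe R)

/-- Conjugate subgroup. -/
def cjg (a : Ω) (K : Subgroup Ω) : Subgroup Ω := K.map (MulAut.conj a).toMonoidHom

theorem mem_cjg {a x : Ω} {K : Subgroup Ω} : x ∈ cjg a K ↔ a⁻¹ * x * a ∈ K := by
  constructor
  · rintro ⟨k, hk, rfl⟩
    show a⁻¹ * (a * k * a⁻¹) * a ∈ K
    rwa [show a⁻¹ * (a * k * a⁻¹) * a = k by group]
  · intro h
    refine ⟨_, h, ?_⟩
    show a * (a⁻¹ * x * a) * a⁻¹ = x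
    group

theorem conj_mem_cjg {a x : Ω} {K : Subgroup Ω} (hx : x ∈ K) : a * x * a⁻¹ ∈ cjg a K := ⟨x, hx, rfl⟩

theorem cjg_cjg (a b : Ω) (K : Subgroup Ω) : cjg a (cjg b K) = cjg (a * b) K := by
  ext x
  simp only [mem_cjg]
  rw [show (a * b)⁻¹ * x * (a * b) = b⁻¹ * (a⁻¹ * x * a) * b by group]

theorem cjg_one (K : Subgroup Ω) : cjg 1 K = K := by
  ext x; simp [mem_cjg]

theorem cjg_mono {a : Ω} {K L : Subgroup Ω} (h : K ≤ L) : cjg a K ≤ cjg a L := Subgroup.map_mono h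

theorem cjg_sup (a : Ω) (K L : Subgroup Ω) : cjg a (K ⊔ L) = cjg a K ⊔ cjg a L := Subgroup.map_sup _ _ _

theorem cjg_of_mem {a : Ω} {K : Subgroup Ω} (h : a ∈ 𝐍(K)) : cjg a K = K :=
  Subgroup.mem_normalizer_iff_map_conj_eq.1 h

theorem cjg_normalizer {a : Ω} {H K : Subgroup Ω} (h : H ≤ 𝐍(K)) : cjg a H ≤ 𝐍(cjg a K) :=
  (Subgroup.map_mono h).trans (Subgroup.le_normalizer_map _)

theorem cjg_centralizer (a : Ω) (K : Subgroup Ω) : cjg a 𝐂(K) = 𝐂(cjg a K) :=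
  CfsgLib.LocalEvenSix.centralizer_map_mulEquiv (MulAut.conj a) K

theorem cjg_commutator (a : Ω) (K L : Subgroup Ω) : cjg a ⁅K, L⁆ = ⁅cjg a K, cjg a L⁆ :=
  Subgroup.map_commutator _ _ _

theorem Side.map_inj {Y : Type*} [Group Y] {p q : ℕ} {E T V : Subgroup Ω} {f : Ω →* Y}
    (hf : Function.Injective f) (h : Side p q (E.map f) (T.map f) (V.map f)) : Side p q E T V := by
  have hle : ∀ {A B : Subgroup Ω}, A.map f ≤ B.map f → A ≤ B := fun h =>
    (Subgroup.map_le_map_iff_of_injective hf).1 h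
  have heq : ∀ {A B : Subgroup Ω}, A.map f = B.map f → A = B := fun h => Subgroup.map_injective hf h
  have hcent : ∀ A B : Subgroup Ω, (A ⊓ 𝐂(B)).map f = A.map f ⊓ 𝐂(B.map f) := by
    intro A B
    ext y
    constructor
    · rintro ⟨x, hx, rfl⟩
      refine ⟨⟨x, hx.1, rfl⟩, Subgroup.mem_centralizer_iff.2 ?_⟩
      rintro _ ⟨b, hb, rfl⟩
      rw [← map_mul, ← map_mul, Subgroup.mem_centralizer_iff.1 hx.2 b hb]
    · rintro ⟨⟨x, hx, rfl⟩, hy⟩
      refine ⟨x, ⟨hx, Subgroup.mem_centralizer_iff.2 fun b hb => hf ?_⟩, rfl⟩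
      rw [map_mul, map_mul]
      exact Subgroup.mem_centralizer_iff.1 hy _ ⟨b, hb, rfl⟩
  have hnorm : ∀ {A B : Subgroup Ω}, A.map f ≤ 𝐍(B.map f) → A ≤ 𝐍(B) := by
    intro A B hAB
    refine Subgroup.le_normalizer_iff.2 fun a ha b hb => ?_
    have h1 := (Subgroup.mem_normalizer_iff.1 (hAB ⟨a, ha, rfl⟩) (f b)).1 ⟨b, hb, rfl⟩
    rw [← map_inv, ← map_mul, ← map_mul] at h1
    exact (Subgroup.mem_map_iff_mem hf).1 h1
  have hcard : ∀ A : Subgroup Ω, Nat.card (A.map f) = Nat.card A := fun A => Subgroup.card_map_of_injective hf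
  exact
    { isP := h.isP.of_equiv (Subgroup.equivMapOfInjective E f hf).symm
      T_le := hle h.T_le
      V_le := hle h.V_le
      nT := hnorm h.nT
      nV := hnorm h.nV
      CV := heq (by rw [hcent]; exact h.CV)
      CT := heq (by rw [hcent]; exact h.CT)
      pow := fun v hv => hf (by rw [map_pow, map_one]; exact h.pow _ ⟨v, hv, rfl⟩)
      comm := hle (by rw [Subgroup.map_commutator, hcent]; exact h.comm)
      fixed₀ := fun v hv e he heT hc => by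
        have h1 := h.fixed₀ (f v) ⟨v, hv, rfl⟩ (f e) ⟨e, he, rfl⟩
          (fun h' => heT ((Subgroup.mem_map_iff_mem hf).1 h')) (hc.map f)
        refine Subgroup.mem_centralizer_iff.2 fun b hb => hf ?_
        rw [map_mul, map_mul]
        exact Subgroup.mem_centralizer_iff.1 h1 _ ⟨b, hb, rfl⟩
      two_le := h.two_le
      cardE := by have := h.cardE; rwa [hcard, hcard] at this
      cardV := by have := h.cardV; rwa [← hcent, hcard, hcard] at this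
      measure := fun A hA => by
        have := h.measure (A.map f) (Subgroup.map_mono hA)
        rwa [← hcent, hcard, hcard, hcard, hcard] at this }

theorem Half.map_inj {Y : Type*} [Group Y] {p q : ℕ} {H₀ T V E Tm Vm B : Subgroup Ω} {f : Ω →* Y}
    (hf : Function.Injective f)
    (h : Half p q (H₀.map f) (T.map f) (V.map f) (E.map f) (Tm.map f) (Vm.map f) (B.map f)) :
    Half p q H₀ T V E Tm Vm B := by
  have hle : ∀ {A B : Subgroup Ω}, A.map f ≤ B.map f → A ≤ B := fun h =>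
    (Subgroup.map_le_map_iff_of_injective hf).1 h
  have hcomm : ∀ {A B : Subgroup Ω}, A.map f ≤ 𝐂(B.map f) → A ≤ 𝐂(B) := by
    intro A B hAB
    refine fun a ha => Subgroup.mem_centralizer_iff.2 fun b hb => hf ?_
    rw [map_mul, map_mul]
    exact Subgroup.mem_centralizer_iff.1 (hAB ⟨a, ha, rfl⟩) _ ⟨b, hb, rfl⟩
  refine
    { mid := h.mid.map_inj hf
      side := h.side.map_inj hf
      Vm_le := hle h.Vm_le
      B_le := hle h.B_le
      sup_B := Subgroup.map_injective hf (by rw [Subgroup.map_sup]; exact h.sup_B)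
      B_comm := hcomm h.B_comm
      B_pow := fun b hb => hf (by rw [map_pow, map_one]; exact h.B_pow _ ⟨b, hb, rfl⟩)
      B_Vm := hcomm h.B_Vm
      B_Tm := ?_
      Tm_dec := ?_
      not_normal := fun hn => h.not_normal ?_ }
  · intro x hx
    have h1 := h.B_Tm (by rw [← Subgroup.map_commutator]; exact ⟨x, hx, rfl⟩ : f x ∈ _)
    refine ⟨(Subgroup.mem_map_iff_mem hf).1 h1.1, Subgroup.mem_centralizer_iff.2 fun b hb => hf ?_⟩
    rw [map_mul, map_mul]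
    exact Subgroup.mem_centralizer_iff.1 h1.2 _ ⟨b, hb, rfl⟩
  · refine hle (h.Tm_dec.trans ?_)
    rw [Subgroup.map_sup]
    refine sup_le_sup le_rfl ?_
    rintro _ ⟨⟨x, hx, rfl⟩, hy⟩
    refine ⟨x, ⟨hx, Subgroup.mem_centralizer_iff.2 fun b hb => hf ?_⟩, rfl⟩
    rw [map_mul, map_mul]
    exact Subgroup.mem_centralizer_iff.1 hy _ ⟨b, hb, rfl⟩
  · rw [← Subgroup.map_sup]
    exact (Subgroup.map_mono hn).trans (Subgroup.le_normalizer_map f)

/-- The ambient data: one vertex, one edge, the swapping elements and the absence of characteristic subgroups. -/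
structure Amb (p q : ℕ) (G₁ S₀ T₀ V₀ N₀ : Subgroup Ω) (W : Set Ω) : Prop where
  edge : Edge p q G₁ S₀ T₀ V₀ N₀
  W_mem : ∀ h ∈ W, h ∈ G₁
  W_inv : ∀ h ∈ W, h⁻¹ ∈ W
  W_gen : ∀ h ∈ W, G₁ ≤ S₀ ⊔ cjg h S₀
  W_ne : W.Nonempty
  hd : ∀ C : Subgroup Ω, C ≤ S₀ → C ≠ ⊥ → ∃ ω ∈ 𝐍(S₀), ¬ cjg ω G₁ ≤ 𝐍(C)

namespace Amb

variable [Finite Ω] {p q : ℕ} {G₁ S₀ T₀ V₀ N₀ : Subgroup Ω} {W : Set Ω}

/-- Incidence of the vertex `x` with the edge `E`. -/
def Inc (G₁ S₀ : Subgroup Ω) (x : Ω) (E : Subgroup Ω) : Prop := ∃ g ∈ G₁, E = cjg (x * g) S₀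

/-- Opposite edges at a vertex. -/
def Opp (G₁ S₀ : Subgroup Ω) (W : Set Ω) (x : Ω) (E E' : Subgroup Ω) : Prop :=
  ∃ g ∈ G₁, ∃ h ∈ W, E = cjg (x * g) S₀ ∧ E' = cjg (x * g * h) S₀

/-- A walk of length `n`. -/
def Walk (G₁ S₀ : Subgroup Ω) (n : ℕ) (w : ℕ → Ω) (e : ℕ → Subgroup Ω) : Prop :=
  ∀ i, i < n → Inc G₁ S₀ (w i) (e i) ∧ Inc G₁ S₀ (w (i + 1)) (e i)

/-- The small members at distance less than `n` commute. -/
def Comm (G₁ S₀ V₀ : Subgroup Ω) (n : ℕ) : Prop :=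
  ∀ m, m < n → ∀ w e, Walk G₁ S₀ m w e → cjg (w 0) V₀ ≤ 𝐂(cjg (w m) V₀)

/-- A critical walk. -/
def Crit (G₁ S₀ V₀ : Subgroup Ω) (b : ℕ) (w : ℕ → Ω) (e : ℕ → Subgroup Ω) : Prop :=
  Walk G₁ S₀ b w e ∧ ¬ cjg (w 0) V₀ ≤ 𝐂(cjg (w b) V₀)

theorem inc_translate {x a : Ω} {E : Subgroup Ω} (h : Inc G₁ S₀ x E) : Inc G₁ S₀ (a * x) (cjg a E) := by
  obtain ⟨g, hg, rfl⟩ := h
  exact ⟨g, hg, by rw [cjg_cjg, mul_assoc]⟩

theorem opp_inc {x : Ω} {E E' : Subgroup Ω} (A : Amb p q G₁ S₀ T₀ V₀ N₀ W) (h : Opp G₁ S₀ W x E E') :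
    Inc G₁ S₀ x E ∧ Inc G₁ S₀ x E' := by
  obtain ⟨g, hg, w, hw, h1, h2⟩ := h
  exact ⟨⟨g, hg, h1⟩, ⟨g * w, G₁.mul_mem hg (A.W_mem w hw), by rw [h2, mul_assoc]⟩⟩

theorem opp_symm {x : Ω} {E E' : Subgroup Ω} (A : Amb p q G₁ S₀ T₀ V₀ N₀ W) (h : Opp G₁ S₀ W x E E') :
    Opp G₁ S₀ W x E' E := by
  obtain ⟨g, hg, w, hw, h1, h2⟩ := h
  exact ⟨g * w, G₁.mul_mem hg (A.W_mem w hw), w⁻¹, A.W_inv w hw, by rw [h2, mul_assoc],
    by rw [h1, ← mul_assoc x g w, mul_inv_cancel_right]⟩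

variable (A : Amb p q G₁ S₀ T₀ V₀ N₀ W)

local notation "Hx" x => cjg x G₁
local notation "Tx" x => cjg x T₀
local notation "Vx" x => cjg x V₀
local notation "Nx" x => cjg x N₀

include A

theorem edge_at {x : Ω} {E : Subgroup Ω} (h : Inc G₁ S₀ x E) :
    Edge p q (Hx x) E (Tx x) (Vx x) (Nx x) := by
  obtain ⟨g, hg, rfl⟩ := h
  have e := A.edge.map (f := (MulAut.conj (x * g)).toMonoidHom) (MulEquiv.injective _)
  change Edge p q (cjg (x * g) G₁) (cjg (x * g) S₀) (cjg (x * g) T₀) (cjg (x * g) V₀) (cjg (x * g) N₀) at e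
  have hN : g ∈ 𝐍(N₀) := by
    rw [A.edge.N_eq]
    refine Subgroup.mem_normalizer_iff.2 fun y => ?_
    have hc : ∀ {g : Ω}, g ∈ G₁ → ∀ y, y ∈ V₀ ⊓ 𝐂(G₁) → g * y * g⁻¹ ∈ V₀ ⊓ 𝐂(G₁) := fun {g} hg y hy => by
      rw [Subgroup.mem_centralizer_iff.1 hy.2 g hg, mul_inv_cancel_right]; exact hy
    refine ⟨hc hg y, fun hy => ?_⟩
    have h2 := hc (G₁.inv_mem hg) _ hy
    simpa [mul_assoc] using h2
  rw [← cjg_cjg x g G₁, ← cjg_cjg x g T₀, ← cjg_cjg x g V₀, ← cjg_cjg x g N₀,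
    cjg_of_mem (Subgroup.le_normalizer hg), cjg_of_mem (A.edge.H_nT hg), cjg_of_mem (A.edge.H_nV hg),
    cjg_of_mem hN] at e
  exact e

theorem opp_gen {x : Ω} {E E' : Subgroup Ω} (h : Opp G₁ S₀ W x E E') : (Hx x) ≤ E ⊔ E' := by
  obtain ⟨g, hg, w, hw, rfl, rfl⟩ := h
  have h1 := cjg_mono (a := x * g) (A.W_gen w hw)
  rw [cjg_sup, cjg_cjg, ← cjg_cjg x g G₁, cjg_of_mem (Subgroup.le_normalizer hg)] at h1
  exact h1

theorem exists_good {x : Ω} {E : Subgroup Ω} (h : Inc G₁ S₀ x E) :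
    ∃ u, Inc G₁ S₀ u E ∧ ¬ (Hx x) ≤ 𝐍((Vx x) ⊔ (Vx u)) := by
  obtain ⟨g, hg, rfl⟩ := h
  obtain ⟨ω, hω, hn⟩ : ∃ ω ∈ 𝐍(S₀), ¬ G₁ ≤ 𝐍(V₀ ⊔ cjg ω V₀) := by
    by_contra hall
    push Not at hall
    set C := ⨆ ω : ↥(𝐍(S₀)), cjg (ω : Ω) V₀ with hC
    have hV : V₀ ≤ C := by
      refine le_trans ?_ (le_iSup (fun ω : ↥(𝐍(S₀)) => cjg (ω : Ω) V₀) ⟨1, Subgroup.one_mem _⟩)
      rw [cjg_one]
    have hCn : G₁ ≤ 𝐍(C) := by
      refine Subgroup.le_normalizer_iff.2 fun a ha c hc => ?_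
      have hle : C ≤ C.comap (MulAut.conj a).toMonoidHom := by
        refine iSup_le fun ω y hy => ?_
        have h1 := (Subgroup.mem_normalizer_iff.1 (hall (ω : Ω) ω.2 ha) y).1 (Subgroup.mem_sup_right hy)
        exact (sup_le hV (le_iSup (fun ω : ↥(𝐍(S₀)) => cjg (ω : Ω) V₀) ω) : V₀ ⊔ cjg (ω : Ω) V₀ ≤ C) h1
      exact hle hc
    have hinv : ∀ ω ∈ 𝐍(S₀), cjg ω C ≤ C := by
      intro ω hω
      rw [cjg, Subgroup.map_iSup]
      refine iSup_le fun τ => ?_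
      change cjg ω (cjg (τ : Ω) V₀) ≤ C
      rw [cjg_cjg]
      exact le_iSup (fun ω : ↥(𝐍(S₀)) => cjg (ω : Ω) V₀) ⟨ω * τ, Subgroup.mul_mem _ hω τ.2⟩
    have hne : C ≠ ⊥ := by
      intro e
      have h1 : Nat.card V₀ ≤ 1 := by
        rw [le_bot_iff.1 (hV.trans e.le), Subgroup.card_bot]
      have h2 := A.edge.cardV
      have h3 := A.edge.two_le
      have h4 : 0 < Nat.card ↥(S₀ ⊓ 𝐂(S₀)) := Nat.card_pos
      nlinarith
    obtain ⟨ω, hω, hn⟩ := A.hd C (iSup_le fun ω => (cjg_mono A.edge.toSide.V_le_E).trans (cjg_of_mem ω.2).le) hne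
    have he : cjg ω C = C :=
      Subgroup.eq_of_le_of_card_ge (hinv ω hω) (by rw [cjg, Subgroup.card_map_of_injective (MulEquiv.injective _)])
    have h5 := cjg_normalizer (a := ω) hCn
    rw [he] at h5
    exact hn h5
  refine ⟨x * g * ω, ⟨1, G₁.one_mem, ?_⟩, fun hle => hn ?_⟩
  · rw [mul_one, ← cjg_cjg (x * g) ω S₀, cjg_of_mem hω]
  · have h1 := cjg_normalizer (a := (x * g)⁻¹) hle
    rw [cjg_sup, cjg_cjg, cjg_cjg, cjg_cjg, show (x * g)⁻¹ * (x * g * ω) = ω by group,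
      show (x * g)⁻¹ * x = g⁻¹ by group,
      cjg_of_mem (Subgroup.le_normalizer (G₁.inv_mem hg)), cjg_of_mem (A.edge.H_nV (G₁.inv_mem hg))] at h1
    exact h1

theorem reach {b : ℕ} (hC : Comm G₁ S₀ V₀ b) :
    ∀ n, 1 ≤ n → n ≤ b → ∀ w e, Walk G₁ S₀ n w e → (Vx (w 0)) ≤ e (n - 1) := by
  intro n
  induction n with
  | zero => omega
  | succ n ih =>
    intro _ hn w e hw
    show (Vx (w 0)) ≤ e n
    rcases Nat.eq_zero_or_pos n with rfl | hpos
    · exact (A.edge_at (hw 0 (by omega)).1).toSide.V_le_E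
    have h1 := ih hpos (by omega) w e (fun i hi => hw i (by omega))
    have h2 := hC n (by omega) w e (fun i hi => hw i (by omega))
    have hE := A.edge_at (hw (n - 1) (by omega)).2
    rw [Nat.sub_add_cancel hpos] at hE
    exact ((le_inf h1 h2).trans hE.CV.le).trans (A.edge_at (hw n (by omega)).1).T_le

theorem exists_crit : ∃ b w e, 1 ≤ b ∧ Comm G₁ S₀ V₀ b ∧ Crit G₁ S₀ V₀ b w e := by
  classical
  have hex : ∃ n w e, Crit G₁ S₀ V₀ n w e := by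
    by_contra hno
    push Not at hno
    have hC : ∀ b, Comm G₁ S₀ V₀ b := fun b m _ w e hw => by
      by_contra h
      exact hno m w e ⟨hw, h⟩
    set R : Set Ω := {x | ∃ n w e, Walk G₁ S₀ n w e ∧ w 0 = x ∧ w n = 1}
    set Y := ⨆ x : R, cjg (x : Ω) V₀ with hY
    have h1R : (1 : Ω) ∈ R := ⟨0, fun _ => 1, fun _ => S₀, fun i hi => absurd hi (Nat.not_lt_zero i), rfl, rfl⟩
    have hV : V₀ ≤ Y := by
      refine le_trans ?_ (le_iSup (fun x : R => cjg (x : Ω) V₀) ⟨1, h1R⟩)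
      rw [cjg_one]
    have hYS : Y ≤ S₀ := by
      refine iSup_le fun ⟨x, n, w, e, hw, hx, hn⟩ => ?_
      show cjg x V₀ ≤ S₀
      subst hx
      rcases Nat.eq_zero_or_pos n with rfl | hpos
      · rw [hn, cjg_one]; exact A.edge.toSide.V_le_E
      have h1 := A.reach (hC (n + 1)) n hpos (by omega) w e hw
      have h2 := hC (n + 1) n (by omega) w e hw
      have hE := A.edge_at (hw (n - 1) (by omega)).2
      rw [Nat.sub_add_cancel hpos, hn] at hE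
      rw [hn] at h2
      refine (le_inf h1 h2).trans (hE.CV.le.trans ?_)
      rw [cjg_one]; exact A.edge.T_le
    have hne : Y ≠ ⊥ := by
      intro e
      have h1 : Nat.card V₀ ≤ 1 := by rw [le_bot_iff.1 (hV.trans e.le), Subgroup.card_bot]
      have h2 := A.edge.cardV
      have h3 := A.edge.two_le
      have h4 : 0 < Nat.card ↥(S₀ ⊓ 𝐂(S₀)) := Nat.card_pos
      nlinarith
    obtain ⟨ω, hω, hn⟩ := A.hd Y hYS hne
    refine hn (Subgroup.le_normalizer_iff.2 ?_)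
    rintro h ⟨g, hg, rfl⟩ y hy
    set a := ω * g * ω⁻¹
    have hle : Y ≤ Y.comap (MulAut.conj a).toMonoidHom := by
      refine iSup_le fun ⟨x, n, w, e, hw, hx, hn'⟩ => ?_
      intro z hz
      have hmem : a * x ∈ R := by
        refine ⟨n + 2, fun i => if i ≤ n then a * w i else if i = n + 1 then ω else 1,
          fun i => if i < n then cjg a (e i) else if i = n then cjg (ω * g) S₀ else S₀, ?_, ?_, ?_⟩
        · intro i hi
          rcases Nat.lt_trichotomy i n with hlt | heq | hgt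
          · simp only [show i ≤ n by omega, show i + 1 ≤ n by omega, if_true, hlt]
            exact ⟨inc_translate (hw i hlt).1, inc_translate (hw i hlt).2⟩
          · subst heq
            simp only [le_refl, if_true, lt_irrefl, if_false, show ¬ i + 1 ≤ i by omega]
            refine ⟨⟨1, G₁.one_mem, ?_⟩, ⟨g, hg, rfl⟩⟩
            rw [mul_one, hn', mul_one]
            show cjg (ω * g) S₀ = cjg (ω * g * ω⁻¹) S₀
            rw [← cjg_cjg (ω * g) ω⁻¹, cjg_of_mem (Subgroup.inv_mem _ hω)]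
          · have : i = n + 1 := by omega
            subst this
            simp only [show ¬ n + 1 ≤ n by omega, if_false, if_true, show ¬ n + 1 < n by omega,
              show ¬ n + 1 = n by omega, show ¬ n + 1 + 1 ≤ n by omega, show ¬ n + 1 + 1 = n + 1 by omega]
            exact ⟨⟨1, G₁.one_mem, by rw [mul_one, cjg_of_mem hω]⟩, ⟨1, G₁.one_mem, by rw [mul_one, cjg_one]⟩⟩
        · simp only [Nat.zero_le, if_true, hx]
        · simp only [show ¬ n + 2 ≤ n by omega, if_false, show ¬ n + 2 = n + 1 by omega]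
      refine (le_iSup (fun x : R => cjg (x : Ω) V₀) ⟨_, hmem⟩) ?_
      rw [← cjg_cjg]
      exact conj_mem_cjg hz
    exact hle hy
  obtain ⟨w, e, hb⟩ := Nat.find_spec hex
  refine ⟨Nat.find hex, w, e, ?_, fun m hm w' e' hw' => ?_, hb⟩
  · by_contra h0
    have h0' : Nat.find hex = 0 := by omega
    rw [h0'] at hb
    refine hb.2 ?_
    rw [← cjg_centralizer]
    exact cjg_mono A.edge.toSide.V_comm
  · by_contra h
    exact Nat.find_min hex hm ⟨w', e', hw', h⟩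

section Critical

variable {b : ℕ} (hC : Comm G₁ S₀ V₀ b) (hb : 1 ≤ b) {w : ℕ → Ω} {e : ℕ → Subgroup Ω}
  (hw : Crit G₁ S₀ V₀ b w e)

include hC hb hw

theorem crit_facts :
    (Vx (w 0)) ≤ e (b - 1) ∧ (Vx (w b)) ≤ e 0 ∧
    (Vx (w 0)) ⊔ (Tx (w b)) = e (b - 1) ∧ (Vx (w b)) ⊔ (Tx (w 0)) = e 0 ∧
    (Vx (w 0)) ⊓ (Tx (w b)) = e 0 ⊓ 𝐂(e 0) ∧
    ⁅(Vx (w 0)), (Vx (w b))⁆ ≤ (e 0 ⊓ 𝐂(e 0)) ⊓ (e (b - 1) ⊓ 𝐂(e (b - 1))) ∧
    e 0 ⊓ 𝐂(e 0) ≤ ⁅(Vx (w 0)), (Vx (w b))⁆ ⊔ (Nx (w 0)) := by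
  have hrev : Walk G₁ S₀ b (fun i => w (b - i)) (fun i => e (b - 1 - i)) := fun i hi => by
    have h1 := hw.1 (b - 1 - i) (by omega)
    rw [show b - 1 - i + 1 = b - i by omega] at h1
    show Inc G₁ S₀ (w (b - i)) _ ∧ Inc G₁ S₀ (w (b - (i + 1))) _
    rw [show b - (i + 1) = b - 1 - i by omega]
    exact ⟨h1.2, h1.1⟩
  have h1 := A.reach hC b hb le_rfl w e hw.1
  have h2 := A.reach hC b hb le_rfl _ _ hrev
  rw [Nat.sub_zero, Nat.sub_self] at h2
  have E0 := A.edge_at (hw.1 0 (by omega)).1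
  have Eb := A.edge_at (hw.1 (b - 1) (by omega)).2
  rw [Nat.sub_add_cancel hb] at Eb
  obtain ⟨-, f1, f2, e1, -, hR, hE⟩ := E0.toSide.crit Eb.toSide h1 h2 hw.2
  exact ⟨h1, h2, f1, f2, e1, hR, E0.span.trans (sup_le_sup_right hE _)⟩

theorem crit_cent {x : Ω} (hx : x ∈ (Vx (w 0))) (hc : x ∈ 𝐂((Vx (w b)))) : x ∈ e 0 ⊓ 𝐂(e 0) := by
  obtain ⟨h1, -, -, -, e1, -⟩ := A.crit_facts hC hb hw
  have Eb := A.edge_at (hw.1 (b - 1) (by omega)).2
  rw [Nat.sub_add_cancel hb] at Eb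
  rw [← e1]
  exact ⟨hx, Eb.CV.le ⟨h1 hx, hc⟩⟩

/-- A critical walk can be shifted backwards. -/
theorem shift {E' : Subgroup Ω} {u : Ω} (hE' : Inc G₁ S₀ (w 0) E') (hgen : (Hx (w 0)) ≤ e 0 ⊔ E')
    (hu : Inc G₁ S₀ u E') (hgood : ¬ (Hx (w 0)) ≤ 𝐍((Vx (w 0)) ⊔ (Vx u))) :
    ¬ (Vx u) ≤ 𝐂((Vx (w (b - 1)))) := by
  intro hc
  obtain ⟨-, h2, h3, h4, -, hR, -⟩ := A.crit_facts hC hb hw
  have hle : (Vx u) ≤ e (b - 1) := by
    rcases Nat.lt_or_ge b 2 with h | h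
    · obtain rfl : b = 1 := by omega
      exact ((le_inf (A.edge_at hu).toSide.V_le_E hc).trans (A.edge_at hE').CV.le).trans
        (A.edge_at (hw.1 0 (by omega)).1).T_le
    have hW : Walk G₁ S₀ b (fun i => if i = 0 then u else w (i - 1)) (fun i => if i = 0 then E' else e (i - 1)) := by
      intro i hi
      rcases Nat.eq_zero_or_pos i with rfl | hpos
      · simp only [if_true, zero_add, Nat.succ_ne_self, if_false, Nat.sub_self, show (1 : ℕ) ≠ 0 from one_ne_zero]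
        exact ⟨hu, hE'⟩
      · simp only [show i ≠ 0 by omega, if_false, show i + 1 ≠ 0 by omega]
        have h5 := hw.1 (i - 1) (by omega)
        rw [Nat.sub_add_cancel hpos] at h5
        exact h5
    have h5 := A.reach hC b hb le_rfl _ _ hW
    simp only [if_true, show b - 1 ≠ 0 by omega, if_false] at h5
    have h6 := A.edge_at (hw.1 (b - 1 - 1) (by omega)).2
    rw [show b - 1 - 1 + 1 = b - 1 by omega] at h6
    exact ((le_inf h5 hc).trans h6.CV.le).trans (A.edge_at (hw.1 (b - 1) (by omega)).1).T_le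
  have E0 := A.edge_at (hw.1 0 (by omega)).1
  have E1 := A.edge_at hE'
  have Eu := A.edge_at hu
  have Eb := A.edge_at (hw.1 (b - 1) (by omega)).2
  rw [Nat.sub_add_cancel hb] at Eb
  have hnorm : (Vx (w b)) ≤ 𝐍((Vx u) ⊔ (Vx (w 0))) := by
    refine normalizes_sup (h2.trans E0.nV) ?_
    have hcl : ⁅(Vx (w b)), (Vx (w 0)) ⊔ (Tx (w b))⁆ ≤ ⁅(Vx (w 0)), (Vx (w b))⁆ := by
      refine commutator_sup_le (by rw [Subgroup.commutator_comm]) ?_ ?_
      · rw [Subgroup.commutator_eq_bot_iff_le_centralizer.2 Eb.toSide.V_cent]; exact bot_le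
      · rw [h3]
        exact (Subgroup.le_centralizer_iff.1 ((hR.trans inf_le_right).trans inf_le_right)).trans
          (Subgroup.centralizer_le_normalizer _)
    rw [h3] at hcl
    rw [Subgroup.commutator_comm]
    refine ((Subgroup.commutator_mono le_rfl hle).trans hcl).trans ?_
    exact ((hR.trans inf_le_left).trans E0.toSide.Z_le).trans le_sup_right
  have hnE' : E' ≤ 𝐍((Vx u) ⊔ (Vx (w 0))) := le_normalizer_sup Eu.nV E1.nV
  refine hgood ?_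
  rw [sup_comm]
  refine hgen.trans (sup_le ?_ hnE')
  rw [← h4]
  exact sup_le hnorm (E1.T_le.trans hnE')

/-- At a critical walk of length at least two the first two small members do not form a normal subgroup. -/
theorem auto (hb2 : 2 ≤ b) : ¬ (Hx (w 1)) ≤ 𝐍((Vx (w 1)) ⊔ (Vx (w 0))) := by
  intro hn
  obtain ⟨c, hc, hc'⟩ := (hw.1 0 (by omega)).2
  obtain ⟨d, hd, hd'⟩ := (hw.1 1 (by omega)).1
  rw [zero_add] at hc'
  set γ := w 1 * d * c⁻¹ * (w 1)⁻¹ with hγ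
  have hγH : γ ∈ (Hx (w 1)) := by
    rw [mem_cjg, hγ, show (w 1)⁻¹ * (w 1 * d * c⁻¹ * (w 1)⁻¹) * w 1 = d * c⁻¹ by group]
    exact G₁.mul_mem hd (G₁.inv_mem hc)
  have he : cjg γ (e 0) = e 1 := by
    rw [hc', cjg_cjg, hd', hγ, show w 1 * d * c⁻¹ * (w 1)⁻¹ * (w 1 * c) = w 1 * d by group]
  have hinc : Inc G₁ S₀ (γ * w 0) (e 1) := he ▸ inc_translate (hw.1 0 (by omega)).1
  have hW : cjg γ ((Vx (w 1)) ⊔ (Vx (w 0))) = (Vx (w 1)) ⊔ (Vx (w 0)) := cjg_of_mem (hn hγH)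
  rw [cjg_sup, cjg_cjg γ (w 0), cjg_of_mem ((A.edge_at (hw.1 0 (by omega)).2).H_nV hγH)] at hW
  refine hw.2 ((le_sup_right : (Vx (w 0)) ≤ (Vx (w 1)) ⊔ (Vx (w 0))).trans (hW.ge.trans (sup_le ?_ ?_)))
  · have h1 := hC (b - 1) (by omega) (fun i => w (i + 1)) (fun i => e (i + 1)) (fun i hi => hw.1 (i + 1) (by omega))
    simp only [zero_add] at h1
    rwa [Nat.sub_add_cancel hb] at h1
  · have h1 := hC (b - 1) (by omega) (fun i => if i = 0 then γ * w 0 else w (i + 1)) (fun i => e (i + 1))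
      (fun i hi => by
        rcases Nat.eq_zero_or_pos i with rfl | hpos
        · simp only [if_true, zero_add, show (1 : ℕ) ≠ 0 from one_ne_zero, if_false]
          exact ⟨hinc, (hw.1 1 (by omega)).2⟩
        · simp only [show i ≠ 0 by omega, if_false, show i + 1 ≠ 0 by omega]
          exact hw.1 (i + 1) (by omega))
    simp only [if_true, show b - 1 ≠ 0 by omega, if_false] at h1
    rwa [Nat.sub_add_cancel hb] at h1

end Critical

/-- An infinite sequence all of whose windows are critical, with opposite edges and no normal pairs. -/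
theorem exists_seq {b : ℕ} (hC : Comm G₁ S₀ V₀ b) (hb : 2 ≤ b) {w : ℕ → Ω} {e : ℕ → Subgroup Ω}
    (hw : Crit G₁ S₀ V₀ b w e) :
    ∃ (a : ℕ → Ω) (f : ℕ → Subgroup Ω),
      (∀ k, Inc G₁ S₀ (a k) (f k) ∧ Inc G₁ S₀ (a (k + 1)) (f k)) ∧
      (∀ k, Opp G₁ S₀ W (a (k + 1)) (f k) (f (k + 1))) ∧
      (∀ k, ¬ (Vx (a k)) ≤ 𝐂((Vx (a (k + b))))) ∧
      ∀ k, ¬ (Hx (a k)) ≤ 𝐍((Vx (a k)) ⊔ (Vx (a (k + 1)))) := by
  classical
  have step : ∀ s : {s : (ℕ → Ω) × (ℕ → Subgroup Ω) // Crit G₁ S₀ V₀ b s.1 s.2},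
      ∃ t : {s : (ℕ → Ω) × (ℕ → Subgroup Ω) // Crit G₁ S₀ V₀ b s.1 s.2},
        (∀ i, i < b → t.1.1 i = s.1.1 (i + 1)) ∧ Opp G₁ S₀ W (s.1.1 b) (s.1.2 (b - 1)) (t.1.2 (b - 1)) ∧
          ¬ (Hx (s.1.1 b)) ≤ 𝐍((Vx (s.1.1 b)) ⊔ (Vx (t.1.1 b))) := by
    rintro ⟨⟨w, e⟩, hw⟩
    have hlast := (hw.1 (b - 1) (by omega)).2
    rw [Nat.sub_add_cancel (by omega : 1 ≤ b)] at hlast
    obtain ⟨g, hg, hg'⟩ := hlast
    obtain ⟨h, hh⟩ := A.W_ne
    set E' := cjg (w b * g * h) S₀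
    have hopp : Opp G₁ S₀ W (w b) (e (b - 1)) E' := ⟨g, hg, h, hh, hg', rfl⟩
    obtain ⟨u, hu, hgood⟩ := A.exists_good (opp_inc A hopp).2
    let w' : ℕ → Ω := fun i => if i < b then w (i + 1) else u
    let e' : ℕ → Subgroup Ω := fun i => if i + 1 < b then e (i + 1) else E'
    have hwalk : Walk G₁ S₀ b w' e' := by
      intro i hi
      rcases Nat.lt_or_ge (i + 1) b with h1 | h1
      · simp only [w', e', hi, h1, if_true]
        exact hw.1 (i + 1) h1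
      · simp only [w', e', hi, show ¬ i + 1 < b by omega, if_true, if_false, show i + 1 = b by omega, lt_irrefl]
        exact ⟨(opp_inc A hopp).2, hu⟩
    have hrev : Crit G₁ S₀ V₀ b (fun i => w (b - i)) (fun i => e (b - 1 - i)) := by
      refine ⟨fun i hi => ?_, fun h => hw.2 ?_⟩
      · have h1 := hw.1 (b - 1 - i) (by omega)
        rw [show b - 1 - i + 1 = b - i by omega] at h1
        show Inc G₁ S₀ (w (b - i)) _ ∧ Inc G₁ S₀ (w (b - (i + 1))) _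
        rw [show b - (i + 1) = b - 1 - i by omega]
        exact ⟨h1.2, h1.1⟩
      · dsimp only at h
        rw [Nat.sub_zero, Nat.sub_self] at h
        exact Subgroup.le_centralizer_iff.1 h
    have hnc : ¬ (Vx (w' 0)) ≤ 𝐂((Vx (w' b))) := by
      simp only [w', show 0 < b by omega, lt_irrefl, if_true, if_false, zero_add]
      have hgen := A.opp_gen hopp
      have hs := A.shift hC (by omega) hrev (E' := E') (u := u) (by simpa using (opp_inc A hopp).2)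
        (by simpa using hgen) hu (by simpa using hgood)
      rw [show b - (b - 1) = 1 by omega] at hs
      exact fun h => hs (Subgroup.le_centralizer_iff.1 h)
    refine ⟨⟨(w', e'), hwalk, hnc⟩, fun i hi => by simp [w', hi], ?_, ?_⟩
    · simp only [e', show ¬ b - 1 + 1 < b by omega, if_false]
      exact hopp
    · simp only [w', lt_irrefl, if_false]
      exact hgood
  choose next hn1 hn2 hn3 using step
  let st : ℕ → {s : (ℕ → Ω) × (ℕ → Subgroup Ω) // Crit G₁ S₀ V₀ b s.1 s.2} :=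
    fun k => Nat.rec ⟨(w, e), hw⟩ (fun _ s => next s) k
  have hst : ∀ k, st (k + 1) = next (st k) := fun k => rfl
  have hback : ∀ i, i ≤ b → ∀ k, (st (k + i)).1.1 (b - i) = (st k).1.1 b := by
    intro i
    induction i with
    | zero => intro _ k; rfl
    | succ i ih =>
      intro hi k
      rw [← Nat.add_assoc, hst, hn1 _ _ (by omega), show b - (i + 1) + 1 = b - i by omega]
      exact ih (by omega) k
  have hlast : ∀ k, Inc G₁ S₀ ((st k).1.1 b) ((st k).1.2 (b - 1)) := fun k => by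
    have h1 := ((st k).2.1 (b - 1) (by omega)).2
    rwa [Nat.sub_add_cancel (by omega : 1 ≤ b)] at h1
  refine ⟨fun k => (st k).1.1 b, fun k => (st (k + 1)).1.2 (b - 1), fun k => ?_, fun k => ?_, fun k => ?_, fun k => ?_⟩
  · exact ⟨(opp_inc A (hn2 (st k))).2, hlast (k + 1)⟩
  · exact hn2 (st (k + 1))
  · have h1 := hback b le_rfl k
    rw [Nat.sub_self] at h1
    dsimp only
    rw [← h1]
    exact (st (k + b)).2.2
  · exact hn3 (st k)

theorem b_le_two {b : ℕ} (hC : Comm G₁ S₀ V₀ b) {w : ℕ → Ω} {e : ℕ → Subgroup Ω}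
    (hw : Crit G₁ S₀ V₀ b w e) : b ≤ 2 := by
  by_contra hb
  push Not at hb
  obtain ⟨a, f, hinc, hopp, hcrit, hgood⟩ := A.exists_seq hC (by omega) hw
  have hwin : ∀ k, Crit G₁ S₀ V₀ b (fun i => a (k + i)) (fun i => f (k + i)) := fun k =>
    ⟨fun i _ => hinc (k + i), hcrit k⟩
  obtain ⟨g, hg, hf0⟩ := (hinc 0).1
  obtain ⟨h, hh⟩ := A.W_ne
  set E' := cjg (a 0 * g * h) S₀ with hE'
  have hop0 : Opp G₁ S₀ W (a 0) (f 0) E' := ⟨g, hg, h, hh, hf0, rfl⟩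
  set γ := a 0 * g * h * g⁻¹ * (a 0)⁻¹ with hγ
  have hγH : γ ∈ (Hx (a 0)) := by
    rw [mem_cjg, hγ, show (a 0)⁻¹ * (a 0 * g * h * g⁻¹ * (a 0)⁻¹) * a 0 = g * h * g⁻¹ by group]
    exact G₁.mul_mem (G₁.mul_mem hg (A.W_mem h hh)) (G₁.inv_mem hg)
  have hγf : cjg γ (f 0) = E' := by
    rw [hf0, cjg_cjg, hγ, hE', show a 0 * g * h * g⁻¹ * (a 0)⁻¹ * (a 0 * g) = a 0 * g * h by group]
  set u := γ * a 1 with hu
  have huE : Inc G₁ S₀ u E' := hγf ▸ inc_translate (hinc 0).2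
  have hE'a : Inc G₁ S₀ (a 0) E' := (opp_inc A hop0).2
  have hgd : ¬ (Hx (a 0)) ≤ 𝐍((Vx (a 0)) ⊔ (Vx u)) := by
    intro hn
    refine hgood 0 ?_
    have h1 := cjg_normalizer (a := γ⁻¹) hn
    have hγi := Subgroup.inv_mem _ hγH
    rw [cjg_sup, cjg_cjg γ⁻¹ u, hu, inv_mul_cancel_left, cjg_of_mem ((A.edge_at hE'a).H_nV hγi),
      cjg_of_mem (Subgroup.le_normalizer hγi)] at h1
    exact h1
  have hs := A.shift hC (by omega) (hwin 0) (E' := E') (u := u) hE'a (A.opp_gen hop0) huE hgd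
  let w' : ℕ → Ω := fun i => if i = 0 then u else a (i - 1)
  let e' : ℕ → Subgroup Ω := fun i => if i = 0 then E' else f (i - 1)
  have hnew : Crit G₁ S₀ V₀ b w' e' := by
    refine ⟨fun i _ => ?_, ?_⟩
    · rcases Nat.eq_zero_or_pos i with rfl | hpos
      · simp only [w', e', if_true, zero_add, show (1 : ℕ) ≠ 0 from one_ne_zero, if_false, Nat.sub_self]
        exact ⟨huE, hE'a⟩
      · simp only [w', e', show i ≠ 0 by omega, if_false, show i + 1 ≠ 0 by omega]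
        have h1 := hinc (i - 1)
        rwa [Nat.sub_add_cancel hpos] at h1
    · simp only [w', if_true, show b ≠ 0 by omega, if_false]
      simpa using hs
  obtain ⟨-, -, -, -, -, hR, hspan⟩ := A.crit_facts hC (by omega) hnew
  simp only [w', e', if_true, show b ≠ 0 by omega, if_false, show b - 1 ≠ 0 by omega] at hR hspan
  set R := ⁅(Vx u), (Vx (a (b - 1)))⁆
  have hR1 : R ≤ (Vx (a 0)) := (hR.trans inf_le_left).trans (A.edge_at hE'a).toSide.Z_le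
  have hRf0 : R ≤ f 0 ⊓ 𝐂(f 0) := by
    intro x hx
    refine A.crit_cent hC (by omega) (hwin 0) (hR1 hx) ?_
    have h1 := hC 2 (by omega) (fun i => a (b - 2 + i)) (fun i => f (b - 2 + i)) (fun i _ => hinc _)
    simp only [add_zero, Nat.sub_add_cancel (by omega : 2 ≤ b), zero_add] at h1 ⊢
    exact h1 ((A.edge_at (hinc (b - 2)).1).toSide.Z_le (hR hx).2)
  have hRf1 : R ≤ f 1 ⊓ 𝐂(f 1) := by
    rcases Nat.lt_or_ge 3 b with h4 | h4
    · intro x hx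
      refine A.crit_cent hC (by omega) (hwin 1) ((A.edge_at (hinc 0).2).toSide.Z_le (hRf0 hx)) ?_
      have h1 := hC 3 h4 (fun i => a (b - 2 + i)) (fun i => f (b - 2 + i)) (fun i _ => hinc _)
      simp only [add_zero] at h1 ⊢
      rw [show b - 2 + 3 = 1 + b by omega] at h1
      exact h1 ((A.edge_at (hinc (b - 2)).1).toSide.Z_le (hR hx).2)
    · rw [show (1 : ℕ) = b - 1 - 1 by omega]
      exact hR.trans inf_le_right
  have hcent : ∀ {x : Ω} {E F : Subgroup Ω}, (Hx x) ≤ E ⊔ F → ∀ {z}, z ∈ 𝐂(E) → z ∈ 𝐂(F) → z ∈ 𝐂((Hx x)) := by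
    intro x E F hle z h1 h2
    have h3 : E ⊔ F ≤ Subgroup.centralizer ({z} : Set Ω) :=
      sup_le (fun y hy => Subgroup.mem_centralizer_singleton_iff.2 (Subgroup.mem_centralizer_iff.1 h1 y hy))
        (fun y hy => Subgroup.mem_centralizer_singleton_iff.2 (Subgroup.mem_centralizer_iff.1 h2 y hy))
    exact Subgroup.mem_centralizer_iff.2 fun y hy => Subgroup.mem_centralizer_singleton_iff.1 (h3 (hle hy))
  have hRu : R ≤ (Nx u) := by
    intro z hz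
    rw [(A.edge_at huE).N_eq]
    refine ⟨(A.edge_at huE).toSide.Z_le (hR hz).1, Subgroup.mem_centralizer_iff.2 fun y hy => ?_⟩
    have hz0 : z ∈ 𝐂((Hx (a 0))) := hcent (A.opp_gen hop0) (hRf0 hz).2 (hR hz).1.2
    have hz1 : z ∈ 𝐂((Hx (a 1))) := hcent (A.opp_gen (hopp 0)) (hRf0 hz).2 (hRf1 hz).2
    rw [hu, ← cjg_cjg] at hy
    obtain ⟨y', hy', rfl⟩ := hy
    have h1 := Subgroup.mem_centralizer_iff.1 hz0 γ hγH
    have h2 := Subgroup.mem_centralizer_iff.1 hz1 y' hy'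
    show γ * y' * γ⁻¹ * z = z * (γ * y' * γ⁻¹)
    calc γ * y' * γ⁻¹ * z = γ * y' * (γ⁻¹ * z * γ) * γ⁻¹ := by group
      _ = γ * (y' * z) * γ⁻¹ := by rw [mul_assoc γ⁻¹ z γ, ← h1, inv_mul_cancel_left]; group
      _ = (γ * z) * y' * γ⁻¹ := by rw [h2]; group
      _ = _ := by rw [h1]; group
  have hle := Subgroup.card_le_of_le (hspan.trans (sup_le hRu le_rfl))
  rw [(A.edge_at huE).cardZ] at hle
  have h1 : 0 < Nat.card (Nx u) := Nat.card_pos
  have h2 := A.edge.two_le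
  nlinarith

theorem out_one {w : ℕ → Ω} {e : ℕ → Subgroup Ω} (hC : Comm G₁ S₀ V₀ 1) (hw : Crit G₁ S₀ V₀ 1 w e) :
    ∃ T' V', Side p q S₀ T' V' ∧ ¬ V' ≤ T₀ := by
  obtain ⟨g, hg, hge⟩ := (hw.1 0 (by omega)).1
  set a := (w 0 * g)⁻¹ with ha
  have hinc : Inc G₁ S₀ (a * w 1) S₀ := by
    have h1 := inc_translate (a := a) (hw.1 0 (by omega)).2
    rwa [hge, cjg_cjg, ha, inv_mul_cancel, cjg_one] at h1
  refine ⟨_, _, (A.edge_at hinc).toSide, fun hle => hw.2 ?_⟩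
  have h1 : (Vx (w 1)) ≤ (Tx (w 0)) := by
    have h2 := cjg_mono (a := a⁻¹) hle
    rw [cjg_cjg, inv_mul_cancel_left, ha, inv_inv, ← cjg_cjg, cjg_of_mem (A.edge.H_nT hg)] at h2
    exact h2
  exact Subgroup.le_centralizer_iff.1 (h1.trans (A.edge_at (hw.1 0 (by omega)).1).toSide.T_cent)

/-- Five consecutive vertices with critical pairs at distance two, the centre having opposite edges. -/
def Line (G₁ S₀ V₀ : Subgroup Ω) (W : Set Ω) (v : ℕ → Ω) (f : ℕ → Subgroup Ω) : Prop :=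
  (∀ i, i < 4 → Inc G₁ S₀ (v i) (f i) ∧ Inc G₁ S₀ (v (i + 1)) (f i)) ∧ Opp G₁ S₀ W (v 2) (f 1) (f 2) ∧
    ∀ i, i < 3 → ¬ cjg (v i) V₀ ≤ 𝐂(cjg (v (i + 2)) V₀)

theorem half {b : ℕ} (hC : Comm G₁ S₀ V₀ b) (hb : b = 2) {u₀ u₁ c : Ω} {E₀ E₁ : Subgroup Ω}
    (h00 : Inc G₁ S₀ u₀ E₀) (h10 : Inc G₁ S₀ u₁ E₀) (h11 : Inc G₁ S₀ u₁ E₁) (hc1 : Inc G₁ S₀ c E₁)
    (hcr : ¬ (Vx u₀) ≤ 𝐂((Vx c))) (hn : ¬ (Hx c) ≤ 𝐍((Vx c) ⊔ (Vx u₁))) :
    Half p q (Hx c) (Tx c) (Vx c) E₁ (Tx u₁) (Vx u₁) (Vx u₀) := by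
  subst hb
  let w : ℕ → Ω := fun i => if i = 0 then u₀ else if i = 1 then u₁ else c
  let e : ℕ → Subgroup Ω := fun i => if i = 0 then E₀ else E₁
  have hw : Crit G₁ S₀ V₀ 2 w e := by
    refine ⟨fun i hi => ?_, hcr⟩
    match i, hi with
    | 0, _ => exact ⟨h00, h10⟩
    | 1, _ => exact ⟨h11, hc1⟩
  obtain ⟨h1, h2, f1, f2, -, hR, -⟩ := A.crit_facts hC (by omega) hw
  change (Vx u₀) ≤ E₁ at h1
  change (Vx c) ≤ E₀ at h2
  change (Vx u₀) ⊔ (Tx c) = E₁ at f1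
  change (Vx c) ⊔ (Tx u₀) = E₀ at f2
  change ⁅(Vx u₀), (Vx c)⁆ ≤ (E₀ ⊓ 𝐂(E₀)) ⊓ (E₁ ⊓ 𝐂(E₁)) at hR
  have Ec := A.edge_at hc1
  have E1 := A.edge_at h11
  have E10 := A.edge_at h10
  have E0 := A.edge_at h00
  have hcomm1 : ∀ {x y : Ω} {E : Subgroup Ω}, Inc G₁ S₀ x E → Inc G₁ S₀ y E → (Vx x) ≤ 𝐂((Vx y)) := by
    intro x y E hx hy
    exact hC 1 (by omega) (fun i => if i = 0 then x else y) (fun _ => E) (fun i hi => by
      obtain rfl : i = 0 := by omega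
      exact ⟨hx, hy⟩)
  have hc' : (Vx c) ≤ (Tx u₁) := (le_inf Ec.toSide.V_le_E (hcomm1 hc1 h11)).trans E1.CV.le
  exact
    { mid := Ec.toSide
      side := E1.toSide
      Vm_le := (le_inf E1.toSide.V_le_E (hcomm1 h11 hc1)).trans Ec.CV.le
      B_le := h1
      sup_B := f1
      B_comm := E0.toSide.V_comm
      B_pow := E0.pow
      B_Vm := hcomm1 h00 h10
      not_normal := hn
      Tm_dec := fun x hx => by
        obtain ⟨v, hv, t, ht, rfl⟩ := CfsgLib.Coprime.exists_mul_of_mem_sup (h2.trans E0.nT)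
          (f2.ge (E10.T_le hx))
        refine Subgroup.mul_mem_sup hv ⟨?_, E0.toSide.T_cent ht⟩
        simpa using Subgroup.mul_mem _ (Subgroup.inv_mem _ (hc' hv)) hx
      B_Tm := by
        have hdec : (Tx u₁) ≤ (Vx c) ⊔ ((Tx u₁) ⊓ (Tx u₀)) := by
          intro x hx
          obtain ⟨v, hv, t, ht, rfl⟩ := CfsgLib.Coprime.exists_mul_of_mem_sup (h2.trans E0.nT)
            (f2.ge (E10.T_le hx))
          exact Subgroup.mul_mem_sup hv ⟨by simpa using (Tx u₁).mul_mem ((Tx u₁).inv_mem (hc' hv)) hx, ht⟩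
        refine (Subgroup.commutator_mono le_rfl hdec).trans (commutator_sup_le (hR.trans inf_le_right) ?_ ?_)
        · rw [Subgroup.commutator_eq_bot_iff_le_centralizer.2
            (E0.toSide.V_cent.trans (Subgroup.centralizer_le (SetLike.coe_subset_coe.2 inf_le_right)))]
          exact bot_le
        · exact (sup_le Ec.toSide.V_le_E (inf_le_left.trans E1.T_le)).trans
            ((Subgroup.le_centralizer_iff.1 inf_le_right).trans (Subgroup.centralizer_le_normalizer _)) }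

/-- A configuration of length two around the base vertex. -/
def Cfg (p q : ℕ) (G₁ S₀ T₀ V₀ : Subgroup Ω) (W : Set Ω) (h : Ω) (Tm Vm B Tp Vp B' : Subgroup Ω) : Prop :=
  h ∈ W ∧ Half p q G₁ T₀ V₀ S₀ Tm Vm B ∧ Half p q G₁ T₀ V₀ (cjg h S₀) Tp Vp B' ∧ ¬ Vm ≤ 𝐂(Vp) ∧
    Tm ≤ G₁ ∧ Tp ≤ G₁

theorem line_cfg (hC : Comm G₁ S₀ V₀ 2) {v : ℕ → Ω} {f : ℕ → Subgroup Ω} (hL : Line G₁ S₀ V₀ W v f) :
    ∃ a h, cjg a (f 1) = S₀ ∧ cjg a (Vx (v 2)) = V₀ ∧
      Cfg p q G₁ S₀ T₀ V₀ W h (cjg a (Tx (v 1))) (cjg a (Vx (v 1))) (cjg a (Vx (v 0)))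
        (cjg a (Tx (v 3))) (cjg a (Vx (v 3))) (cjg a (Vx (v 4))) := by
  obtain ⟨hi, ⟨g, hg, h, hh, hf1, hf2⟩, hcr⟩ := hL
  have key : ∀ {w : ℕ → Ω} {e : ℕ → Subgroup Ω}, Crit G₁ S₀ V₀ 2 w e →
      ¬ (Hx (w 1)) ≤ 𝐍((Vx (w 1)) ⊔ (Vx (w 0))) := fun hw => A.auto hC (by omega) hw le_rfl
  have n1 := key (w := fun i => v (i + 1)) (e := fun i => f (i + 1))
    ⟨fun i hi' => hi (i + 1) (by omega), hcr 1 (by omega)⟩
  have n3 := key (w := fun i => v (3 - i)) (e := fun i => f (2 - i)) ⟨fun i hi' => by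
      match i, hi' with
      | 0, _ => exact ⟨(hi 2 (by omega)).2, (hi 2 (by omega)).1⟩
      | 1, _ => exact ⟨(hi 1 (by omega)).2, (hi 1 (by omega)).1⟩,
    fun h' => hcr 1 (by omega) (Subgroup.le_centralizer_iff.1 h')⟩
  change ¬ (Hx (v 2)) ≤ 𝐍((Vx (v 2)) ⊔ (Vx (v 1))) at n1
  change ¬ (Hx (v 2)) ≤ 𝐍((Vx (v 2)) ⊔ (Vx (v 3))) at n3
  have Hl := A.half hC rfl (hi 0 (by omega)).1 (hi 0 (by omega)).2 (hi 1 (by omega)).1 (hi 1 (by omega)).2
    (hcr 0 (by omega)) n1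
  have Hr := A.half hC rfl (hi 3 (by omega)).2 (hi 3 (by omega)).1 (hi 2 (by omega)).2 (hi 2 (by omega)).1
    (fun h' => hcr 2 (by omega) (Subgroup.le_centralizer_iff.1 h')) n3
  set a := (v 2 * g)⁻¹ with ha
  have eG : cjg a (Hx (v 2)) = G₁ := by
    rw [cjg_cjg, ha, show (v 2 * g)⁻¹ * v 2 = g⁻¹ by group, cjg_of_mem (Subgroup.le_normalizer (G₁.inv_mem hg))]
  have eT : cjg a (Tx (v 2)) = T₀ := by
    rw [cjg_cjg, ha, show (v 2 * g)⁻¹ * v 2 = g⁻¹ by group, cjg_of_mem (A.edge.H_nT (G₁.inv_mem hg))]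
  have eV : cjg a (Vx (v 2)) = V₀ := by
    rw [cjg_cjg, ha, show (v 2 * g)⁻¹ * v 2 = g⁻¹ by group, cjg_of_mem (A.edge.H_nV (G₁.inv_mem hg))]
  have e1 : cjg a (f 1) = S₀ := by rw [hf1, cjg_cjg, ha, inv_mul_cancel, cjg_one]
  have e2 : cjg a (f 2) = cjg h S₀ := by rw [hf2, cjg_cjg, ha, inv_mul_cancel_left]
  have tr : ∀ {H₀ T V E Tm Vm B : Subgroup Ω}, Half p q H₀ T V E Tm Vm B →
      Half p q (cjg a H₀) (cjg a T) (cjg a V) (cjg a E) (cjg a Tm) (cjg a Vm) (cjg a B) := by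
    intro H₀ T V E Tm Vm B hH
    have hinj : Function.Injective (MulAut.conj a⁻¹).toMonoidHom := MulEquiv.injective _
    refine Half.map_inj hinj ?_
    have hback : ∀ K : Subgroup Ω, (cjg a K).map (MulAut.conj a⁻¹).toMonoidHom = K := fun K => by
      show cjg a⁻¹ (cjg a K) = K
      rw [cjg_cjg, inv_mul_cancel, cjg_one]
    simp only [hback]
    exact hH
  have Hl' := tr Hl
  have Hr' := tr Hr
  rw [eG, eT, eV, e1] at Hl'
  rw [eG, eT, eV, e2] at Hr'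
  refine ⟨a, h, e1, eV, hh, Hl', Hr', fun h' => hcr 1 (by omega) ?_, ?_, ?_⟩
  · have h2 := cjg_mono (a := a⁻¹) h'
    rwa [cjg_centralizer, cjg_cjg a⁻¹ a, cjg_cjg a⁻¹ a, inv_mul_cancel, cjg_one, cjg_one] at h2
  · exact Hl'.side.T_le.trans A.edge.E_le
  · refine Hr'.side.T_le.trans ?_
    rintro _ ⟨x, hx, rfl⟩
    exact G₁.mul_mem (G₁.mul_mem (A.W_mem h hh) (A.edge.E_le hx)) (G₁.inv_mem (A.W_mem h hh))

end Amb

end CfsgLib.PushingUp
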