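/-
The pushing-up theorem for a PSL₂ quotient: either case I or case II holds.
-/
import Mathlib
import Cfsg.Agent.Lib.PushingUp.Graph
import Cfsg.Agent.Lib.PushingUp.CaseOne
import Cfsg.Agent.Lib.PushingUp.CaseTwo

set_option autoImplicit false
set_option linter.style.haveILetI false
set_option linter.unusedSectionVars false

open scoped commutatorElement MatrixGroups

namespace CfsgLib.PushingUp

open Cfsg CfsgLib.LocalEven.NaturalRecognition

variable {G : Type*} [Group G]

local notation:max "𝐂(" R ")" => Subgroup.centralizer (SetLike.coe R)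

local notation:max "𝐍(" R ")" => Subgroup.normalizer (SetLike.coe R)

/-- The right regular embedding. -/
def regHom (G : Type*) [Group G] : G →* Equiv.Perm G :=
  MonoidHom.mk' (fun g => Equiv.mulRight g⁻¹) fun a b => Equiv.ext fun x => by
    show x * (a * b)⁻¹ = x * b⁻¹ * a⁻¹
    group

theorem regHom_apply (g x : G) : regHom G g x = x * g⁻¹ := rfl

theorem regHom_injective : Function.Injective (regHom G) := fun a b h => by
  have := congrArg (fun e : Equiv.Perm G => e 1) h
  simpa [regHom_apply] using this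

/-- Move the `S`-component of the coset decomposition by `α`. -/
noncomputable def cosetMove (S : Subgroup G) (α : ↥S ≃* ↥S) (x : G) : G :=
  (Quotient.out (QuotientGroup.mk x : G ⧸ S)) *
    (α ⟨(Quotient.out (QuotientGroup.mk x : G ⧸ S))⁻¹ * x,
      QuotientGroup.eq.1 (QuotientGroup.out_eq' _)⟩ : ↥S)

theorem cosetMove_mk (S : Subgroup G) (α : ↥S ≃* ↥S) (x : G) :
    (QuotientGroup.mk (cosetMove S α x) : G ⧸ S) = QuotientGroup.mk x := by
  unfold cosetMove
  rw [QuotientGroup.mk_mul_of_mem _ (SetLike.coe_mem _), QuotientGroup.out_eq']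

theorem cosetMove_cosetMove (S : Subgroup G) (α β : ↥S ≃* ↥S) (hab : ∀ s, β (α s) = s) (x : G) :
    cosetMove S β (cosetMove S α x) = x := by
  have h := cosetMove_mk S α x
  conv_lhs => rw [cosetMove]
  simp only [h]
  unfold cosetMove
  simp only [inv_mul_cancel_left, Subtype.coe_eta, hab]
  rw [mul_inv_cancel_left]

theorem cosetMove_mul (S : Subgroup G) (α : ↥S ≃* ↥S) (x : G) (s : ↥S) :
    cosetMove S α (x * s) = cosetMove S α x * (α s : ↥S) := by
  have h : (QuotientGroup.mk (x * (s : G)) : G ⧸ S) = QuotientGroup.mk x := QuotientGroup.mk_mul_of_mem _ s.2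
  unfold cosetMove
  simp only [h]
  rw [mul_assoc, ← Subgroup.coe_mul, ← map_mul]
  congr 3
  exact Subtype.ext (mul_assoc _ _ _).symm

/-- Every automorphism of `S` is conjugation by a permutation. -/
theorem exists_conj_aut (S : Subgroup G) (α : ↥S ≃* ↥S) :
    ∃ ω : Equiv.Perm G, ω ∈ 𝐍(S.map (regHom G)) ∧
      ∀ s : ↥S, ω * regHom G s * ω⁻¹ = regHom G ((α s : ↥S) : G) := by
  let ω : Equiv.Perm G :=
    { toFun := cosetMove S α
      invFun := cosetMove S α.symm
      left_inv := cosetMove_cosetMove S α α.symm α.symm_apply_apply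
      right_inv := cosetMove_cosetMove S α.symm α α.apply_symm_apply }
  have key : ∀ s : ↥S, ω * regHom G s * ω⁻¹ = regHom G ((α s : ↥S) : G) := by
    intro s
    rw [mul_inv_eq_iff_eq_mul]
    refine Equiv.ext fun x => ?_
    show cosetMove S α (x * (s : G)⁻¹) = cosetMove S α x * ((α s : ↥S) : G)⁻¹
    rw [← Subgroup.coe_inv, cosetMove_mul, map_inv, Subgroup.coe_inv]
  refine ⟨ω, Subgroup.mem_normalizer_iff.2 fun y => ⟨?_, ?_⟩, key⟩
  · rintro ⟨s, hs, rfl⟩
    exact ⟨_, (α ⟨s, hs⟩).2, (key ⟨s, hs⟩).symm⟩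
  · rintro ⟨s, hs, e⟩
    refine ⟨_, (α.symm ⟨s, hs⟩).2, ?_⟩
    have h1 := key (α.symm ⟨s, hs⟩)
    rw [MulEquiv.apply_symm_apply, show regHom G ((⟨s, hs⟩ : ↥S) : G) = ω * y * ω⁻¹ from e] at h1
    exact mul_left_cancel (mul_right_cancel h1)

theorem pr_wel_neg {F : Type} [Field F] : Elation.pr F (wel (-1)) = Elation.pr F (wel 1) := by
  refine QuotientGroup.eq.2 (Matrix.SpecialLinearGroup.mem_center_iff.2 ⟨-1, by simp, ?_⟩)
  have e : (wel (-1 : F))⁻¹ = wel 1 := inv_eq_of_mul_eq_one_right (by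
    have := wel_mul_wel_neg (F := F) (neg_ne_zero.2 (one_ne_zero (α := F)))
    rwa [neg_neg] at this)
  rw [e, val_mul, wel_coe one_ne_zero]
  ext i j
  fin_cases i <;> fin_cases j <;> simp [Matrix.mul_apply, Fin.sum_univ_two]

variable [Finite G] {p : ℕ} [hp : Fact p.Prime] {F : Type} [Field F] [Fintype F] {S : Subgroup G}

theorem exists_amb (hE : IsPushingUpSituation p S) (hd : HD S) (pr' : Proj p F S) {T V N : Subgroup G}
    (hb : Edge p (Fintype.card F) ⊤ S T V N) :
    Amb p (Fintype.card F) ((⊤ : Subgroup G).map (regHom G)) (S.map (regHom G)) (T.map (regHom G))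
      (V.map (regHom G)) (N.map (regHom G)) (regHom G '' {h | pr'.φ h = Elation.pr F (wel 1)}) := by
  refine ⟨hb.map regHom_injective, ?_, ?_, ?_, ?_, ?_⟩
  · rintro _ ⟨h, -, rfl⟩
    exact ⟨h, Subgroup.mem_top h, rfl⟩
  · rintro _ ⟨h, hh, rfl⟩
    refine ⟨h⁻¹, ?_, map_inv _ _⟩
    show pr'.φ h⁻¹ = _
    rw [map_inv, show pr'.φ h = _ from hh, ← map_inv, inv_eq_of_mul_eq_one_right (wel_mul_wel_neg one_ne_zero),
      pr_wel_neg]
  · rintro _ ⟨h, hh, rfl⟩
    have hgen : S ⊔ S.map (MulAut.conj h).toMonoidHom = ⊤ := by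
      obtain ⟨s, hs1, hsφ⟩ := pr'.up_surj 1
      refine Proj.gen pr' hE h ⟨s, hs1, fun t e => ?_⟩
      rw [map_mul, map_mul, map_inv, show pr'.φ h = _ from hh, hsφ, ← map_inv, ← map_mul, ← map_mul,
        Elation.conj_wel_up one_ne_zero] at e
      have := Elation.entry_eq_zero e (Elation.entry_up t)
      rw [Elation.entry_lo] at this
      simp at this
    rw [← hgen, Subgroup.map_sup, cjg, Subgroup.map_map, Subgroup.map_map]
    exact sup_le le_sup_left (le_trans (le_of_eq (by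
      congr 1
      exact MonoidHom.ext fun x => by simp)) le_sup_right)
  · obtain ⟨h, hh⟩ := pr'.surj (Elation.pr F (wel 1))
    exact ⟨_, h, hh, rfl⟩
  · intro C hCS hC
    by_contra hall
    push Not at hall
    set ι := regHom G
    set D := ⨆ ω : ↥(𝐍(S.map ι)), cjg (ω : Equiv.Perm G) C with hD
    have hDS : D ≤ S.map ι := iSup_le fun ω => (cjg_mono hCS).trans (cjg_of_mem ω.2).le
    have hCD : C ≤ D := by
      refine le_trans ?_ (le_iSup (fun ω : ↥(𝐍(S.map ι)) => cjg (ω : Equiv.Perm G) C) ⟨1, Subgroup.one_mem _⟩)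
      rw [cjg_one]
    have hmap : (D.comap ι).map ι = D :=
      Subgroup.map_comap_eq_self (hDS.trans (by rintro _ ⟨x, -, rfl⟩; exact ⟨x, rfl⟩))
    refine hd (D.comap ι) (fun x hx => (Subgroup.mem_map_iff_mem regHom_injective).1 (hDS hx)) ?_ ?_ ?_
    · intro e
      refine hC (le_bot_iff.1 ?_)
      rw [← Subgroup.map_bot ι, ← e, hmap]
      exact hCD
    · intro α x hx
      obtain ⟨ω, hω, hω'⟩ := exists_conj_aut S α
      show ι ((α x : ↥S) : G) ∈ D
      rw [← hω']
      have hinv : cjg ω D ≤ D := by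
        rw [cjg, Subgroup.map_iSup]
        refine iSup_le fun τ => ?_
        change cjg ω (cjg (τ : Equiv.Perm G) C) ≤ D
        rw [cjg_cjg]
        exact le_iSup (fun ω : ↥(𝐍(S.map ι)) => cjg (ω : Equiv.Perm G) C) ⟨ω * τ, Subgroup.mul_mem _ hω τ.2⟩
      exact hinv (conj_mem_cjg hx)
    · refine ⟨fun x hx g => ?_⟩
      show ι (g * x * g⁻¹) ∈ D
      rw [map_mul, map_mul, map_inv]
      have hle : D ≤ D.comap (MulAut.conj (ι g)).toMonoidHom := by
        refine iSup_le fun ω z hz => ?_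
        have h1 : ((⊤ : Subgroup G).map ι) ≤ 𝐍(cjg (ω : Equiv.Perm G) C) := by
          have h2 := cjg_normalizer (a := (ω : Equiv.Perm G)) (hall _ (Subgroup.inv_mem _ ω.2))
          rwa [cjg_cjg, mul_inv_cancel, cjg_one] at h2
        exact (le_iSup (fun ω : ↥(𝐍(S.map ι)) => cjg (ω : Equiv.Perm G) C) ω)
          ((Subgroup.mem_normalizer_iff.1 (h1 ⟨g, Subgroup.mem_top g, rfl⟩) z).1 hz)
      exact hle hx

theorem two_contra {pr' : Proj p F S} {T V N : Subgroup G} [T.Normal] [V.Normal] [N.Normal] {h : G}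
    {Tm Vm B Tp Vp B' : Subgroup G} (hE : IsPushingUpSituation p S) (hb : Edge p (Fintype.card F) ⊤ S T V N)
    (C : Two pr' T V h Tm Vm B Tp Vp B') (hq : ⁅Vp, S⁆ ≤ Vm) (hB : ⁅B, S⁆ ≤ V) : False := by
  obtain ⟨hUT, -, -⟩ := C.comm_T hE hb
  have hne : T ≠ Tm := C.left.ne
  have hinf := C.left.mid.twin_inf C.left.side hne
  have h1 : ⁅Vp, S⁆ ≤ S ⊓ 𝐂(S) := by
    conv_lhs => rw [← C.left.sup_B]
    refine commutator_sup_le ?_ ?_ ?_
    · refine le_trans (le_inf ?_ ((Subgroup.commutator_mono le_rfl C.left.B_le).trans hq)) hinf.le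
      rw [Subgroup.commutator_comm]
      exact (Subgroup.commutator_mono le_rfl (C.right.Vm_le.trans C.left.mid.T_le)).trans hB
    · refine le_trans ?_ (C.N_le hb).1
      exact (Subgroup.commutator_mono ((le_sup_right.trans le_sup_right : Vp ≤ Two.bigU V Vm Vp)) le_rfl).trans hUT
    · rw [C.left.sup_B]
      exact (Subgroup.le_centralizer_iff.1 inf_le_right).trans (Subgroup.centralizer_le_normalizer _)
  refine C.right.not_normal (le_normalizer_of_normal (C.normal_of hE ?_ C.right.nLam) _)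
  rw [sup_comm]
  exact normalizes_sup C.left.mid.nV (h1.trans (C.left.mid.Z_le.trans le_sup_right))

/-- The edge at the base vertex. -/
theorem base_edge_hd (hE : IsPushingUpSituation p S) (hd : HD S) (pr' : Proj p F S) :
    Edge p (Fintype.card F) ⊤ S (pCore p G) (closureZ S) (closureZ S ⊓ Subgroup.center G) := by
  obtain ⟨⟨A, hA, hAT⟩, hJ, hpow⟩ := hd_facts hE hd
  exact base_edge hE pr' (center_not_le hE hd) hA hAT hJ hpow

/-- The two configurations of the pushing-up theorem. -/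
theorem exists_cases (hE : IsPushingUpSituation p S) (hd : HD S) (pr' : Proj p F S) :
    (∃ (q' : ℕ) (T' V' : Subgroup G), Side p q' S T' V' ∧ ¬ V' ≤ pCore p G) ∨
      ∃ (h : G) (Tm Vm B Tp Vp B' : Subgroup G),
        Two pr' (pCore p G) (closureZ S) h Tm Vm B Tp Vp B' ∧ ¬ ⁅Vp, S⁆ ≤ Vm := by
  obtain ⟨⟨A, hA, hAT⟩, hJ, hpow⟩ := hd_facts hE hd
  have hb := base_edge hE pr' (center_not_le hE hd) hA hAT hJ hpow
  set T := pCore p G with hT
  set V := closureZ S
  set N := V ⊓ Subgroup.center G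
  haveI : T.Normal := pCore_normal p G
  haveI : N.Normal := by infer_instance
  have amb := exists_amb hE hd pr' hb
  set ι := regHom G with hι
  have hinj : Function.Injective ι := regHom_injective
  have hpull : ∀ {K : Subgroup (Equiv.Perm G)}, K ≤ (⊤ : Subgroup G).map ι → (K.comap ι).map ι = K := fun hK =>
    Subgroup.map_comap_eq_self (hK.trans (by rintro _ ⟨x, -, rfl⟩; exact ⟨x, rfl⟩))
  obtain ⟨b, w, e, hb1, hC, hw⟩ := amb.exists_crit
  have hb2 := amb.b_le_two hC hw
  obtain rfl | rfl : b = 1 ∨ b = 2 := by omega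
  · obtain ⟨T', V', hs, hnle⟩ := amb.out_one hC hw
    have hSG : S.map ι ≤ (⊤ : Subgroup G).map ι := Subgroup.map_mono le_top
    have hT'G := hs.T_le.trans hSG
    have hV'G := hs.V_le_E.trans hSG
    rw [← hpull hT'G, ← hpull hV'G] at hs
    exact Or.inl ⟨_, _, _, hs.map_inj hinj, fun hle => hnle (by
      rw [← hpull hV'G]; exact Subgroup.map_mono hle)⟩
  · right
    obtain ⟨a, f, hinc, hopp, hcrit, -⟩ := amb.exists_seq hC le_rfl hw
    have pull : ∀ {v : ℕ → Equiv.Perm G} {f : ℕ → Subgroup (Equiv.Perm G)},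
        Amb.Line ((⊤ : Subgroup G).map ι) (S.map ι) (V.map ι) (ι '' {h | pr'.φ h = Elation.pr F (wel 1)}) v f →
        ∃ (a : Equiv.Perm G) (h : G) (Tm Vm B Tp Vp B' : Subgroup G), Two pr' T V h Tm Vm B Tp Vp B' ∧
          cjg a (f 1) = S.map ι ∧ cjg a (cjg (v 2) (V.map ι)) = V.map ι ∧
          cjg a (cjg (v 1) (V.map ι)) = Vm.map ι ∧ cjg a (cjg (v 0) (V.map ι)) = B.map ι ∧
          cjg a (cjg (v 3) (V.map ι)) = Vp.map ι := by
      intro v f hL
      obtain ⟨a, h, e1, eV, hh, hl, hr, hnc, hTm, hTp⟩ := amb.line_cfg hC hL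
      obtain ⟨h, hh, rfl⟩ := hh
      have hSG : S.map ι ≤ (⊤ : Subgroup G).map ι := Subgroup.map_mono le_top
      have hcj : cjg (ι h) (S.map ι) = (S.map (MulAut.conj h).toMonoidHom).map ι := by
        rw [cjg, Subgroup.map_map, Subgroup.map_map]
        congr 1
        exact MonoidHom.ext fun x => by simp
      rw [hcj] at hr
      have hSG' : (S.map (MulAut.conj h).toMonoidHom).map ι ≤ (⊤ : Subgroup G).map ι := Subgroup.map_mono le_top
      have eVm := (hpull (hl.side.V_le_E.trans hSG)).symm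
      have eB := (hpull (hl.B_le.trans hSG)).symm
      have eTm := (hpull hTm).symm
      have eVp := (hpull (hr.side.V_le_E.trans hSG')).symm
      have eB' := (hpull (hr.B_le.trans hSG')).symm
      have eTp := (hpull hTp).symm
      rw [eTm, eVm, eB] at hl
      rw [eTp, eVp, eB'] at hr
      refine ⟨a, h, _, _, _, _, _, _, ⟨hh, hl.map_inj hinj, hr.map_inj hinj, fun hcm => hnc ?_⟩, e1, eV,
        eVm, eB, eVp⟩
      rw [eVm, eVp]
      rintro _ ⟨x, hx, rfl⟩
      refine Subgroup.mem_centralizer_iff.2 ?_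
      rintro _ ⟨y, hy, rfl⟩
      rw [← map_mul, ← map_mul, Subgroup.mem_centralizer_iff.1 (hcm hx) y hy]
    obtain ⟨a₀, h₀, Tm, Vm, B, Tp, Vp, B', C₀, f1, -, g1, -, g3⟩ := pull (v := fun i => a (4 - i)) (f := fun i => f (3 - i))
      ⟨fun i hi => by
          show Amb.Inc _ _ (a (4 - i)) (f (3 - i)) ∧ Amb.Inc _ _ (a (4 - (i + 1))) (f (3 - i))
          have h1 := hinc (3 - i)
          rw [show 3 - i + 1 = 4 - i by omega] at h1
          rw [show 4 - (i + 1) = 3 - i by omega]
          exact ⟨h1.2, h1.1⟩,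
        (by simpa using Amb.opp_symm amb (hopp 1)), fun i hi h' => hcrit (4 - (i + 2)) (by
          rw [show 4 - (i + 2) + 2 = 4 - i by omega]
          exact Subgroup.le_centralizer_iff.1 h')⟩
    by_cases hq : ⁅Vp, S⁆ ≤ Vm
    · obtain ⟨a₁, h₁, Tm1, Vm1, B1, Tp1, Vp1, B1', C₁, k1, kV, -, kB, -⟩ :=
        pull (v := fun i => a (1 + i)) (f := fun i => f (1 + i))
          ⟨fun i _ => hinc (1 + i), hopp 2, fun i _ => hcrit (1 + i)⟩
      by_cases hq1 : ⁅Vp1, S⁆ ≤ Vm1
      · refine (two_contra hE hb C₁ hq1 ?_).elim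
        rw [← Subgroup.map_le_map_iff_of_injective hinj, Subgroup.map_commutator]
        rw [← Subgroup.map_le_map_iff_of_injective hinj, Subgroup.map_commutator] at hq
        rw [← g3, ← f1, ← g1, ← cjg_commutator] at hq
        rw [← kV, ← kB, ← k1, ← cjg_commutator]
        refine cjg_mono ?_
        have h5 := cjg_mono (a := a₀⁻¹) hq
        rw [cjg_cjg, inv_mul_cancel, cjg_one, cjg_cjg, inv_mul_cancel, cjg_one] at h5
        simpa using h5
      · exact ⟨_, _, _, _, _, _, _, C₁, hq1⟩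
    · exact ⟨_, _, _, _, _, _, _, C₀, hq⟩

/-- The pushing-up theorem. -/
theorem pushing_up (hE : IsPushingUpSituation p S) (hd : HD S) (pr' : Proj p F S) :
    OutI p F S ∨ OutII p F S := by
  have hb := base_edge_hd hE hd pr'
  haveI : (pCore p G).Normal := pCore_normal p G
  obtain ⟨q', T', V', hs, hV'⟩ | ⟨h, Tm, Vm, B, Tp, Vp, B', C, hq⟩ := exists_cases hE hd pr'
  · exact Or.inl (caseOne hE hd pr' rfl hb hs hV')
  · exact Or.inr (C.struct hE rfl hb hd hq)

end CfsgLib.PushingUp
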