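/-
A Sylow subgroup containing the kernel of a `PSL₂` quotient lies in exactly one maximal subgroup.
-/
import Mathlib
import Cfsg.Agent.Lib.PushingUp.PSLTwo
import Cfsg.Agent.Lib.ClassicalGroups.PermModel

set_option autoImplicit false
set_option linter.unusedSectionVars false

open scoped Pointwise

namespace CfsgLib.PushingUp

variable {G : Type*} [Group G] [Finite G] {p : ℕ} [hp : Fact p.Prime]

theorem exists_psl_field {F : Type*} [Field F] [Fintype F] {n : ℕ} (hn : 1 ≤ n) (hF : Fintype.card F = p ^ n)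
    (K : Subgroup G) [K.Normal] (e : G ⧸ K ≃* Matrix.ProjectiveSpecialLinearGroup (Fin 2) F) :
    ∃ (E : Type) (_ : Field E) (_ : Fintype E), Fintype.card E = p ^ n ∧
      Nonempty (G ⧸ K ≃* Matrix.ProjectiveSpecialLinearGroup (Fin 2) E) := by
  haveI : Fintype (GaloisField p n) := Fintype.ofFinite _
  have hE : Fintype.card (GaloisField p n) = p ^ n := by
    rw [← Nat.card_eq_fintype_card, GaloisField.card p n (by omega)]
  exact ⟨GaloisField p n, inferInstance, inferInstance, hE,
    ⟨e.trans (CfsgLib.ClassicalGroups.pslFieldCongr (FiniteField.ringEquivOfCardEq (hF.trans hE.symm)))⟩⟩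

theorem existsUnique_coatom (S : Sylow p G) (K : Subgroup G) [K.Normal] (hKS : K ≤ S) {F : Type*} [Field F]
    [Fintype F] {n : ℕ} (hF : Fintype.card F = p ^ n)
    (e : G ⧸ K ≃* Matrix.ProjectiveSpecialLinearGroup (Fin 2) F) :
    ∃! M : Subgroup G, IsCoatom M ∧ (S : Subgroup G) ≤ M := by
  set φ := e.toMonoidHom.comp (QuotientGroup.mk' K)
  have hφ : Function.Surjective φ := e.surjective.comp (QuotientGroup.mk'_surjective K)
  have hker : φ.ker = K := by
    ext x
    rw [MonoidHom.mem_ker]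
    show e (QuotientGroup.mk' K x) = 1 ↔ _
    rw [MulEquiv.map_eq_one_iff]
    exact QuotientGroup.eq_one_iff x
  obtain ⟨-, hnum, -, -, hsup⟩ := psl_two_sylow (p := p) hF
  set R := S.mapSurjective hφ with hR
  set B := (Subgroup.normalizer ((R : Subgroup (Matrix.ProjectiveSpecialLinearGroup (Fin 2) F)) :
    Set (Matrix.ProjectiveSpecialLinearGroup (Fin 2) F))).comap φ with hB
  have hSB : (S : Subgroup G) ≤ B := fun x hx => Subgroup.le_normalizer ⟨x, hx, rfl⟩
  have hne : B ≠ ⊤ := by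
    intro h
    have hfix : ∀ x : Matrix.ProjectiveSpecialLinearGroup (Fin 2) F, x • R = R := fun x => by
      obtain ⟨g, rfl⟩ := hφ x
      exact Sylow.smul_eq_iff_mem_normalizer.2 (h.ge (Subgroup.mem_top g) : g ∈ B)
    haveI : Subsingleton (Sylow p (Matrix.ProjectiveSpecialLinearGroup (Fin 2) F)) := ⟨fun A A' => by
      obtain ⟨a, rfl⟩ := MulAction.exists_smul_eq (Matrix.ProjectiveSpecialLinearGroup (Fin 2) F) R A
      obtain ⟨a', rfl⟩ := MulAction.exists_smul_eq (Matrix.ProjectiveSpecialLinearGroup (Fin 2) F) R A'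
      rw [hfix, hfix]⟩
    have h1 := Finite.card_le_one_iff_subsingleton.2 this
    have h2 : 0 < Fintype.card F := Fintype.card_pos
    omega
  have key : ∀ M : Subgroup G, (S : Subgroup G) ≤ M → ¬ M ≤ B → M = ⊤ := by
    intro M hM hMB
    obtain ⟨m, hm, hmB⟩ := SetLike.not_le_iff_exists.1 hMB
    have h1 : φ m • R ≠ R := fun h => hmB (Sylow.smul_eq_iff_mem_normalizer.1 h)
    have h2 := (hsup _ _ h1).1
    have h3 : M.map φ = ⊤ := by
      rw [eq_top_iff, ← h2]
      refine sup_le ?_ ((Sylow.coe_mapSurjective hφ S).le.trans (Subgroup.map_mono hM))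
      rintro _ ⟨x, ⟨s, hs, rfl⟩, rfl⟩
      exact ⟨m * s * m⁻¹, M.mul_mem (M.mul_mem hm (hM hs)) (M.inv_mem hm), by simp⟩
    have h4 := Subgroup.comap_map_eq_self (f := φ) (H := M) (hker.le.trans (hKS.trans hM))
    rw [← h4, h3, Subgroup.comap_top]
  have hBco : IsCoatom B := ⟨hne, fun C hC => key C (hSB.trans hC.le) hC.not_ge⟩
  refine ⟨B, ⟨hBco, hSB⟩, fun M hM => ?_⟩
  have hMB : M ≤ B := by_contra fun h => hM.1.1 (key M hM.2 h)
  exact (hMB.eq_or_lt.resolve_right fun h => hne (hM.1.2 B h))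

end CfsgLib.PushingUp
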